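import Mathlib

/-!
Index of the core of a subgroup of a stabiliser, and a bound for automorphisms of an elementary abelian group.
-/

set_option autoImplicit false

namespace Cfsg.Lib.SolvLinear

open Subgroup

universe u

variable {G : Type u} [Group G] [Finite G]

/-- The index of the core of a normal subgroup `P` of `H`. -/
theorem index_core_le (H P : Subgroup G) (hPH : P ≤ H) (hn : H ≤ normalizer (P : Set G)) :
    P.normalCore.index ≤ H.normalCore.index * P.relIndex H ^ H.index := by
  classical
  haveI := Fintype.ofFinite (G ⧸ H)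
  set C := H.normalCore
  let cj : G ⧸ H → (G ≃* G) := fun q => MulAut.conj (q.out : G)
  let f : G ⧸ H → Subgroup G := fun q => P.map (cj q).toMonoidHom
  have hle : C ⊓ (⨅ q, f q) ≤ P.normalCore := by
    rintro x ⟨-, hx⟩ g
    have hx' : x ∈ f ((g⁻¹ : G) : G ⧸ H) := (Subgroup.mem_iInf.1 hx) _
    obtain ⟨y, hy, hxy⟩ := hx'
    obtain ⟨h, hh⟩ := QuotientGroup.mk_out_eq_mul H (g⁻¹ : G)
    have hxy' : g⁻¹ * h * y * (g⁻¹ * h)⁻¹ = x := by rw [← hh]; exact hxy
    have he : g * x * g⁻¹ = (h : G) * y * (h : G)⁻¹ := by rw [← hxy']; group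
    rw [he]
    exact (mem_normalizer_iff.1 (hn h.2) y).1 hy
  have hrel : ∀ q, (f q).relIndex C ≤ P.relIndex H := by
    intro q
    have hC : C = C.map (cj q).toMonoidHom := by
      ext x
      constructor
      · intro hx
        exact ⟨(cj q).symm x, by
          simpa [cj, MulAut.conj_symm_apply] using (inferInstance : C.Normal).conj_mem x hx (q.out : G)⁻¹,
          by simp⟩
      · rintro ⟨y, hy, rfl⟩
        exact (inferInstance : C.Normal).conj_mem y hy _
    conv_lhs => rw [hC]
    rw [Subgroup.relIndex_map_map_of_injective _ _ (cj q).injective]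
    exact Subgroup.relIndex_le_of_le_right (normalCore_le H) Subgroup.FiniteIndex.index_ne_zero
  calc P.normalCore.index ≤ (C ⊓ ⨅ q, f q).index := by
        exact Nat.le_of_dvd (Nat.pos_of_ne_zero Subgroup.index_ne_zero_of_finite) (Subgroup.index_dvd_of_le hle)
    _ = (⨅ q, f q).relIndex C * C.index := by
        rw [← Subgroup.relIndex_mul_index (inf_le_left : C ⊓ (⨅ q, f q) ≤ C), inf_comm,
          Subgroup.inf_relIndex_right]
    _ ≤ (∏ q, (f q).relIndex C) * C.index := Nat.mul_le_mul_right _ (Subgroup.relIndex_iInf_le f)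
    _ ≤ (∏ _q : G ⧸ H, P.relIndex H) * C.index :=
        Nat.mul_le_mul_right _ (Finset.prod_le_prod (fun _ _ => Nat.zero_le _) fun q _ => hrel q)
    _ = _ := by
        rw [Finset.prod_const, Finset.card_univ, ← Nat.card_eq_fintype_card, ← Subgroup.index_eq_card,
          mul_comm]

/-- The core is bounded by permutations of the cosets. -/
theorem index_core_le_factorial (H : Subgroup G) : H.normalCore.index ≤ (H.index).factorial := by
  classical
  haveI := Fintype.ofFinite (G ⧸ H)
  rw [Subgroup.normalCore_eq_ker, Subgroup.index_ker, Subgroup.index_eq_card H, ← Nat.card_perm]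
  exact Nat.card_le_card_of_injective _ Subtype.val_injective

/-- Automorphisms of an elementary abelian group. -/
theorem card_autos_le {V : Type u} [AddCommGroup V] [Finite V] {p d : ℕ} [hp : Fact p.Prime]
    (hexp : ∀ v : V, p • v = 0) (hcard : Nat.card V = p ^ d) :
    Finite (V ≃+ V) ∧ Nat.card (V ≃+ V) ≤ ∏ i : Fin d, (p ^ d - p ^ (i : ℕ)) := by
  classical
  haveI : Finite (V ≃+ V) := Finite.of_injective (fun e : V ≃+ V => (e : V → V)) DFunLike.coe_injective
  refine ⟨inferInstance, ?_⟩
  letI : Module (ZMod p) V := AddCommGroup.zmodModule (n := p) hexp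
  haveI : Module.Finite (ZMod p) V := Module.Finite.of_finite
  have hd : Module.finrank (ZMod p) V = d := by
    have h : Nat.card V = p ^ Module.finrank (ZMod p) V := by
      rw [Module.natCard_eq_pow_finrank (K := ZMod p), Nat.card_zmod]
    rw [hcard] at h
    exact (Nat.pow_right_injective hp.out.two_le h).symm
  haveI : Module.Free (ZMod p) V := Module.Free.of_basis (Module.Basis.ofVectorSpace (ZMod p) V)
  let e : V ≃ₗ[ZMod p] (Fin d → ZMod p) := (Module.finBasisOfFinrankEq (ZMod p) V hd).equivFun
  let f : (V ≃+ V) → GL (Fin d) (ZMod p) := fun a =>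
    Matrix.GeneralLinearGroup.toLin.symm ((LinearMap.GeneralLinearGroup.generalLinearEquiv _ _).symm
      ((e.symm.trans (a.toLinearEquiv (fun c x => ZMod.map_smul a c x))).trans e))
  have hf : Function.Injective f := by
    intro a b h
    have h1 := (LinearMap.GeneralLinearGroup.generalLinearEquiv _ _).symm.injective
      (Matrix.GeneralLinearGroup.toLin.symm.injective h)
    refine AddEquiv.ext fun x => e.injective ?_
    simpa using LinearEquiv.congr_fun h1 (e x)
  refine (Nat.card_le_card_of_injective f hf).trans (le_of_eq ?_)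
  rw [Matrix.card_GL_field, ZMod.card]

end Cfsg.Lib.SolvLinear
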