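import Cfsg.Agent.SolvLinear.Reduction

/-!
Class numbers of solvable groups with a prime dividing the index of the Fitting subgroup.
-/

set_option autoImplicit false
set_option linter.style.haveILetI false
set_option linter.unusedSectionVars false

namespace Cfsg.Lib.SolvLinear

open Cfsg.Lib.OddBase Subgroup
open scoped Pointwise

universe u

theorem pow_twelve_le : ∀ n : ℕ, n ^ 12 ≤ 50 ^ 6 * 2 ^ n := by
  intro n
  induction n with
  | zero => norm_num
  | succ n ih =>
    rcases Nat.lt_or_ge n 20 with h | h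
    · interval_cases n <;> norm_num
    · have h1 := Nat.pow_le_pow_left (show 20 * (n + 1) ≤ 21 * n by omega) 12
      rw [mul_pow, mul_pow] at h1
      rw [pow_succ 2 n]
      norm_num at h1 ih ⊢
      omega

theorem pow_six_le : ∀ n : ℕ, n ^ 6 ≤ 1100 * 2 ^ n := by
  intro n
  induction n with
  | zero => norm_num
  | succ n ih =>
    rcases Nat.lt_or_ge n 10 with h | h
    · interval_cases n <;> norm_num
    · have h1 := Nat.pow_le_pow_left (show 10 * (n + 1) ≤ 11 * n by omega) 6
      rw [mul_pow, mul_pow] at h1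
      rw [pow_succ 2 n]
      norm_num at h1 ih ⊢
      omega

theorem pow_four_le : ∀ n : ℕ, 80 ≤ n → 100 * n ^ 4 ≤ 2 ^ n := by
  intro n hn
  induction n, hn using Nat.le_induction with
  | base => norm_num
  | succ n hn ih =>
    have h1 := Nat.pow_le_pow_left (show 10 * (n + 1) ≤ 11 * n by omega) 4
    rw [mul_pow, mul_pow] at h1
    rw [pow_succ 2 n]
    norm_num at h1 ih ⊢
    omega

theorem t2_le_pow (B : ℕ) (h : 6 ≤ B) : t2 B = 9 ^ (B - 1) := by
  simp [t2, show ¬ B ≤ 1 by omega, show B ≠ 2 by omega, show B ≠ 3 by omega, show B ≠ 4 by omega,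
    show B ≠ 5 by omega]

theorem t2_mul {b δ : ℕ} (hb : 1 ≤ b) (hδ : 1 ≤ δ) : t2 b * (δ ^ 2) ^ b ≤ t2 (b * δ) := by
  rcases eq_or_lt_of_le hδ with h | h
  · subst h; simp
  have hB : 2 ≤ b * δ := le_trans h (Nat.le_mul_of_pos_left δ hb)
  rcases Nat.lt_or_ge (b * δ) 6 with h6 | h6
  · have hδ5 : δ ≤ 5 := le_trans (Nat.le_mul_of_pos_left δ hb) (by omega)
    have hb2 : b ≤ 2 := by
      by_contra hc
      have : 3 * 2 ≤ b * δ := Nat.mul_le_mul (by omega) h
      omega
    interval_cases b <;> interval_cases δ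
    all_goals first | decide | omega
  rw [t2_le_pow _ h6]
  have ht : t2 b ≤ 9 ^ (b - 1) := by
    rcases Nat.lt_or_ge b 6 with h | h
    · interval_cases b <;> norm_num [t2]
    · rw [t2_le_pow _ h]
  have hd : 9 * δ ^ 2 ≤ 9 ^ δ := by
    obtain ⟨c, rfl⟩ : ∃ c, δ = c + 2 := ⟨δ - 2, by omega⟩
    clear h hδ hB h6
    induction c with
    | zero => norm_num
    | succ c ih =>
      have : (c + 1 + 2) ^ 2 ≤ 9 * (c + 2) ^ 2 :=
        (Nat.pow_le_pow_left (show c + 1 + 2 ≤ 3 * (c + 2) by omega) 2).trans (le_of_eq (by ring))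
      calc 9 * (c + 1 + 2) ^ 2 ≤ 9 * (9 * (c + 2) ^ 2) := Nat.mul_le_mul_left _ this
        _ ≤ 9 * 9 ^ (c + 2) := Nat.mul_le_mul_left _ ih
        _ = _ := by rw [← pow_succ']
  refine Nat.le_of_mul_le_mul_left ?_ (show 0 < 9 by norm_num)
  calc 9 * (t2 b * (δ ^ 2) ^ b) ≤ 9 * (9 ^ (b - 1) * (δ ^ 2) ^ b) := by gcongr
    _ = (9 * δ ^ 2) ^ b := by
        rw [mul_pow, ← mul_assoc, ← pow_succ']
        congr 2
        omega
    _ ≤ (9 ^ δ) ^ b := Nat.pow_le_pow_left hd b
    _ = 9 * 9 ^ (b * δ - 1) := by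
        rw [← pow_mul, ← pow_succ', mul_comm δ b]
        congr 1
        omega

/-- The numerical core. -/
theorem num_prime {p n B W : ℕ} (hp : 97 ≤ p) (hB : 1 ≤ B) (h1 : p ^ 3 < W) (h2 : 2 ^ n ≤ W)
    (h3 : p ^ B ≤ W) : n ^ 2 * t2 B * p ^ 2 ≤ 500 * W := by
  rcases Nat.lt_or_ge B 4 with hB4 | hB4
  · have ht : t2 B ≤ 36 := by interval_cases B <;> norm_num [t2]
    refine (Nat.pow_le_pow_iff_left (show 3 ≠ 0 by norm_num)).1 ?_
    have hp6 : (p ^ 2) ^ 3 ≤ W ^ 2 := by
      calc (p ^ 2) ^ 3 = (p ^ 3) ^ 2 := by ring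
        _ ≤ W ^ 2 := Nat.pow_le_pow_left h1.le 2
    calc (n ^ 2 * t2 B * p ^ 2) ^ 3 = n ^ 6 * t2 B ^ 3 * (p ^ 2) ^ 3 := by ring
      _ ≤ (1100 * W) * 36 ^ 3 * W ^ 2 := by
          gcongr
          exact (pow_six_le n).trans (Nat.mul_le_mul_left _ h2)
      _ = (1100 * 36 ^ 3) * W ^ 3 := by ring
      _ ≤ 500 ^ 3 * W ^ 3 := Nat.mul_le_mul_right _ (by norm_num)
      _ = _ := by ring
  rcases Nat.lt_or_ge B 6 with hB6 | hB6
  · refine (Nat.pow_le_pow_iff_left (show 2 ≠ 0 by norm_num)).1 ?_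
    have hp4 : (p ^ 2) ^ 2 ≤ W := by
      rw [← pow_mul]; exact (Nat.pow_le_pow_right (by omega) hB4).trans h3
    have hW : 97 ^ B ≤ W := (Nat.pow_le_pow_left hp B).trans h3
    have hn : n ^ 4 * t2 B ^ 2 ≤ 250000 * W := by
      rcases Nat.lt_or_ge n 80 with hn | hn
      · have h4 := Nat.pow_le_pow_left hn.le 4
        interval_cases B <;> norm_num [t2] at hW ⊢ <;> omega
      · have h4 := (pow_four_le n hn).trans h2
        have ht : t2 B ^ 2 ≤ 4761 ^ 2 := Nat.pow_le_pow_left (by interval_cases B <;> norm_num [t2]) 2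
        calc n ^ 4 * t2 B ^ 2 ≤ n ^ 4 * (250000 * 100) := Nat.mul_le_mul_left _ (ht.trans (by norm_num))
          _ = 250000 * (100 * n ^ 4) := by ring
          _ ≤ _ := Nat.mul_le_mul_left _ h4
    calc (n ^ 2 * t2 B * p ^ 2) ^ 2 = n ^ 4 * t2 B ^ 2 * (p ^ 2) ^ 2 := by ring
      _ ≤ 250000 * W * W := Nat.mul_le_mul hn hp4
      _ = _ := by ring
  · refine (Nat.pow_le_pow_iff_left (show 6 ≠ 0 by norm_num)).1 ?_
    have hp12 : (p ^ 2) ^ 6 ≤ W ^ 2 := by
      calc (p ^ 2) ^ 6 = (p ^ 6) ^ 2 := by ring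
        _ ≤ W ^ 2 := Nat.pow_le_pow_left ((Nat.pow_le_pow_right (by omega) hB6).trans h3) 2
    have ht : t2 B ^ 6 ≤ W ^ 3 := by
      calc t2 B ^ 6 ≤ (9 ^ B) ^ 6 := by
            rw [t2_le_pow B hB6]
            exact Nat.pow_le_pow_left (Nat.pow_le_pow_right (by norm_num) (by omega)) 6
        _ = (81 ^ B) ^ 3 := by
            rw [show (81 : ℕ) = 9 ^ 2 by norm_num, ← pow_mul, ← pow_mul, ← pow_mul]; congr 1; ring
        _ ≤ (p ^ B) ^ 3 := Nat.pow_le_pow_left (Nat.pow_le_pow_left (by omega) B) 3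
        _ ≤ W ^ 3 := Nat.pow_le_pow_left h3 3
    calc (n ^ 2 * t2 B * p ^ 2) ^ 6 = n ^ 12 * t2 B ^ 6 * (p ^ 2) ^ 6 := by ring
      _ ≤ (50 ^ 6 * W) * W ^ 3 * W ^ 2 := by
          gcongr
          exact (pow_twelve_le n).trans (Nat.mul_le_mul_left _ h2)
      _ = 50 ^ 6 * W ^ 6 := by ring
      _ ≤ 500 ^ 6 * W ^ 6 := Nat.mul_le_mul_right _ (by norm_num)
      _ = _ := by ring

theorem quartic_le : ∀ δ : ℕ, 1 ≤ δ → δ ^ 4 ≤ 31 ^ (δ - 1) := by
  intro δ h
  induction δ, h using Nat.le_induction with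
  | base => norm_num
  | succ δ hδ ih =>
    have h1 := Nat.pow_le_pow_left (show δ + 1 ≤ 2 * δ by omega) 4
    rw [mul_pow] at h1
    calc (δ + 1) ^ 4 ≤ 2 ^ 4 * δ ^ 4 := h1
      _ ≤ 31 * 31 ^ (δ - 1) := Nat.mul_le_mul (by norm_num) ih
      _ = _ := by rw [← pow_succ']; congr 1; omega

theorem eighth_le_pow (r : ℕ) (h : 7 ≤ r) : r ^ 8 ≤ 8 * 31 ^ (r - 1) := by
  induction r, h using Nat.le_induction with
  | base => norm_num
  | succ r hr ih =>
    have h1 := Nat.pow_le_pow_left (show 7 * (r + 1) ≤ 8 * r by omega) 8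
    rw [mul_pow, mul_pow] at h1
    calc (r + 1) ^ 8 ≤ r ^ 8 * 31 := by norm_num at h1 ⊢; omega
      _ ≤ 8 * 31 ^ (r - 1) * 31 := Nat.mul_le_mul_right _ ih
      _ = _ := by rw [mul_assoc, ← pow_succ]; congr 2; omega

variable {A V : Type u} [Group A] [Finite A] [AddCommGroup V] [Finite V] [DistribMulAction A V]

/-- The index of a maximal abelian normal subgroup in its centraliser. -/
theorem relIndex_centralizer_le [Group.IsSolvable A] {Z : Subgroup A} [Z.Normal] [IsMulCommutative Z]
    {K : Type u} [Field K] {ι : Z →* Kˣ} (hι : Function.Injective ι) (hmax : MaxAbelian Z) {d : ℕ}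
    (hd : 1 ≤ d) (hrd : ¬ centralizer (Z : Set A) ≤ Z →
      Z.relIndex (socle Z (centralizer (Z : Set A))) ≤ d * d) :
    Z.relIndex (centralizer (Z : Set A)) ≤ 31 ^ (d - 1) := by
  classical
  set C := centralizer (Z : Set A) with hCdef
  by_cases hne : C ≤ Z
  · rw [Subgroup.relIndex_eq_one.2 hne]
    exact Nat.one_le_pow _ _ (by norm_num)
  set L := socle Z C with hLdef
  obtain ⟨r, hr⟩ := socle_index_square hι hmax hne
  have hZL : Z < L := exists_socle hne
  have hr2 : 2 ≤ r := by
    rcases r with _ | _ | r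
    · exact absurd (show Z.relIndex L = 0 by rw [hr]) Subgroup.FiniteIndex.index_ne_zero
    · exact absurd (Subgroup.relIndex_eq_one.1 (show Z.relIndex L = 1 by rw [hr])) (not_le_of_gt hZL)
    · omega
  have hrd' : r ≤ d := by
    have := hrd hne; rw [hr] at this; exact Nat.mul_self_le_mul_self_iff.1 this
  obtain ⟨W, X, _, _, _, _, _, _, hfW, hcW, hWc, hYX, -⟩ := socle_module hι hmax hne
  haveI := hfW
  rw [hr] at hWc
  haveI : Nontrivial W := Finite.one_lt_card_iff_nontrivial.1 (by rw [hWc]; nlinarith)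
  have bX := card_solvable_cr_le _ X W rfl hcW
  rw [hWc] at bX
  set Y := L.relIndex C with hYdef
  have hZC : Z.relIndex C = r * r * Y := by
    rw [← hr, hYdef, Subgroup.relIndex_mul_relIndex Z L C hZL.le (socle_le Z C)]
  rw [hZC]
  refine le_trans ?_ (Nat.pow_le_pow_right (by norm_num) (show r - 1 ≤ d - 1 by omega))
  rcases Nat.lt_or_ge r 7 with hr7 | hr7
  · interval_cases r
    · have := hYX.trans (bX.2.2.1 (by norm_num))
      norm_num; omega
    · have : Y ≤ _ := relIndex_socle_le_prime hι hmax hne Nat.prime_three hr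
      norm_num at this ⊢; omega
    · have := hYX.trans (bX.2.2.2.2 (by norm_num))
      norm_num; omega
    · have : Y ≤ _ := relIndex_socle_le_prime hι hmax hne (by norm_num) hr
      norm_num at this ⊢; omega
    · have := hYX.trans (card_le_six hcW (hWc.trans (by norm_num)))
      norm_num; omega
  · refine Nat.le_of_mul_le_mul_left ?_ (show 0 < 8 by norm_num)
    calc 8 * (r * r * Y) = r * r * (8 * Y) := by ring
      _ ≤ r * r * (r * r) ^ 3 := Nat.mul_le_mul_left _ ((Nat.mul_le_mul_left 8 hYX).trans bX.1)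
      _ = r ^ 8 := by ring
      _ ≤ _ := eighth_le_pow r hr7

/-- The component group, given a normal subgroup of prime order. -/
theorem component_prime [Group.IsSolvable A] [Nontrivial V] [FaithfulSMul A V] (hirr : Irr A V)
    (hidem : ∀ (Z : Subgroup A) [Z.Normal] [IsMulCommutative Z],
      ∀ e ∈ alg A V Z, e * e = e → e = 0 ∨ e = 1)
    {p : ℕ} (hp : p.Prime) (z : A) (hz : orderOf z = p) (hzn : (zpowers z).Normal) :
    ∃ (Z : Subgroup A) (q m0 δ d : ℕ), Z.Normal ∧ IsMulCommutative Z ∧ q.Prime ∧ 1 ≤ δ ∧ 1 ≤ d ∧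
      p ∣ q ^ m0 - 1 ∧ Nat.card V = q ^ (m0 * δ * d) ∧
      (centralizer ({z} : Set A)).index ≤ m0 * δ ∧
      Z.relIndex (centralizer {z}) ≤ δ * 31 ^ (d - 1) ∧
      (centralizer (Z : Set A)).relIndex (centralizer {z}) ≤ δ := by
  classical
  obtain ⟨Z, hZn, hZc, hmax⟩ := exists_maxAbelian A
  haveI := hZn
  haveI := hZc
  obtain ⟨q, m, d, K, _, ι, hq, hm, hd, hV, hι, -, hδ, hrd, hstab⟩ := field_data hirr hmax (hidem Z)
  have hzZ : z ∈ Z := by
    by_contra hc
    haveI := hzn
    have hdis : Disjoint (zpowers z) Z := by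
      rw [disjoint_iff]
      refine Subgroup.eq_bot_of_card_eq _ ?_
      have hdv : Nat.card (zpowers z ⊓ Z : Subgroup A) ∣ p :=
        hz ▸ Nat.card_zpowers z ▸ Subgroup.card_dvd_of_le inf_le_left
      refine ((Nat.dvd_prime hp).1 hdv).resolve_right fun h => hc ?_
      have : (zpowers z ⊓ Z : Subgroup A) = zpowers z :=
        Subgroup.eq_of_le_of_card_ge inf_le_left (by rw [h, Nat.card_zpowers, hz])
      exact (inf_eq_left.1 this) (mem_zpowers z)
    have hcom : ∀ x ∈ zpowers z, ∀ y ∈ Z, x * y = y * x := fun x hx y hy =>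
      Subgroup.commute_of_normal_of_disjoint _ _ hzn hZn hdis x y hx hy
    haveI : IsMulCommutative (zpowers z ⊔ Z : Subgroup A) := by
      refine ⟨⟨fun ⟨a, ha⟩ ⟨b, hb⟩ => Subtype.ext ?_⟩⟩
      have hle : zpowers z ⊔ Z ≤ centralizer ((zpowers z ⊔ Z : Subgroup A) : Set A) := by
        refine sup_le ?_ ?_ <;> rw [Subgroup.le_centralizer_iff] <;> refine sup_le ?_ ?_
        · exact Subgroup.le_centralizer _
        · exact fun y hy => mem_centralizer_iff.2 fun x hx => hcom x hx y hy
        · exact fun x hx => mem_centralizer_iff.2 fun y hy => (hcom x hx y hy).symm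
        · exact Subgroup.le_centralizer _
      exact mem_centralizer_iff.1 (hle hb) a ha
    apply hc
    rw [← hmax (zpowers z ⊔ Z) inferInstance inferInstance le_sup_right]
    exact Subgroup.mem_sup_left (mem_zpowers z)
  obtain ⟨m0, δ, hmeq, hord, hrel⟩ := hstab ⟨z, hzZ⟩
  rw [← Subgroup.orderOf_coe, hz] at hord
  simp only at hrel
  have hδ1 : 1 ≤ δ := by
    rcases Nat.eq_zero_or_pos δ with h | h
    · rw [h, mul_zero] at hmeq; omega
    · exact h
  have hd1 : 1 ≤ d := by omega
  have hCz : centralizer (Z : Set A) ≤ centralizer {z} := fun g hg =>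
    mem_centralizer_singleton_iff.2 (mem_centralizer_iff.1 hg z hzZ).symm
  refine ⟨Z, q, m0, δ, d, hZn, hZc, hq, hδ1, hd1, hord, by rw [hV, hmeq], ?_, ?_, hrel⟩
  · rw [← hmeq]
    exact (Nat.le_of_dvd (Nat.pos_of_ne_zero Subgroup.index_ne_zero_of_finite)
      (Subgroup.index_dvd_of_le hCz)).trans hδ
  · rw [← Subgroup.relIndex_mul_relIndex Z _ _ (Subgroup.le_centralizer Z) hCz, mul_comm]
    exact Nat.mul_le_mul hrel (relIndex_centralizer_le hι hmax hd1 hrd)

theorem index_core_le' (H P X : Subgroup A) [X.Normal] (hPH : P ≤ H) (hn : H ≤ normalizer (P : Set A)) :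
    P.normalCore.index ≤ X.index * P.relIndex X ^ H.index := by
  classical
  haveI := Fintype.ofFinite (A ⧸ H)
  let cj : A ⧸ H → (A ≃* A) := fun q => MulAut.conj (q.out : A)
  let f : A ⧸ H → Subgroup A := fun q => P.map (cj q).toMonoidHom
  have hle : X ⊓ (⨅ q, f q) ≤ P.normalCore := by
    rintro x ⟨-, hx⟩ g
    have hx' : x ∈ f ((g⁻¹ : A) : A ⧸ H) := (Subgroup.mem_iInf.1 hx) _
    obtain ⟨y, hy, hxy⟩ := hx'
    obtain ⟨h, hh⟩ := QuotientGroup.mk_out_eq_mul H (g⁻¹ : A)
    have hxy' : g⁻¹ * h * y * (g⁻¹ * h)⁻¹ = x := by rw [← hh]; exact hxy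
    have he : g * x * g⁻¹ = (h : A) * y * (h : A)⁻¹ := by rw [← hxy']; group
    rw [he]
    exact (mem_normalizer_iff.1 (hn h.2) y).1 hy
  have hrel : ∀ q, (f q).relIndex X = P.relIndex X := by
    intro q
    have hX : X = X.map (cj q).toMonoidHom := by
      ext x
      constructor
      · intro hx
        exact ⟨(cj q).symm x, by
          simpa [cj, MulAut.conj_symm_apply] using (inferInstance : X.Normal).conj_mem x hx (q.out : A)⁻¹,
          by simp⟩
      · rintro ⟨y, hy, rfl⟩
        exact (inferInstance : X.Normal).conj_mem y hy _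
    conv_lhs => rw [hX]
    exact Subgroup.relIndex_map_map_of_injective _ _ (cj q).injective
  calc P.normalCore.index ≤ (X ⊓ ⨅ q, f q).index :=
        Nat.le_of_dvd (Nat.pos_of_ne_zero Subgroup.index_ne_zero_of_finite) (Subgroup.index_dvd_of_le hle)
    _ = (⨅ q, f q).relIndex X * X.index := by
        rw [← Subgroup.relIndex_mul_index (inf_le_left : X ⊓ (⨅ q, f q) ≤ X), inf_comm,
          Subgroup.inf_relIndex_right]
    _ ≤ (∏ q, (f q).relIndex X) * X.index := Nat.mul_le_mul_right _ (Subgroup.relIndex_iInf_le f)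
    _ = _ := by
        rw [Finset.prod_congr rfl fun q _ => hrel q,
          Finset.prod_const, Finset.card_univ, ← Nat.card_eq_fintype_card, ← Subgroup.index_eq_card,
          mul_comm]

theorem lift_le_normalizer (U : AddSubgroup V) (N : Subgroup (Ind A U)) [N.Normal] :
    stab A U ≤ normalizer (lift U N : Set A) := by
  have hn : ((N.comap (compHom A U).rangeRestrict).map (stab A U).subtype).subgroupOf (stab A U) =
      N.comap (compHom A U).rangeRestrict :=
    Subgroup.comap_map_eq_self_of_injective (stab A U).subtype_injective _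
  haveI : ((lift U N).subgroupOf (stab A U)).Normal := by rw [lift, hn]; exact inferInstance
  exact (Subgroup.normal_subgroupOf_iff_le_normalizer (Subgroup.map_subtype_le _)).1 this

theorem relIndex_lift (U : AddSubgroup V) (M N : Subgroup (Ind A U)) :
    (lift U M).relIndex (lift U N) = M.relIndex N := by
  rw [lift, lift, Subgroup.relIndex_map_map_of_injective _ _ (stab A U).subtype_injective,
    Subgroup.relIndex_comap, Subgroup.map_comap_eq_self_of_surjective (compHom A U).rangeRestrict_surjective]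

theorem pow_two_le_of_le {p F : ℕ} (hp : 64 ≤ p) (h : p ≤ 18 * F) : 2 ^ p ≤ p ^ (3 * F) :=
  calc 2 ^ p ≤ 2 ^ (18 * F) := Nat.pow_le_pow_right (by norm_num) h
    _ = 64 ^ (3 * F) := by rw [show (64 : ℕ) = 2 ^ 6 by norm_num, ← pow_mul]; congr 1; ring
    _ ≤ _ := Nat.pow_le_pow_left hp _

/-- Classes and orbits of an irreducible solvable group with a normal subgroup of large prime order. -/
theorem classes_add_orbits_prime [Group.IsSolvable A] [Nontrivial V] [FaithfulSMul A V] (hirr : Irr A V)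
    {p : ℕ} (hp : p.Prime) (hp97 : 97 ≤ p) (P : Subgroup A) [P.Normal] (hP : Nat.card P = p) :
    2 ^ p ≤ p ^ (3 * (Nat.card (ConjClasses A) + Nat.card (MulAction.orbitRel.Quotient A V) - 1)) := by
  classical
  haveI := Fact.mk hp
  haveI := isCyclic_of_prime_card hP
  haveI : IsMulCommutative P := ⟨⟨IsCyclic.commGroup.mul_comm⟩⟩
  obtain ⟨h5, hR⟩ := orbits_mul_ge (A := A) (V := V)
  set k := Nat.card (ConjClasses A) with hk
  set R := Nat.card (MulAction.orbitRel.Quotient A V) with hRdef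
  set D := (centralizer (P : Set A)).index with hDdef
  have hD : p ≤ D * k := hP ▸ abelian_bound P
  have hkF : k ≤ k + R - 1 := by omega
  by_cases hDp : 2 ^ D ≤ p ^ 3
  · calc 2 ^ p ≤ 2 ^ (D * k) := Nat.pow_le_pow_right (by norm_num) hD
      _ = (2 ^ D) ^ k := pow_mul _ _ _
      _ ≤ (p ^ 3) ^ k := Nat.pow_le_pow_left hDp k
      _ = p ^ (3 * k) := (pow_mul _ _ _).symm
      _ ≤ _ := Nat.pow_le_pow_right hp.pos (Nat.mul_le_mul_left 3 hkF)
  refine pow_two_le_of_le (by omega) ?_
  obtain ⟨U, hU, hprim⟩ := exists_prim (A := A) (V := V) hirr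
  haveI := ind_nontrivial hU
  set b := (stab A U).index with hb
  have hb1 : 1 ≤ b := Nat.one_le_iff_ne_zero.2 Subgroup.index_ne_zero_of_finite
  by_cases hbp : p ≤ b
  · obtain ⟨h5', -⟩ := orbits_mul_ge (A := Ind A U) (V := U)
    have hU2 : 2 ≤ Nat.card U := Finite.one_lt_card
    have hRK2 : 2 ≤ Nat.card (MulAction.orbitRel.Quotient (Ind A U) U) := by
      by_contra h
      rw [show Nat.card (MulAction.orbitRel.Quotient (Ind A U) U) - 1 = 0 by omega, zero_mul] at h5'
      omega
    have := (multichoose_mono_left hRK2 b).trans (orbits_ge hirr hU)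
    rw [Nat.multichoose_two] at this
    omega
  -- the normal subgroup fixes the components
  set τ := (stab A U).normalCore.index
  have hPs : P ≤ (stab A U).normalCore := by
    intro x hx
    haveI := Fintype.ofFinite (A ⧸ stab A U)
    rw [← QuotientGroup.eq_one_iff, ← orderOf_eq_one_iff]
    have h1 : orderOf (x : A ⧸ (stab A U).normalCore) ∣ p := by
      refine orderOf_dvd_of_pow_eq_one ?_
      rw [← QuotientGroup.mk_pow]
      have := pow_card_eq_one' (x := (⟨x, hx⟩ : P))
      rw [hP] at this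
      rw [show x ^ p = 1 from congrArg Subtype.val this]
      rfl
    refine ((Nat.dvd_prime hp).1 h1).resolve_right fun h => ?_
    have h2 : p ∣ τ := by
      simp only [τ]
      rw [← h, Subgroup.index_eq_card]
      exact orderOf_dvd_natCard _
    have h3 : τ ∣ b.factorial := by
      simp only [τ]
      rw [Subgroup.normalCore_eq_ker, Subgroup.index_ker, hb, Subgroup.index_eq_card, ← Nat.card_perm]
      exact Subgroup.card_subgroup_dvd_card _
    exact hbp ((hp.dvd_factorial).1 (h2.trans h3))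
  obtain ⟨z, hz⟩ := IsCyclic.exists_generator (α := P)
  have hgen : ∀ x ∈ P, ∃ j : ℤ, x = (z : A) ^ j := fun x hx => by
    obtain ⟨j, hj⟩ := Subgroup.mem_zpowers_iff.1 (hz ⟨x, hx⟩)
    exact ⟨j, (congrArg Subtype.val hj).symm.trans (by simp)⟩
  have hzs : (z : A) ∈ stab A U := Subgroup.normalCore_le _ (hPs z.2)
  set zK := (compHom A U).rangeRestrict ⟨z, hzs⟩
  -- the action on the component is faithful
  have hinj : ∀ x ∈ P, ∀ hx : x ∈ stab A U, (compHom A U).rangeRestrict ⟨x, hx⟩ = 1 → x = 1 := by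
    intro x hxP hxs h1
    by_contra hx1
    let S : Subgroup A :=
      { carrier := {g | g ∈ P ∧ ∀ u : U, g • (u : V) = u}
        one_mem' := ⟨one_mem P, fun u => one_smul _ _⟩
        mul_mem' := fun {a c} ha hc => ⟨mul_mem ha.1 hc.1, fun u => by rw [mul_smul, hc.2, ha.2]⟩
        inv_mem' := fun {a} ha => ⟨inv_mem ha.1, fun u => inv_smul_eq_iff.2 (ha.2 u).symm⟩ }
    have hxS : x ∈ S := ⟨hxP, fun u => by rw [← ind_smul U ⟨x, hxs⟩ u, h1, one_smul]⟩
    have hSP : S = P := Subgroup.eq_of_le_of_card_ge (fun g hg => hg.1) (by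
      have h2 : Nat.card S ∣ p := hP ▸ Subgroup.card_dvd_of_le (fun g hg => hg.1)
      rcases (Nat.dvd_prime hp).1 h2 with h | h
      · exact absurd (Subgroup.mem_bot.1 (Subgroup.card_eq_one.1 h ▸ hxS)) hx1
      · rw [h, hP])
    haveI := Fintype.ofFinite (A ⧸ stab A U)
    apply hx1
    refine eq_of_smul_eq_smul fun v : V => ?_
    obtain ⟨f, rfl⟩ := (sumMap_bijective hirr hU).2 v
    change x • (∑ q : A ⧸ stab A U, (q.out : A) • (f q : V)) =
      (1 : A) • (∑ q : A ⧸ stab A U, (q.out : A) • (f q : V))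
    rw [one_smul, Finset.smul_sum]
    refine Finset.sum_congr rfl fun q _ => ?_
    have h3 : (q.out : A)⁻¹ * x * q.out ∈ S := by
      rw [hSP]; simpa using (inferInstance : P.Normal).conj_mem x hxP (q.out : A)⁻¹
    rw [← mul_smul, show x * q.out = q.out * ((q.out : A)⁻¹ * x * q.out) by group, mul_smul, h3.2]
  have hzK : orderOf zK = p := by
    refine ((Nat.dvd_prime hp).1 ?_).resolve_left fun h => ?_
    · refine (orderOf_map_dvd _ _).trans (orderOf_dvd_of_pow_eq_one (Subtype.ext ?_))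
      have := pow_card_eq_one' (x := z)
      rw [hP] at this
      simpa using congrArg Subtype.val this
    · have h1 := hinj z z.2 hzs (orderOf_eq_one_iff.1 h)
      have h2 : Nat.card P = 1 := by
        refine Subgroup.card_eq_one.2 (eq_bot_iff.2 fun x hx => ?_)
        obtain ⟨j, rfl⟩ := hgen x hx
        rw [h1, one_zpow]; exact one_mem _
      rw [hP] at h2
      omega
  have hzn : (zpowers zK).Normal := ⟨fun n hn g => by
    obtain ⟨j, rfl⟩ := Subgroup.mem_zpowers_iff.1 hn
    obtain ⟨g, rfl⟩ := (compHom A U).rangeRestrict_surjective g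
    obtain ⟨i, hi⟩ := hgen _ ((inferInstance : P.Normal).conj_mem _ (zpow_mem z.2 j) (g : A))
    refine Subgroup.mem_zpowers_iff.2 ⟨i, ?_⟩
    simp only [zK, ← map_zpow, ← map_inv, ← map_mul]
    congr 1
    apply Subtype.ext
    simpa using hi.symm⟩
  obtain ⟨Z, q, m0, δ, d, hZn, hZc, hq, hδ1, hd1, hord, hUc, hCz, hZCz, hCCz⟩ :=
    component_prime (ind_irr hirr hU) hprim hp zK hzK hzn
  haveI := hZn
  haveI := hZc
  set Cz := centralizer ({zK} : Set (Ind A U))
  -- the centraliser of the normal subgroup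
  have hlift : lift U Cz ≤ centralizer (P : Set A) := by
    rintro _ ⟨g, hg, rfl⟩
    rw [mem_centralizer_iff]
    intro x hx
    have hz' : (z : A) * g = g * z := by
      set c := (g : A) * z * (g : A)⁻¹ * (z : A)⁻¹
      have hcP : c ∈ P := mul_mem ((inferInstance : P.Normal).conj_mem _ z.2 _) (inv_mem z.2)
      have hcs : c ∈ stab A U := Subgroup.normalCore_le _ (hPs hcP)
      have h1 : c = 1 := by
        refine hinj c hcP hcs ?_
        rw [show (⟨c, hcs⟩ : stab A U) = g * ⟨z, hzs⟩ * g⁻¹ * ⟨z, hzs⟩⁻¹ from Subtype.ext (by simp [c]),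
          map_mul, map_mul, map_mul, map_inv, map_inv, mul_inv_eq_one, mul_inv_eq_iff_eq_mul]
        exact mem_centralizer_singleton_iff.1 hg
      exact (mul_inv_eq_iff_eq_mul.1 (mul_inv_eq_one.1 h1)).symm
    obtain ⟨j, rfl⟩ := hgen x hx
    exact (Commute.zpow_left hz' j)
  have hD' : D ≤ b * (m0 * δ) := by
    refine (Nat.le_of_dvd (Nat.pos_of_ne_zero Subgroup.index_ne_zero_of_finite)
      (Subgroup.index_dvd_of_le hlift)).trans ?_
    have e : (lift U Cz).relIndex (stab A U) = Cz.index := by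
      rw [lift, Subgroup.relIndex, Subgroup.subgroupOf,
        Subgroup.comap_map_eq_self_of_injective (stab A U).subtype_injective,
        Subgroup.index_comap_of_surjective _ (compHom A U).rangeRestrict_surjective]
    have hle : lift U Cz ≤ stab A U := Subgroup.map_subtype_le _
    rw [← Subgroup.relIndex_mul_index hle, e, ← hb, mul_comm]
    exact Nat.mul_le_mul_left b hCz
  -- the normal subgroup over which the kernel is taken
  set X := centralizer (P : Set A) ⊓ (stab A U).normalCore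
  haveI : X.Normal := Subgroup.normal_inf_normal _ _
  have hXle : X ≤ lift U Cz := by
    rintro g ⟨hg1, hg2⟩
    refine ⟨⟨g, Subgroup.normalCore_le _ hg2⟩, ?_, rfl⟩
    rw [SetLike.mem_coe, Subgroup.mem_comap, mem_centralizer_singleton_iff]
    simp only [zK, ← map_mul]
    congr 1
    exact Subtype.ext (mem_centralizer_iff.1 hg1 _ z.2).symm
  have hXi : X.index ≤ D * τ := Subgroup.index_inf_le
  have hcoreb : ∀ (M : Subgroup (Ind A U)) [M.Normal] (e : ℕ), M.relIndex Cz ≤ e →
      (lift U M).normalCore.index ≤ D * τ * e ^ b := by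
    intro M _ e he
    refine (index_core_le' (stab A U) _ X (Subgroup.map_subtype_le _) (lift_le_normalizer U M)).trans
      (Nat.mul_le_mul hXi (Nat.pow_le_pow_left ?_ _))
    refine le_trans ?_ he
    rw [← relIndex_lift U M Cz]
    exact Subgroup.relIndex_le_of_le_right hXle Subgroup.FiniteIndex.index_ne_zero
  set N := (lift U Z).normalCore
  haveI : IsMulCommutative N := ⟨⟨fun g h => Subtype.ext (core_commute hirr hU
    (fun m hm n hn => congrArg Subtype.val (mul_comm' (⟨m, hm⟩ : Z) ⟨n, hn⟩)) g.2 h.2)⟩⟩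
  have hCN : (lift U (centralizer (Z : Set (Ind A U)))).normalCore ≤ centralizer (N : Set A) := fun g hg =>
    mem_centralizer_iff.2 fun h hh => core_commute hirr hU (fun m hm n hn => mem_centralizer_iff.1 hn m hm) hh hg
  have h1 := abelian_bound N
  have h2 : N.index ≤ D * τ * (δ * 31 ^ (d - 1)) ^ b := hcoreb Z _ hZCz
  have h3 : (centralizer (N : Set A)).index ≤ D * τ * δ ^ b :=
    (Nat.le_of_dvd (Nat.pos_of_ne_zero Subgroup.index_ne_zero_of_finite) (Subgroup.index_dvd_of_le hCN)).trans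
      (hcoreb _ _ hCCz)
  have h4 : τ ^ 2 ≤ t2 b := core_index_sq (stab A U)
  set n := b * (m0 * δ)
  set B := b * δ
  set W := q ^ n
  set T := 31 ^ ((d - 1) * b)
  set I := n ^ 2 * t2 B * T
  have hA : Nat.card A ≤ k * I := by
    rw [← N.card_mul_index]
    calc Nat.card N * N.index ≤ (D * τ * δ ^ b * k) * (D * τ * (δ * 31 ^ (d - 1)) ^ b) :=
          Nat.mul_le_mul (h1.trans (Nat.mul_le_mul_right _ h3)) h2
      _ = k * (D ^ 2 * (τ ^ 2 * (δ ^ 2) ^ b) * T) := by
          simp only [T]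
          rw [mul_pow, ← pow_mul 31, ← pow_mul δ 2 b, mul_comm 2 b, pow_mul δ b 2]; ring
      _ ≤ k * I := by
          refine Nat.mul_le_mul_left _ (Nat.mul_le_mul_right _ (Nat.mul_le_mul (Nat.pow_le_pow_left hD' 2) ?_))
          exact (Nat.mul_le_mul_right _ h4).trans (t2_mul hb1 hδ1)
  have hq1 : p + 1 ≤ q ^ m0 := by
    have hm0 : m0 ≠ 0 := by
      intro h
      have : D ≤ 0 := hD'.trans (by simp [n, h])
      have hDpos : 0 < D := Nat.pos_of_ne_zero Subgroup.index_ne_zero_of_finite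
      omega
    have h2 : 1 < q ^ m0 := Nat.one_lt_pow hm0 hq.one_lt
    have := Nat.le_of_dvd (by omega) hord
    omega
  have hW2 : 2 ^ n ≤ W := Nat.pow_le_pow_left hq.two_le n
  have hW3 : p ^ B ≤ W := by
    have e : W = (q ^ m0) ^ B := by
      simp only [W, n, B]; rw [← pow_mul]; congr 1; ring
    rw [e]
    exact Nat.pow_le_pow_left (by omega) B
  have hW1 : p ^ 3 < W :=
    lt_of_lt_of_le (not_le.1 hDp) ((Nat.pow_le_pow_right (by norm_num) hD').trans hW2)
  have hV : W * T ≤ Nat.card V := by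
    rw [← hU.2, hUc, ← hb, ← pow_mul]
    obtain ⟨c, rfl⟩ := Nat.exists_eq_add_of_le' hd1
    simp only [W, T, n, Nat.add_sub_cancel]
    rw [show m0 * δ * (c + 1) * b = b * (m0 * δ) + m0 * (δ * (c * b)) by ring, pow_add q, pow_mul q m0]
    refine Nat.mul_le_mul_left _ ((Nat.pow_le_pow_left (show 31 ≤ q ^ m0 by omega) _).trans
      (Nat.pow_le_pow_right (by omega) (Nat.le_mul_of_pos_left _ hδ1)))
  have hnum : I * p ^ 2 ≤ 500 * Nat.card V := by
    calc I * p ^ 2 = n ^ 2 * t2 B * p ^ 2 * T := by ring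
      _ ≤ 500 * W * T := Nat.mul_le_mul_right _ (num_prime hp97 (Nat.mul_pos hb1 hδ1) hW1 hW2 hW3)
      _ ≤ 500 * Nat.card V := by rw [mul_assoc]; exact Nat.mul_le_mul_left _ hV
  have hV2 : 2 ≤ Nat.card V := Finite.one_lt_card
  have hIpos : 0 < I := by
    rcases Nat.eq_zero_or_pos I with h | h
    · rw [h, mul_zero] at hA
      exact absurd hA (by have := Nat.card_pos (α := A); omega)
    · exact h
  have h6 : Nat.card V ≤ 2 * ((R - 1) * (k * I)) := by
    have := h5.trans (Nat.mul_le_mul_left _ hA)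
    omega
  have h7 : I * (p * p) ≤ I * (1000 * (k * (R - 1))) := by
    calc I * (p * p) = I * p ^ 2 := by rw [pow_two]
      _ ≤ 500 * (2 * ((R - 1) * (k * I))) := hnum.trans (Nat.mul_le_mul_left _ h6)
      _ = _ := by ring
  have h8 := Nat.le_of_mul_le_mul_left h7 hIpos
  by_contra hc
  rw [not_le] at hc
  have h9 := Nat.mul_lt_mul'' hc hc
  have h10 : 4 * (k * (R - 1)) ≤ (k + R - 1) * (k + R - 1) := by
    rw [show k + R - 1 = k + (R - 1) by omega]
    nlinarith [four_mul_le_sq_add k (R - 1)]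
  nlinarith

/-- The bound in natural numbers. -/
theorem two_pow_le_pow_classes : ∀ (n : ℕ) (G : Type u) [Group G] [Finite G] [Group.IsSolvable G]
    (p : ℕ), p.Prime → Nat.card G ≤ n → p ∣ (fittingSubgroup G).index →
      2 ^ p ≤ p ^ (3 * Nat.card (ConjClasses G)) := by
  intro n
  induction n with
  | zero => intro G _ _ _ p _ h; exact absurd h (by have := Nat.card_pos (α := G); omega)
  | succ n ih =>
  intro G _ _ _ p hp hn hdvd
  classical
  haveI := Fact.mk hp
  set k := Nat.card (ConjClasses G) with hk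
  set F := fittingSubgroup G with hFdef
  have hpG : p ∣ Nat.card G := hdvd.trans F.index_dvd_card
  haveI : Nontrivial G := Finite.one_lt_card_iff_nontrivial.1
    (lt_of_lt_of_le hp.one_lt (Nat.le_of_dvd Nat.card_pos hpG))
  have hF2 : 2 ≤ Nat.card F := (Subgroup.one_lt_card_iff_ne_bot _).2 Cfsg.Lib.Coprime.fitting_ne_bot
  have hG2p : 2 * p ≤ Nat.card G := by
    rw [← F.card_mul_index]
    exact Nat.mul_le_mul hF2 (Nat.le_of_dvd (Nat.pos_of_ne_zero Subgroup.index_ne_zero_of_finite) hdvd)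
  have hmono : ∀ j, j ≤ k → 2 ^ p ≤ p ^ (3 * j) → 2 ^ p ≤ p ^ (3 * k) := fun j hj h =>
    h.trans (Nat.pow_le_pow_right hp.pos (Nat.mul_le_mul_left 3 hj))
  by_cases hp31 : p < 31
  · have hk2 : 2 ≤ k := by
      by_contra h
      have := order_le_of_classes _ G le_rfl (by omega)
      rw [← hk] at this
      have h2 := hp.two_le
      interval_cases k <;> simp [smallBound] at this <;> omega
    refine hmono 2 hk2 ?_
    interval_cases p <;> norm_num at hp <;> norm_num
  by_cases hp97 : p < 97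
  · have hk5 : 5 ≤ k := by
      by_contra h
      have h1 := order_le_of_classes _ G le_rfl (by omega)
      have : smallBound (Nat.card (ConjClasses G)) ≤ 42 := by unfold smallBound; split_ifs <;> norm_num
      omega
    refine hmono 5 hk5 ?_
    interval_cases p <;> norm_num at hp <;> norm_num
  by_cases hp2 : p ^ 2 ∣ Nat.card G
  · have := classes_ge_of_sq_dvd _ G p hp le_rfl hp2
    exact pow_two_le_of_le (by omega) (by omega)
  obtain ⟨N, hNn, -, hN1, hmin⟩ := exists_min_normal (G := G) (K := ⊤) inferInstance top_ne_bot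
  haveI := hNn
  haveI : IsMulCommutative N :=
    (Cfsg.Lib.Coprime.minimal_normal_solvable (N := N) inferInstance hN1 hmin).1
  by_cases hq : p ∣ (fittingSubgroup (G ⧸ N)).index
  · have hlt : Nat.card (G ⧸ N) < Nat.card G := Cfsg.Lib.Coprime.card_quotient_lt hN1
    exact (ih (G ⧸ N) p hp (by omega) hq).trans (Nat.pow_le_pow_right hp.pos (Nat.mul_le_mul_left 3
      (card_classes_map_le (QuotientGroup.mk' N) (QuotientGroup.mk'_surjective N))))
  set Fb := fittingSubgroup (G ⧸ N) with hFbdef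
  haveI : Group.IsNilpotent Fb := Cfsg.Lib.Components.isNilpotent_fitting
  set K := Fb.comap (QuotientGroup.mk' N) with hKdef
  set C := centralizer (N : Set G) with hCdef
  have hKC : Group.IsNilpotent (K ⊓ C : Subgroup G) := by
    let g : (K ⊓ C : Subgroup G) →* Fb :=
      { toFun := fun x => ⟨QuotientGroup.mk' N x.1, x.2.1⟩
        map_one' := Subtype.ext (map_one _)
        map_mul' := fun a b => Subtype.ext (map_mul _ _ _) }
    refine Subgroup.isNilpotent_of_ker_le_center g (fun x hx => ?_)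
    rw [Subgroup.mem_center_iff]
    intro y
    have h1 : (x : G) ∈ N := (QuotientGroup.eq_one_iff _).1 (congrArg Subtype.val (MonoidHom.mem_ker.1 hx))
    exact Subtype.ext (mem_centralizer_iff.1 y.2.2 _ h1).symm
  have hKCF : K ⊓ C ≤ F := by
    haveI : (K ⊓ C : Subgroup G).Normal := Subgroup.normal_inf_normal _ _
    exact Cfsg.Lib.Components.le_fitting hKC
  have hKi : ¬ p ∣ K.index := by
    rwa [hKdef, Subgroup.index_comap_of_surjective _ (QuotientGroup.mk'_surjective N)]
  have hCi : p ∣ C.index := by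
    have h1 : p ∣ (K ⊓ C).index := hdvd.trans (Subgroup.index_dvd_of_le hKCF)
    rw [← Subgroup.relIndex_mul_index (inf_le_left : K ⊓ C ≤ K), inf_comm, Subgroup.inf_relIndex_right] at h1
    exact ((hp.dvd_mul.1 h1).resolve_right hKi).trans (Subgroup.relIndex_dvd_index_of_normal C K)
  obtain ⟨A, V, _, _, _, _, _, f, hf, hfaith, hker, hV, hsub, hle⟩ := quot_orbits N
  haveI := hfaith
  haveI : Group.IsSolvable A := Group.isSolvable_of_surjective hf
  have hirr : Irr A V := by
    intro U hU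
    obtain ⟨M, hM, hMN, hMU⟩ := hsub U hU
    rcases hmin M hM hMN with h | h
    · rw [h, Subgroup.card_bot] at hMU
      exact Or.inl (AddSubgroup.eq_bot_of_card_eq U hMU.symm)
    · rw [h, ← hV] at hMU
      exact Or.inr (AddSubgroup.eq_top_of_card_eq U hMU.symm)
  haveI : Nontrivial V := Finite.one_lt_card_iff_nontrivial.1 (by
    rw [hV]; exact (Subgroup.one_lt_card_iff_ne_bot _).2 hN1)
  have hAC : Nat.card A = C.index := by
    rw [hCdef, ← hker, Subgroup.index_ker, MonoidHom.range_eq_top.2 hf, Subgroup.card_top]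
  have hN : N ≤ f.ker := hker.ge.trans' (Subgroup.le_centralizer N)
  set fb := QuotientGroup.lift N f hN
  have hfb : Function.Surjective fb := fun a => by
    obtain ⟨g, rfl⟩ := hf a
    exact ⟨(g : G ⧸ N), rfl⟩
  set M := Fb.map fb
  haveI : Group.IsNilpotent M := Cfsg.Lib.Components.isNilpotent_map inferInstance fb
  haveI : M.Normal := Subgroup.Normal.map inferInstance fb hfb
  have hMi : ¬ p ∣ M.index := fun h => hq (h.trans (Subgroup.index_map_dvd Fb hfb))
  have hpM : p ∣ Nat.card M := by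
    have h1 : p ∣ Nat.card A := hAC ▸ hCi
    rw [← M.card_mul_index] at h1
    exact (hp.dvd_mul.1 h1).resolve_right hMi
  let S : Sylow p M := default
  haveI : (S : Subgroup M).Normal := S.normal_of_all_max_subgroups_normal (fun H hH => by
    exact Group.normalizerCondition_of_isNilpotent.normal_of_coatom H hH)
  haveI : (S : Subgroup M).Characteristic := S.characteristic_of_normal inferInstance
  set P := (S : Subgroup M).map M.subtype
  haveI : P.Normal := inferInstance
  have hPc : Nat.card P = p := by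
    have hPM : Nat.card P = Nat.card (S : Subgroup M) := Subgroup.card_map_of_injective M.subtype_injective
    obtain ⟨i, hi⟩ := IsPGroup.iff_card.1 S.isPGroup'
    have h1 : p ∣ Nat.card (S : Subgroup M) := S.dvd_card_of_dvd_card hpM
    have h2 : Nat.card (S : Subgroup M) ∣ Nat.card G := by
      refine (Subgroup.card_subgroup_dvd_card _).trans ((Subgroup.card_subgroup_dvd_card M).trans ?_)
      rw [hAC]
      exact C.index_dvd_card
    rw [hPM, hi] at *
    rcases i with _ | _ | i
    · rw [pow_zero] at h1; exact absurd (Nat.le_of_dvd one_pos h1) (by omega)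
    · exact pow_one p
    · exact absurd ((Nat.pow_dvd_pow p (by omega : 2 ≤ i + 1 + 1)).trans h2) hp2
  refine (classes_add_orbits_prime hirr hp (by omega) P hPc).trans
    (Nat.pow_le_pow_right hp.pos (Nat.mul_le_mul_left 3 ?_))
  omega

end Cfsg.Lib.SolvLinear
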