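import Cfsg.Agent.SolvLinear.LinClasses

/-!
Reduction of a finite complex linear group modulo a prime, and classes modulo the Fitting subgroup.
-/

set_option autoImplicit false
set_option linter.style.haveILetI false
set_option linter.unusedSectionVars false

namespace Cfsg.Lib.SolvLinear

open Cfsg.Lib.OddBase

universe u

theorem jacobson_int : IsJacobsonRing ℤ := by
  rw [isJacobsonRing_iff_prime_eq]
  intro P hP
  by_cases hbot : P = ⊥
  · subst hbot
    refine le_antisymm (fun x hx => ?_) Ideal.le_jacobson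
    rw [Ideal.mem_bot]
    by_contra hx0
    obtain ⟨q, hq, hqp⟩ := Nat.exists_infinite_primes (x.natAbs + 1)
    have hmax : (Ideal.span {(q : ℤ)}).IsMaximal :=
      PrincipalIdealRing.isMaximal_of_irreducible (Nat.prime_iff_prime_int.1 hqp).irreducible
    have hxq : x ∈ Ideal.span {(q : ℤ)} := (Ideal.mem_sInf.1 hx) ⟨bot_le, hmax⟩
    rw [Ideal.mem_span_singleton, Int.natCast_dvd] at hxq
    have := Nat.le_of_dvd (Int.natAbs_pos.2 hx0) hxq
    omega
  · haveI : P.IsMaximal := IsPrime.to_maximal_ideal hbot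
    exact Ideal.jacobson_eq_self_of_isMaximal

theorem finite_field_of_finiteType (K : Type u) [Field K] [Algebra.FiniteType ℤ K] : Finite K := by
  haveI := jacobson_int
  haveI : Module.Finite ℤ K := finite_of_finite_type_of_isJacobsonRing ℤ K
  obtain ⟨p, hp⟩ := CharP.exists K
  rcases CharP.char_is_prime_or_zero K p with h | h
  · haveI := Fact.mk h
    letI : Algebra (ZMod p) K := ZMod.algebra K p
    haveI : Module.Finite (ZMod p) K := Module.Finite.of_restrictScalars_finite ℤ (ZMod p) K
    exact Module.finite_of_finite (ZMod p)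
  · exfalso
    subst h
    haveI : CharZero K := CharP.charP_to_charZero K
    haveI : Algebra.IsIntegral ℤ K := Algebra.IsIntegral.of_finite ℤ K
    exact Int.not_isField (isField_of_isIntegral_of_isField (RingHom.injective_int _) (Field.toIsField K))

/-- A finite complex linear group is a linear group over a finite field of coprime characteristic. -/
theorem exists_finite_model (r : ℕ) (G : Subgroup (GL (Fin r) ℂ)) [Finite G] :
    ∃ (K : Type) (_ : Field K) (_ : Finite K) (ρ : G →* GL (Fin r) K),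
      Function.Injective ρ ∧ (Nat.card G : K) ≠ 0 := by
  classical
  haveI := Fintype.ofFinite G
  let e : G × Fin r × Fin r → ℂ := fun t => (t.1.1 : Matrix (Fin r) (Fin r) ℂ) t.2.1 t.2.2
  let e' : G × Fin r × Fin r → ℂ := fun t => (e t - if t.2.1 = t.2.2 then 1 else 0)⁻¹
  let S : Finset ℂ := Finset.univ.image e ∪ Finset.univ.image e' ∪ {(Nat.card G : ℂ)⁻¹}
  let R := Algebra.adjoin ℤ (S : Set ℂ)
  haveI : Algebra.FiniteType ℤ R := (Subalgebra.fg_iff_finiteType R).1 ⟨S, rfl⟩
  obtain ⟨M, hM⟩ := Ideal.exists_maximal R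
  letI : Field (R ⧸ M) := Ideal.Quotient.field M
  have hft : Algebra.FiniteType ℤ (R ⧸ M) :=
    Algebra.FiniteType.of_surjective (Ideal.Quotient.mkₐ ℤ M) (Ideal.Quotient.mkₐ_surjective ℤ M)
  haveI : Finite (R ⧸ M) := @finite_field_of_finiteType (R ⧸ M) _ (by convert! hft)
  have hmem : ∀ x ∈ S, x ∈ R := fun x hx => Algebra.subset_adjoin hx
  have he : ∀ t, e t ∈ R := fun t => hmem _ (by simp [S])
  have he' : ∀ t, e' t ∈ R := fun t => hmem _ (by simp [S])
  let incl : R →+* ℂ := R.val.toRingHom
  have hincl : Function.Injective (incl.mapMatrix : Matrix (Fin r) (Fin r) R →+* Matrix (Fin r) (Fin r) ℂ) := by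
    intro a b h
    ext i j
    exact congrFun (congrFun h i) j
  let mR : G → Matrix (Fin r) (Fin r) R := fun g => Matrix.of fun i j => ⟨e (g, i, j), he _⟩
  have hmR : ∀ g, incl.mapMatrix (mR g) = (g.1 : Matrix (Fin r) (Fin r) ℂ) := fun g => rfl
  let μ : G →* Matrix (Fin r) (Fin r) R :=
    { toFun := mR
      map_one' := hincl (by rw [hmR, map_one]; rfl)
      map_mul' := fun g h => hincl (by rw [hmR, map_mul, hmR, hmR]; rfl) }
  let π : R →+* R ⧸ M := Ideal.Quotient.mk M
  refine ⟨R ⧸ M, inferInstance, inferInstance, (π.mapMatrix.toMonoidHom.comp μ).toHomUnits, ?_, ?_⟩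
  · refine (injective_iff_map_eq_one _).2 fun g hg => ?_
    by_contra hne
    obtain ⟨i, j, hij⟩ : ∃ i j, (g.1 : Matrix (Fin r) (Fin r) ℂ) i j ≠ (1 : Matrix (Fin r) (Fin r) ℂ) i j := by
      by_contra hc
      push Not at hc
      exact hne (Subtype.ext (Units.ext (Matrix.ext hc)))
    rw [Matrix.one_apply] at hij
    have h1 : π (⟨e (g, i, j), he _⟩) = if i = j then 1 else 0 := by
      have h2 := congrArg (fun u : GL (Fin r) (R ⧸ M) => (u : Matrix (Fin r) (Fin r) (R ⧸ M)) i j) hg
      simp only [Units.val_one, Matrix.one_apply] at h2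
      exact h2
    set d : R := ⟨e (g, i, j), he _⟩ - if i = j then 1 else 0
    have hd : π d = 0 := by
      simp only [d, map_sub, h1]
      split_ifs <;> simp
    have hu : d * ⟨e' (g, i, j), he' _⟩ = 1 := by
      apply Subtype.ext
      have hd' : (d : ℂ) = e (g, i, j) - if i = j then 1 else 0 := by
        simp only [d]
        split_ifs <;> simp
      change (d : ℂ) * e' (g, i, j) = 1
      rw [hd']
      exact mul_inv_cancel₀ (sub_ne_zero.2 hij)
    have := congrArg π hu
    rw [map_mul, hd, zero_mul, map_one] at this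
    exact zero_ne_one this
  · intro h0
    have hn : (Nat.card G : ℂ) ≠ 0 := Nat.cast_ne_zero.2 Nat.card_pos.ne'
    have hu : (Nat.card G : R) * ⟨(Nat.card G : ℂ)⁻¹, hmem _ (by simp [S])⟩ = 1 := by
      apply Subtype.ext
      change ((Nat.card G : R) : ℂ) * (Nat.card G : ℂ)⁻¹ = 1
      rw [show ((Nat.card G : R) : ℂ) = (Nat.card G : ℂ) from map_natCast R.val _]
      exact mul_inv_cancel₀ hn
    have := congrArg π hu
    rw [map_mul, map_natCast, h0, zero_mul, map_one] at this
    exact zero_ne_one this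

/-- Maschke. -/
theorem cr_of_coprime {A V : Type u} [Group A] [Finite A] [AddCommGroup V] [DistribMulAction A V] {p : ℕ}
    (hp : p.Prime) (hexp : ∀ v : V, p • v = 0) (hco : ¬ p ∣ Nat.card A) : CR A V := by
  classical
  haveI := Fact.mk hp
  haveI := Fintype.ofFinite A
  letI : Module (ZMod p) V := AddCommGroup.zmodModule (n := p) hexp
  intro U hU
  let U' : Submodule (ZMod p) V := AddSubgroup.toZModSubmodule p U
  obtain ⟨π, hπ⟩ := U'.subtype.exists_leftInverse_of_injective (Submodule.ker_subtype U')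
  set n := ((Nat.card A : ZMod p)⁻¹).val
  have hn : ∀ v : V, (n * Nat.card A) • v = v := by
    intro v
    rw [← Nat.cast_smul_eq_nsmul (ZMod p), Nat.cast_mul, ZMod.natCast_val, ZMod.cast_id, inv_mul_cancel₀,
      one_smul]
    rw [Ne, ZMod.natCast_eq_zero_iff]
    exact hco
  let avg : V →+ V :=
    { toFun := fun v => n • ∑ a : A, a • ((π (a⁻¹ • v) : U') : V)
      map_zero' := by simp
      map_add' := fun v w => by
        simp only [smul_add, map_add, Submodule.coe_add, Finset.sum_add_distrib] }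
  have hfix : ∀ u ∈ U, avg u = u := by
    intro u hu
    change n • ∑ a : A, a • ((π (a⁻¹ • u) : U') : V) = u
    have : ∀ a : A, a • ((π (a⁻¹ • u) : U') : V) = u := by
      intro a
      have h1 : a⁻¹ • u ∈ U' := hU a⁻¹ u hu
      have h2 : π (a⁻¹ • u) = ⟨a⁻¹ • u, h1⟩ := LinearMap.congr_fun hπ ⟨a⁻¹ • u, h1⟩
      rw [h2, smul_inv_smul]
    rw [Finset.sum_congr rfl fun a _ => this a, Finset.sum_const, Finset.card_univ, ← Nat.card_eq_fintype_card,
      smul_smul, hn]
  have hrange : ∀ v, avg v ∈ U := fun v =>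
    nsmul_mem (AddSubgroup.sum_mem _ fun a _ => hU a _ (π (a⁻¹ • v)).2) _
  refine ⟨avg.ker, ?_, ?_, ?_⟩
  · intro g v hv
    rw [AddMonoidHom.mem_ker] at hv ⊢
    have e : g • (n • ∑ a : A, a • ((π (a⁻¹ • v) : U') : V)) =
        n • ∑ a : A, a • ((π (a⁻¹ • (g • v)) : U') : V) := by
      rw [show g • (n • ∑ a : A, a • ((π (a⁻¹ • v) : U') : V)) =
          n • (g • ∑ a : A, a • ((π (a⁻¹ • v) : U') : V)) from
        map_nsmul (DistribSMul.toAddMonoidHom V g) n _, Finset.smul_sum]
      congr 1
      refine Fintype.sum_equiv (Equiv.mulLeft g) _ _ fun a => ?_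
      simp only [Equiv.coe_mulLeft]
      rw [mul_inv_rev, mul_smul a⁻¹ g⁻¹, inv_smul_smul, mul_smul]
    change n • ∑ a : A, a • ((π (a⁻¹ • (g • v)) : U') : V) = 0
    rw [← e]
    change g • avg v = 0
    rw [hv, smul_zero]
  · rw [eq_bot_iff]
    rintro v ⟨hvU, hvk⟩
    rw [AddSubgroup.mem_bot, ← hfix v hvU]
    exact hvk
  · rw [eq_top_iff]
    intro v _
    refine AddSubgroup.mem_sup.2 ⟨avg v, hrange v, v - avg v, ?_, add_sub_cancel _ _⟩
    rw [AddMonoidHom.mem_ker, map_sub, hfix _ (hrange v), sub_self]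

/-- The bound for complex linear groups. -/
theorem sb_complex (r : ℕ) (hr : 1 ≤ r) (G : Subgroup (GL (Fin r) ℂ)) [Finite G] [Group.IsSolvable G] :
    SB (G ⧸ fittingSubgroup G) (3 ^ (r - 1)) := by
  classical
  obtain ⟨K, _, _, ρ, hρ, hco⟩ := exists_finite_model r G
  haveI := Fintype.ofFinite K
  obtain ⟨p, hchar⟩ := CharP.exists K
  have hp : p.Prime := CharP.char_is_prime K p
  haveI := Fact.mk hp
  obtain ⟨⟨f, hfpos⟩, -, hq⟩ := FiniteField.card K p
  have hq' : Nat.card K = p ^ f := by rw [Nat.card_eq_fintype_card]; exact hq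
  let V := Fin r → K
  haveI : Nonempty (Fin r) := ⟨⟨0, hr⟩⟩
  let scal : Kˣ →* GL (Fin r) K := Units.map (Matrix.scalar (Fin r)).toMonoidHom
  have hcomm : ∀ (c : Kˣ) (g : GL (Fin r) K), scal c * g = g * scal c := fun c g =>
    Units.ext (Matrix.scalar_commute (n := Fin r) (c : K) (fun _ => mul_comm _ _) (g : Matrix (Fin r) (Fin r) K)).eq
  let φ : G × Kˣ →* GL (Fin r) K :=
    { toFun := fun t => ρ t.1 * scal t.2
      map_one' := by simp
      map_mul' := fun s t => by
        simp only [Prod.fst_mul, Prod.snd_mul, map_mul]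
        rw [mul_assoc, ← mul_assoc (ρ t.1), ← hcomm s.2 (ρ t.1 ), mul_assoc, ← mul_assoc] }
  haveI : Group.IsSolvable (G × Kˣ) := inferInstance
  haveI : Group.IsSolvable φ.range := Group.isSolvable_of_surjective φ.rangeRestrict_surjective
  haveI : Finite φ.range := Finite.of_surjective _ φ.rangeRestrict_surjective
  letI : DistribMulAction φ.range V :=
    { smul := fun a v => Matrix.mulVec ((a : GL (Fin r) K) : Matrix (Fin r) (Fin r) K) v
      one_smul := fun v => Matrix.one_mulVec v
      mul_smul := fun a b v => (Matrix.mulVec_mulVec v _ _).symm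
      smul_zero := fun a => Matrix.mulVec_zero _
      smul_add := fun a v w => Matrix.mulVec_add _ v w }
  haveI : FaithfulSMul φ.range V := ⟨fun {a b} h => Subtype.ext (Units.ext (Matrix.ext fun i j => by
    have := congrFun (h (Pi.single j 1)) i
    simpa [show ∀ (a : φ.range) (v : V), a • v = Matrix.mulVec ((a : GL (Fin r) K) : Matrix (Fin r) (Fin r) K) v
      from fun _ _ => rfl] using this))⟩
  have hexp : ∀ v : V, p • v = 0 := fun v => by
    funext i
    simp [CharP.cast_eq_zero]
  have hdiv : ¬ p ∣ Nat.card φ.range := by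
    intro h
    have h1 : p ∣ Nat.card (G × Kˣ) := h.trans (Subgroup.card_range_dvd φ)
    rw [Nat.card_prod, Nat.card_units, hq'] at h1
    rcases hp.dvd_mul.1 h1 with h2 | h2
    · exact hco ((CharP.cast_eq_zero_iff K p _).2 h2)
    · have h3 : p ∣ p ^ f := dvd_pow_self p (by omega)
      have h4 : p ∣ 1 := by
        have := Nat.dvd_sub h3 h2
        rwa [Nat.sub_sub_self (Nat.one_le_pow _ _ hp.pos)] at this
      exact hp.one_lt.ne' (Nat.dvd_one.1 h4)
  have hcr : CR φ.range V := cr_of_coprime hp hexp hdiv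
  obtain ⟨c, hc⟩ := IsCyclic.exists_generator (α := Kˣ)
  have hs : Scal φ.range V (p ^ f) := by
    refine ⟨φ.rangeRestrict (1, c), ?_, ?_, ?_⟩
    · rw [Subgroup.mem_center_iff]
      intro a
      obtain ⟨t, rfl⟩ := φ.rangeRestrict_surjective a
      rw [← map_mul, ← map_mul]
      congr 1
      exact Prod.ext (by simp) (mul_comm _ _)
    · rw [← map_pow, ← map_one φ.rangeRestrict]
      congr 1
      refine Prod.ext (one_pow _) ?_
      change c ^ (p ^ f - 1) = 1
      rw [← hq', ← Nat.card_units]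
      exact pow_card_eq_one'
    · intro i hi v hv
      have hci : ((c ^ i : Kˣ) : K) ≠ 1 := by
        intro h
        apply hi
        rw [← hq', ← Nat.card_units, ← orderOf_eq_card_of_forall_mem_zpowers hc]
        exact orderOf_dvd_of_pow_eq_one (Units.ext h)
      rw [← map_pow] at hv
      change Matrix.mulVec ((φ ((1, c) ^ i) : GL (Fin r) K) : Matrix (Fin r) (Fin r) K) v = v at hv
      have e : φ ((1, c) ^ i) = scal (c ^ i) := by
        rw [Prod.pow_mk, one_pow]
        simp only [φ, MonoidHom.coe_mk, OneHom.coe_mk, map_one, one_mul]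
      rw [e] at hv
      funext k
      have h1 := congrFun hv k
      simp only [scal, Units.coe_map, RingHom.toMonoidHom_eq_coe, MonoidHom.coe_coe, Matrix.scalar_apply,
        Matrix.mulVec_diagonal] at h1
      by_contra hk
      exact hci (mul_eq_right₀ hk |>.1 h1)
  have hV : Nat.card V = p ^ (f * r) := by
    rw [Nat.card_fun, hq', Nat.card_fin, ← pow_mul]
  have h := sb_linear hp (by omega : f ≠ 0) r φ.range V hs hV hcr
  let j : G →* φ.range := φ.rangeRestrict.comp (MonoidHom.inl G Kˣ)
  have hj : Function.Injective j := fun a b e => hρ (by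
    have h1 : φ (a, 1) = φ (b, 1) := congrArg Subtype.val e
    simpa [φ] using h1)
  refine sb_fitting_of ((QuotientGroup.mk' (fittingSubgroup φ.range)).comp j) ?_ h
  haveI := Cfsg.Lib.Components.isNilpotent_fitting (G := φ.range)
  refine Cfsg.Lib.Components.le_fitting ?_
  let k : ((QuotientGroup.mk' (fittingSubgroup φ.range)).comp j).ker →* fittingSubgroup φ.range :=
    MonoidHom.mk' (fun x => ⟨j x.1, (QuotientGroup.eq_one_iff _).1 x.2⟩)
      fun x y => Subtype.ext (map_mul j x.1 y.1)
  exact isNilpotent_of_injective k fun x y e => Subtype.ext (hj (congrArg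
    (fun z : fittingSubgroup φ.range => (z : φ.range)) e))

end Cfsg.Lib.SolvLinear
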