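import Cfsg.Agent.SolvLinear.Main
import Cfsg.Agent.Coprime.Fitting

/-!
Class numbers of solvable groups with order divisible by `p ^ 2`.
-/

set_option autoImplicit false
set_option linter.style.haveILetI false
set_option linter.unusedSectionVars false

namespace Cfsg.Lib.SolvLinear

open Cfsg.Lib.OddBase Subgroup
open scoped commutatorElement

universe u

variable {G : Type u} [Group G] [Finite G]

/-- The group induced on an abelian normal subgroup, with classes and orbits against the class number. -/
theorem quot_orbits (N : Subgroup G) [N.Normal] [IsMulCommutative N] :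
    ∃ (A V : Type u) (_ : Group A) (_ : Finite A) (_ : AddCommGroup V) (_ : Finite V)
      (_ : DistribMulAction A V) (f : G →* A), Function.Surjective f ∧ FaithfulSMul A V ∧
      f.ker = centralizer (N : Set G) ∧ Nat.card V = Nat.card N ∧
      (∀ U : AddSubgroup V, (∀ a : A, ∀ v ∈ U, a • v ∈ U) →
        ∃ M : Subgroup G, M.Normal ∧ M ≤ N ∧ Nat.card M = Nat.card U) ∧
      Nat.card (ConjClasses A) + Nat.card (MulAction.orbitRel.Quotient A V) ≤
        Nat.card (ConjClasses G) + 1 := by
  classical
  letI : CommGroup N :=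
    { (inferInstance : Group N) with mul_comm := IsMulCommutative.is_comm.comm }
  set φ : G →* MulAut N := MulAut.conjNormal
  letI : DistribMulAction φ.range (Additive N) :=
    { smul := fun a v => Additive.ofMul ((a : MulAut N) (Additive.toMul v))
      one_smul := fun v => rfl
      mul_smul := fun a b v => rfl
      smul_zero := fun a => by
        change Additive.ofMul ((a : MulAut N) 1) = 0
        rw [map_one]; rfl
      smul_add := fun a v w => by
        change Additive.ofMul ((a : MulAut N) (Additive.toMul v * Additive.toMul w)) = _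
        rw [map_mul]; rfl }
  have hker : φ.rangeRestrict.ker = centralizer (N : Set G) := by
    ext g
    rw [MonoidHom.ker_rangeRestrict, MonoidHom.mem_ker, mem_centralizer_iff]
    constructor
    · intro h x hx
      have h1 : g * x * g⁻¹ = x := by
        have := congrArg (fun σ : MulAut N => ((σ ⟨x, hx⟩ : N) : G)) h
        simpa [φ, MulAut.conjNormal_apply] using this
      exact (mul_inv_eq_iff_eq_mul.1 h1).symm
    · intro h
      apply MulEquiv.ext
      intro x
      apply Subtype.ext
      rw [MulAut.conjNormal_apply, ← h _ x.2, mul_inv_cancel_right]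
      rfl
  refine ⟨φ.range, Additive N, inferInstance, Finite.of_surjective _ φ.rangeRestrict_surjective,
    inferInstance, inferInstance, inferInstance, φ.rangeRestrict, φ.rangeRestrict_surjective, ?_, hker,
    rfl, ?_, ?_⟩
  · exact ⟨fun {a b} h => Subtype.ext (MulEquiv.ext fun x => Additive.ofMul.injective (h (Additive.ofMul x)))⟩
  · intro U hU
    refine ⟨(AddSubgroup.toSubgroup' U).map N.subtype, ⟨?_⟩, map_subtype_le _, ?_⟩
    · rintro _ ⟨x, hx, rfl⟩ g
      refine ⟨φ g x, hU (φ.rangeRestrict g) (Additive.ofMul x) hx, ?_⟩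
      exact MulAut.conjNormal_apply g x
    · rw [card_map_of_injective N.subtype_injective]
      rfl
  · have hN : N ≤ φ.rangeRestrict.ker := hker.ge.trans' (Subgroup.le_centralizer N)
    have h1 : Nat.card (ConjClasses φ.range) ≤ Nat.card (ConjClasses (G ⧸ N)) :=
      card_classes_map_le (QuotientGroup.lift N φ.rangeRestrict hN) fun a => by
        obtain ⟨g, rfl⟩ := φ.rangeRestrict_surjective a
        exact ⟨(g : G ⧸ N), rfl⟩
    have h2 := classes_quot_add N
    let F : MulAction.orbitRel.Quotient φ.range (Additive N) →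
        {C : ConjClasses G // ∃ g ∈ N, ConjClasses.mk g = C} :=
      fun q => ⟨ConjClasses.mk ((Additive.toMul q.out : N) : G), _, (Additive.toMul q.out).2, rfl⟩
    have hF : Function.Injective F := by
      intro q r h
      obtain ⟨g, hg⟩ := isConj_iff.1 (ConjClasses.mk_eq_mk_iff_isConj.1 (congrArg Subtype.val h))
      rw [← q.out_eq', ← r.out_eq']
      refine Quotient.sound' ⟨φ.rangeRestrict g⁻¹, ?_⟩
      refine Additive.toMul.injective (Subtype.ext ?_)
      change ((φ g⁻¹ (Additive.toMul r.out) : N) : G) = _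
      rw [MulAut.conjNormal_apply, ← hg]
      group
    have h3 := Nat.card_le_card_of_injective F hF
    omega

theorem exists_min_normal {K : Subgroup G} (hKn : K.Normal) (hK : K ≠ ⊥) :
    ∃ N : Subgroup G, N.Normal ∧ N ≤ K ∧ N ≠ ⊥ ∧
      ∀ M : Subgroup G, M.Normal → M ≤ N → M = ⊥ ∨ M = N := by
  classical
  haveI := Fintype.ofFinite (Subgroup G)
  obtain ⟨N, hN, hmin⟩ := (Finset.univ.filter fun N : Subgroup G => N.Normal ∧ N ≤ K ∧ N ≠ ⊥).exists_min_image
    (fun N => Nat.card N) ⟨K, Finset.mem_filter.2 ⟨Finset.mem_univ _, hKn, le_rfl, hK⟩⟩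
  obtain ⟨h1, h2, h3⟩ := (Finset.mem_filter.1 hN).2
  exact ⟨N, h1, h2, h3, fun M hM hle => or_iff_not_imp_left.2 fun h =>
    Subgroup.eq_of_le_of_card_ge hle
      (hmin M (Finset.mem_filter.2 ⟨Finset.mem_univ _, hM, hle.trans h2, h⟩))⟩

/-- Conjugations commute on a cyclic normal subgroup. -/
theorem commutator_fix {X : Type u} [Group X] (M : Subgroup X) [M.Normal] [IsCyclic M] (g h x : X)
    (hx : x ∈ M) : ⁅g, h⁆ * x * ⁅g, h⁆⁻¹ = x := by
  obtain ⟨a, ha⟩ := MonoidHom.map_cyclic (MulAut.conjNormal g : MulAut M).toMonoidHom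
  obtain ⟨b, hb⟩ := MonoidHom.map_cyclic (MulAut.conjNormal h : MulAut M).toMonoidHom
  have hab : (MulAut.conjNormal g : MulAut M) * MulAut.conjNormal h =
      MulAut.conjNormal h * MulAut.conjNormal g := by
    apply MulEquiv.ext
    intro y
    change MulAut.conjNormal g (MulAut.conjNormal h y) = MulAut.conjNormal h (MulAut.conjNormal g y)
    have ha' : ∀ z : M, MulAut.conjNormal g z = z ^ a := ha
    have hb' : ∀ z : M, MulAut.conjNormal h z = z ^ b := hb
    rw [hb' y, ha', ha' y, hb', ← zpow_mul, ← zpow_mul, mul_comm]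
  have h1 : (MulAut.conjNormal ⁅g, h⁆ : MulAut M) = 1 := by
    rw [map_commutatorElement, commutatorElement_eq_one_iff_mul_comm]
    exact hab
  have := congrArg (fun σ : MulAut M => ((σ ⟨x, hx⟩ : M) : X)) h1
  simp only [MulAut.conjNormal_apply, MulAut.one_apply] at this
  exact this

/-- The induced group on a normal subgroup of order `p ^ 2` has commuting elements, the Sylow subgroup
being that small. -/
theorem commutator_mem_centralizer {p : ℕ} [hp : Fact p.Prime] {P N : Subgroup G} [P.Normal] [N.Normal]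
    (hNP : N ≤ P) (hN : Nat.card N = p) (hP : Nat.card P = p ^ 2)
    (hC : ¬ p ∣ (centralizer (P : Set G)).index) (g h : G) : ⁅g, h⁆ ∈ centralizer (P : Set G) := by
  classical
  haveI := isCyclic_of_prime_card hN
  set c := ⁅g, h⁆
  have hPN : Nat.card (P.map (QuotientGroup.mk' N)) = p := by
    have h1 := Cfsg.Lib.Coprime.card_comap_mk' (N := N) (P.map (QuotientGroup.mk' N))
    rw [Subgroup.comap_map_eq_self (by rwa [QuotientGroup.ker_mk']), hN, hP, pow_two] at h1
    exact (Nat.eq_of_mul_eq_mul_left hp.out.pos h1).symm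
  haveI := isCyclic_of_prime_card hPN
  haveI : (P.map (QuotientGroup.mk' N)).Normal :=
    Subgroup.Normal.map inferInstance _ (QuotientGroup.mk'_surjective N)
  have hfix : ∀ d ∈ N, c * d * c⁻¹ = d := fun d hd => commutator_fix N g h d hd
  have hmov : ∀ v ∈ P, c * v * c⁻¹ * v⁻¹ ∈ N := by
    intro v hv
    have h1 := commutator_fix (P.map (QuotientGroup.mk' N)) (QuotientGroup.mk' N g) (QuotientGroup.mk' N h)
      (QuotientGroup.mk' N v) ⟨v, hv, rfl⟩
    rw [← map_commutatorElement, ← map_inv, ← map_mul, ← map_mul] at h1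
    rw [← QuotientGroup.eq_one_iff]
    change QuotientGroup.mk' N (c * v * c⁻¹ * v⁻¹) = 1
    rw [map_mul, h1, map_inv, mul_inv_cancel]
  have hpow : c ^ p ∈ centralizer (P : Set G) := by
    rw [mem_centralizer_iff]
    intro v hv
    set d := c * v * c⁻¹ * v⁻¹
    have hd : d ∈ N := hmov v hv
    have key : ∀ j : ℕ, c ^ j * v * (c ^ j)⁻¹ = d ^ j * v := by
      intro j
      induction j with
      | zero => simp
      | succ j ih =>
        calc c ^ (j + 1) * v * (c ^ (j + 1))⁻¹ = c * (c ^ j * v * (c ^ j)⁻¹) * c⁻¹ := by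
              rw [pow_succ']; group
          _ = c * (d ^ j * v) * c⁻¹ := by rw [ih]
          _ = (c * d ^ j * c⁻¹) * (c * v * c⁻¹) := by group
          _ = d ^ j * (d * v) := by
              rw [hfix _ (pow_mem hd j)]
              simp only [d, inv_mul_cancel_right]
          _ = d ^ (j + 1) * v := by rw [pow_succ]; group
    have h1 := key p
    rw [show d ^ p = 1 by
      have := pow_card_eq_one' (x := (⟨d, hd⟩ : N))
      rw [hN] at this
      exact congrArg Subtype.val this, one_mul] at h1
    exact (mul_inv_eq_iff_eq_mul.1 h1).symm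
  set C := centralizer (P : Set G)
  rw [← QuotientGroup.eq_one_iff, ← orderOf_eq_one_iff]
  have h2 : orderOf (c : G ⧸ C) ∣ p := orderOf_dvd_of_pow_eq_one (by
    rw [← QuotientGroup.mk_pow, QuotientGroup.eq_one_iff]; exact hpow)
  refine ((Nat.dvd_prime hp.out).1 h2).resolve_right fun h3 => hC ?_
  rw [← h3, Subgroup.index_eq_card]
  exact orderOf_dvd_natCard _

/-- The class number bound. -/
theorem classes_ge_of_sq_dvd : ∀ (n : ℕ) (G : Type u) [Group G] [Finite G] [Group.IsSolvable G]
    (p : ℕ), p.Prime → Nat.card G ≤ n → p ^ 2 ∣ Nat.card G → 49 * p ≤ 60 * Nat.card (ConjClasses G) := by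
  intro n
  induction n with
  | zero => intro G _ _ _ p _ h; exact absurd h (by have := Nat.card_pos (α := G); omega)
  | succ n ih =>
  intro G _ _ _ p hp hn hdvd
  classical
  haveI := Fact.mk hp
  set k := Nat.card (ConjClasses G) with hk
  have hp2 : 4 ≤ p ^ 2 := le_trans (by norm_num) (Nat.pow_le_pow_left hp.two_le 2)
  have hG4 : p ^ 2 ≤ Nat.card G := Nat.le_of_dvd Nat.card_pos hdvd
  -- the primes two and three
  by_cases hp5 : p < 5
  · by_contra hc
    have hp4 : p ≠ 4 := by rintro rfl; norm_num at hp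
    have hk2 : k ≤ 2 := by omega
    have h1 := order_le_of_classes _ G le_rfl (by omega)
    rw [← hk] at h1
    have : smallBound k ≤ 2 := by interval_cases k <;> simp [smallBound]
    omega
  haveI : Nontrivial G := Finite.one_lt_card_iff_nontrivial.1 (by omega)
  -- quotients
  by_cases hq : ∃ N : Subgroup G, N.Normal ∧ N ≠ ⊥ ∧ p ^ 2 ∣ N.index
  · obtain ⟨N, hNn, hN1, hNd⟩ := hq
    haveI := hNn
    have hlt : Nat.card (G ⧸ N) < Nat.card G := Cfsg.Lib.Coprime.card_quotient_lt hN1
    have := ih (G ⧸ N) p hp (by omega) (by rwa [← Subgroup.index_eq_card])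
    have := card_classes_map_le (QuotientGroup.mk' N) (QuotientGroup.mk'_surjective N)
    omega
  push Not at hq
  have hp' : ∀ N : Subgroup G, N.Normal → (Nat.card N).Coprime p → N = ⊥ := by
    intro N hNn hco
    by_contra h
    refine hq N hNn h ((Nat.Coprime.pow_left 2 hco.symm).dvd_of_dvd_mul_left ?_)
    rwa [N.card_mul_index]
  have hprim : ∀ N : Subgroup G, N.Normal → N ≠ ⊥ → (∀ M : Subgroup G, M.Normal → M ≤ N → M = ⊥ ∨ M = N) →
      IsMulCommutative N ∧ ∃ j, j ≠ 0 ∧ Nat.card N = p ^ j := by
    intro N hNn hN1 hmin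
    haveI := hNn
    obtain ⟨hc, q, hq', hqN, -⟩ := Cfsg.Lib.Coprime.minimal_normal_solvable (N := N) inferInstance hN1 hmin
    haveI := Fact.mk hq'
    obtain ⟨j, hj⟩ := IsPGroup.iff_card.1 hqN
    have hj0 : j ≠ 0 := fun h => hN1 (Subgroup.card_eq_one.1 (by rw [hj, h, pow_zero]))
    by_cases hqp : q = p
    · exact ⟨hc, j, hj0, hqp ▸ hj⟩
    · exact absurd (hp' N hNn (by rw [hj]; exact Nat.Coprime.pow_left _ ((Nat.coprime_primes hq' hp).2 hqp))) hN1
  -- a minimal normal subgroup of rank at least two
  by_cases hA : ∃ N : Subgroup G, N.Normal ∧ N ≠ ⊥ ∧ (∀ M : Subgroup G, M.Normal → M ≤ N → M = ⊥ ∨ M = N) ∧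
      p < Nat.card N
  · obtain ⟨N, hNn, hN1, hmin, hlt⟩ := hA
    haveI := hNn
    obtain ⟨hc, j, hj0, hj⟩ := hprim N hNn hN1 hmin
    haveI := hc
    have hj2 : 2 ≤ j := by
      rcases j with _ | _ | j
      · exact absurd rfl hj0
      · rw [hj, pow_one] at hlt; omega
      · omega
    obtain ⟨A, V, _, _, _, _, _, f, hf, hfaith, -, hV, hsub, hle⟩ := quot_orbits N
    haveI := hfaith
    haveI : Group.IsSolvable A := Group.isSolvable_of_surjective hf
    have hirr : Irr A V := by
      intro U hU
      obtain ⟨M, hM, hMN, hMU⟩ := hsub U hU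
      rcases hmin M hM hMN with h | h
      · rw [h, Subgroup.card_bot] at hMU
        exact Or.inl (AddSubgroup.eq_bot_of_card_eq U hMU.symm)
      · rw [h, ← hV] at hMU
        exact Or.inr (AddSubgroup.eq_top_of_card_eq U hMU.symm)
    have := classes_add_orbits hirr hp (by omega) hj2 (hV.trans hj)
    omega
  push Not at hA
  -- the Sylow subgroup has order `p ^ 2`
  have hcore : pPrimeCore p G = ⊥ := hp' _ inferInstance (Cfsg.Lib.Components.coprime_card_pPrimeCore p)
  set P := pCore p G with hPdef
  haveI : P.Normal := inferInstance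
  have hPne : P ≠ ⊥ := by
    rw [hPdef, ← Cfsg.Lib.Coprime.fitting_eq_pCore p hcore]
    exact Cfsg.Lib.Coprime.fitting_ne_bot
  obtain ⟨N, hNn, hNP, hN1, hmin⟩ := exists_min_normal (inferInstance : P.Normal) hPne
  haveI := hNn
  obtain ⟨-, j, hj0, hj⟩ := hprim N hNn hN1 hmin
  have hNcard : Nat.card N = p := by
    have h1 := hA N hNn hN1 hmin
    have h2 : p ^ 1 ≤ p ^ j := Nat.pow_le_pow_right hp.pos (by omega)
    rw [pow_one, ← hj] at h2
    omega
  have hp3 : ¬ p ^ 3 ∣ Nat.card G := by
    intro h
    refine hq N hNn hN1 (Nat.dvd_of_mul_dvd_mul_left (k := p) hp.pos ?_)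
    rw [← pow_succ']
    rwa [← N.card_mul_index, hNcard] at h
  obtain ⟨i, hi⟩ := IsPGroup.iff_card.1 (Cfsg.Lib.Components.isPGroup_pCore (G := G) p)
  have hi2 : i ≤ 2 := by
    by_contra h
    exact hp3 ((Nat.pow_dvd_pow p (by omega : 3 ≤ i)).trans (hi ▸ Subgroup.card_subgroup_dvd_card _))
  have hCP := Cfsg.Lib.Coprime.centralizer_pCore_le p hcore
  have hi' : i = 2 := by
    by_contra h
    have hPN : N = P := Subgroup.eq_of_le_of_card_ge hNP (by
      rw [hNcard, hi]
      exact (Nat.pow_le_pow_right hp.pos (by omega : i ≤ 1)).trans (pow_one p).le)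
    haveI := isCyclic_of_prime_card hNcard
    have h1 : (centralizer (N : Set G)).index ∣ p - 1 := by
      rw [← Nat.totient_prime hp, ← hNcard, ← IsCyclic.card_mulAut]
      have hker : (MulAut.conjNormal : G →* MulAut N).ker = centralizer (N : Set G) := by
        ext g
        rw [MonoidHom.mem_ker, mem_centralizer_iff]
        constructor
        · intro h x hx
          have := congrArg (fun σ : MulAut N => ((σ ⟨x, hx⟩ : N) : G)) h
          simp only [MulAut.conjNormal_apply, MulAut.one_apply] at this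
          exact (mul_inv_eq_iff_eq_mul.1 this).symm
        · intro h
          apply MulEquiv.ext
          intro x
          apply Subtype.ext
          rw [MulAut.conjNormal_apply, ← h _ x.2, mul_inv_cancel_right]
          rfl
      rw [← hker, Subgroup.index_ker]
      exact Subgroup.card_subgroup_dvd_card _
    have h2 : Nat.card (centralizer (N : Set G)) ≤ p := by
      rw [← hNcard, hPN]
      exact Nat.card_le_card_of_injective _ (Subgroup.inclusion_injective hCP)
    have h3 : Nat.card G ≤ p * (p - 1) := by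
      rw [← (centralizer (N : Set G)).card_mul_index]
      exact Nat.mul_le_mul h2 (Nat.le_of_dvd (by omega) h1)
    have h4 : p * (p - 1) < p ^ 2 := by
      rw [pow_two]; exact Nat.mul_lt_mul_of_pos_left (by omega) hp.pos
    omega
  subst hi'
  haveI : IsMulCommutative P := IsPGroup.isMulCommutative_of_card_eq_prime_sq hi
  set C := centralizer (P : Set G)
  have hC : ¬ p ∣ C.index := by
    intro h
    refine hp3 ?_
    rw [← C.card_mul_index, show p ^ 3 = p ^ 2 * p by ring]
    exact Nat.mul_dvd_mul (hi ▸ Subgroup.card_dvd_of_le (Subgroup.le_centralizer P)) h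
  have hcomm := commutator_mem_centralizer hNP hNcard hi hC
  obtain ⟨A, V, _, _, _, _, _, f, hf, -, hker, hV, -, hle⟩ := quot_orbits P
  have habel : ∀ x y : A, x * y = y * x := by
    intro x y
    obtain ⟨g, rfl⟩ := hf x
    obtain ⟨h, rfl⟩ := hf y
    rw [← commutatorElement_eq_one_iff_mul_comm, ← map_commutatorElement, ← MonoidHom.mem_ker, hker]
    exact hcomm g h
  have hkA : Nat.card A ≤ Nat.card (ConjClasses A) := by
    refine Nat.card_le_card_of_injective ConjClasses.mk fun x y h => ?_
    obtain ⟨c, hc⟩ := isConj_iff.1 (ConjClasses.mk_eq_mk_iff_isConj.1 h)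
    rw [habel c x, mul_inv_cancel_right] at hc
    exact hc
  obtain ⟨h5, hR⟩ := orbits_mul_ge (A := A) (V := V)
  rw [hV, hi] at h5
  set R := Nat.card (MulAction.orbitRel.Quotient A V)
  have h6 : p ^ 2 - 1 ≤ (R - 1) * Nat.card (ConjClasses A) := h5.trans (Nat.mul_le_mul_left _ hkA)
  have h25 : 25 ≤ p ^ 2 := le_trans (by norm_num) (Nat.pow_le_pow_left (show 5 ≤ p by omega) 2)
  have := amgm (p := p) (k := Nat.card (ConjClasses A)) (r := R - 1) (by
    rw [← pow_two, mul_comm (Nat.card (ConjClasses A))]; omega)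
  omega

end Cfsg.Lib.SolvLinear
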