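import Mathlib
import Cfsg.Agent.Counting.ClassNumberIndex
import Cfsg.Agent.Coprime.Hall

/-!
Lower bounds for class numbers and orbit numbers.
-/

set_option autoImplicit false
set_option linter.style.haveILetI false

namespace Cfsg.Lib.SolvLinear

open Subgroup

universe u v

theorem card_classes_map_le {G H : Type*} [Group G] [Group H] [Finite G] (f : G →* H)
    (hf : Function.Surjective f) : Nat.card (ConjClasses H) ≤ Nat.card (ConjClasses G) :=
  Nat.card_le_card_of_surjective (ConjClasses.map f) (by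
    intro C
    obtain ⟨h, rfl⟩ := ConjClasses.exists_rep C
    obtain ⟨g, rfl⟩ := hf h
    exact ⟨ConjClasses.mk g, rfl⟩)

/-- `|G| k(G)` is the number of commuting pairs. -/
theorem sum_centralizer (G : Type*) [Group G] [Fintype G] :
    ∑ g : G, Nat.card (centralizer ({g} : Set G)) = Nat.card (ConjClasses G) * Nat.card G := by
  classical
  rw [← card_comm_eq_card_conjClasses_mul_card, ← Nat.card_sigma]
  exact Nat.card_congr
    { toFun := fun s => ⟨(s.1, s.2.1), (mem_centralizer_singleton_iff.1 s.2.2).symm⟩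
      invFun := fun p => ⟨p.1.1, p.1.2, mem_centralizer_singleton_iff.2 p.2.symm⟩
      left_inv := fun s => rfl
      right_inv := fun p => rfl }

/-- A central subgroup of order `s` and index `M` gives at least `3 s - 2 s / M` classes. -/
theorem central_bound {G : Type u} [Group G] [Finite G] (Z : Subgroup G) (hZ : Z ≤ center G) :
    Nat.card Z * (3 * Z.index - 2) ≤ Z.index * Nat.card (ConjClasses G) := by
  classical
  haveI := Fintype.ofFinite G
  haveI := Fintype.ofFinite Z
  set s := Nat.card Z with hs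
  set N := Nat.card G with hN
  set k := Nat.card (ConjClasses G)
  have hNs : s * Z.index = N := Z.card_mul_index
  have hin : ∀ g ∈ Z, Nat.card (centralizer ({g} : Set G)) = N := fun g hg => by
    rw [hN, show centralizer ({g} : Set G) = ⊤ from top_unique fun x _ =>
      mem_centralizer_singleton_iff.2 (Subgroup.mem_center_iff.1 (hZ hg) x), Subgroup.card_top]
  have hout : ∀ g ∉ Z, 2 * s ≤ Nat.card (centralizer ({g} : Set G)) := by
    intro g hg
    have hle : Z ≤ centralizer ({g} : Set G) := fun z hz =>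
      mem_centralizer_singleton_iff.2 (Subgroup.mem_center_iff.1 (hZ hz) g).symm
    have h1 := Subgroup.card_dvd_of_le hle
    obtain ⟨j, hj⟩ := h1
    have hj2 : 2 ≤ j := by
      have hpos : 0 < Nat.card (centralizer ({g} : Set G)) := Nat.card_pos
      have hne : j ≠ 1 := fun h => hg (by
        rw [Subgroup.eq_of_le_of_card_ge hle (by rw [hj, h, mul_one])]
        exact mem_centralizer_singleton_iff.2 rfl)
      rcases j with _ | _ | j
      · rw [mul_zero] at hj; omega
      · exact absurd rfl hne
      · omega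
    rw [hj, mul_comm]
    exact Nat.mul_le_mul_left _ hj2
  have hsum := sum_centralizer G
  rw [← Finset.sum_filter_add_sum_filter_not Finset.univ (fun g => g ∈ Z)] at hsum
  have hc1 : (Finset.univ.filter fun g : G => g ∈ Z).card = s := by
    rw [hs, Nat.card_eq_fintype_card, Fintype.card_subtype]
  have hc2 : (Finset.univ.filter fun g : G => g ∉ Z).card = N - s := by
    have := Finset.card_filter_add_card_filter_not (s := (Finset.univ : Finset G)) (fun g => g ∈ Z)
    rw [hc1, Finset.card_univ, ← Nat.card_eq_fintype_card] at this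
    omega
  have h2 : (N - s) * (2 * s) ≤ ∑ g ∈ Finset.univ.filter (fun g : G => g ∉ Z),
      Nat.card (centralizer ({g} : Set G)) := by
    rw [← hc2, ← smul_eq_mul]
    exact Finset.card_nsmul_le_sum _ _ _ fun g hg => hout g (Finset.mem_filter.1 hg).2
  rw [Finset.sum_congr rfl (fun g hg => hin g (Finset.mem_filter.1 hg).2), Finset.sum_const, hc1,
    smul_eq_mul] at hsum
  have h3 : s * N + (N - s) * (2 * s) ≤ k * N := (Nat.add_le_add_left h2 _).trans (le_of_eq hsum)
  have hM : 1 ≤ Z.index := Nat.one_le_iff_ne_zero.2 Subgroup.index_ne_zero_of_finite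
  obtain ⟨M', hM'⟩ := Nat.exists_eq_add_of_le hM
  rw [← hNs, hM'] at h3
  rw [hM', show 3 * (1 + M') - 2 = 1 + 3 * M' by omega]
  rw [show s * (1 + M') - s = s * M' by rw [mul_add, mul_one, Nat.add_sub_cancel_left]] at h3
  have hs0 : 0 < s := Nat.card_pos
  refine Nat.le_of_mul_le_mul_left ?_ hs0
  nlinarith

/-- Classes of a quotient by a normal subgroup and classes inside it. -/
theorem classes_quot_add {G : Type u} [Group G] [Finite G] (V : Subgroup G) [V.Normal] :
    Nat.card (ConjClasses (G ⧸ V)) + Nat.card {C : ConjClasses G // ∃ g ∈ V, ConjClasses.mk g = C} ≤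
      Nat.card (ConjClasses G) + 1 := by
  classical
  set f := QuotientGroup.mk' V
  set mp := ConjClasses.map f
  have hsurj : ∀ D : ConjClasses (G ⧸ V), ∃ C, mp C = D := by
    intro D
    obtain ⟨h, rfl⟩ := ConjClasses.exists_rep D
    obtain ⟨g, rfl⟩ := QuotientGroup.mk'_surjective V h
    exact ⟨ConjClasses.mk g, rfl⟩
  choose sec hsec using hsurj
  have hin : ∀ C : {C : ConjClasses G // ∃ g ∈ V, ConjClasses.mk g = C}, mp C.1 = ConjClasses.mk 1 := by
    rintro ⟨C, g, hg, rfl⟩
    exact congrArg ConjClasses.mk ((QuotientGroup.eq_one_iff g).2 hg)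
  let F : {D : ConjClasses (G ⧸ V) // D ≠ ConjClasses.mk 1} ⊕
      {C : ConjClasses G // ∃ g ∈ V, ConjClasses.mk g = C} → ConjClasses G :=
    Sum.elim (fun D => sec D.1) (fun C => C.1)
  have hF : Function.Injective F := by
    rintro (D | C) (D' | C') h <;> simp only [F, Sum.elim_inl, Sum.elim_inr] at h
    · exact congrArg _ (Subtype.ext (by rw [← hsec D.1, h, hsec]))
    · exact absurd (by rw [← hsec D.1, h, hin C']) D.2
    · exact absurd (by rw [← hsec D'.1, ← h, hin C]) D'.2
    · exact congrArg _ (Subtype.ext h)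
  have h1 := Nat.card_le_card_of_injective F hF
  rw [Nat.card_sum] at h1
  have h2 : Nat.card (ConjClasses (G ⧸ V)) ≤
      Nat.card {D : ConjClasses (G ⧸ V) // D ≠ ConjClasses.mk 1} + 1 := by
    rw [← Nat.card_congr (Equiv.optionSubtypeNe (ConjClasses.mk (1 : G ⧸ V))), Finite.card_option]
  omega

/-- The orbits of a finite group on the non-zero vectors. -/
theorem orbits_mul_ge {A : Type u} {V : Type v} [Group A] [Finite A] [AddCommGroup V] [Finite V]
    [DistribMulAction A V] :
    Nat.card V - 1 ≤ (Nat.card (MulAction.orbitRel.Quotient A V) - 1) * Nat.card A ∧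
      1 ≤ Nat.card (MulAction.orbitRel.Quotient A V) := by
  classical
  haveI : Nonempty (MulAction.orbitRel.Quotient A V) := ⟨Quotient.mk'' 0⟩
  refine ⟨?_, Nat.card_pos⟩
  let q0 : MulAction.orbitRel.Quotient A V := Quotient.mk'' 0
  let f : {v : V // v ≠ 0} → {q : MulAction.orbitRel.Quotient A V // q ≠ q0} × A := fun v =>
    (⟨Quotient.mk'' v.1, fun h => v.2 (by
        obtain ⟨a, ha⟩ := Quotient.eq''.1 h
        rw [← ha]; exact smul_zero a)⟩,
      Classical.choose (Quotient.exact' (Quotient.out_eq' (Quotient.mk'' v.1 : MulAction.orbitRel.Quotient A V))))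
  have hspec : ∀ v : {v : V // v ≠ 0},
      (f v).2 • v.1 = (Quotient.out (f v).1.1 : V) := fun v =>
    Classical.choose_spec (Quotient.exact' (Quotient.out_eq' (Quotient.mk'' v.1 : MulAction.orbitRel.Quotient A V)))
  have hf : Function.Injective f := by
    intro v w h
    have e := hspec v
    rw [h, ← hspec w] at e
    exact Subtype.ext (MulAction.injective _ e)
  have h1 := Nat.card_le_card_of_injective f hf
  rw [Nat.card_prod] at h1
  have e1 : Nat.card V = Nat.card {v : V // v ≠ 0} + 1 := by
    rw [← Nat.card_congr (Equiv.optionSubtypeNe (0 : V)), Finite.card_option]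
  have e2 : Nat.card (MulAction.orbitRel.Quotient A V) =
      Nat.card {q : MulAction.orbitRel.Quotient A V // q ≠ q0} + 1 := by
    rw [← Nat.card_congr (Equiv.optionSubtypeNe q0), Finite.card_option]
  rw [e1, e2, Nat.add_sub_cancel, Nat.add_sub_cancel]
  exact h1

/-- The bound for the order in terms of the class number, for at most four classes. -/
def smallBound (k : ℕ) : ℕ := if k ≤ 1 then 1 else if k = 2 then 2 else if k = 3 then 6 else 42

theorem order_le_of_classes : ∀ (n : ℕ) (G : Type u) [Group G] [Finite G] [Group.IsSolvable G],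
    Nat.card G ≤ n → Nat.card (ConjClasses G) ≤ 4 → Nat.card G ≤ smallBound (Nat.card (ConjClasses G)) := by
  intro n
  induction n with
  | zero => intro G _ _ _ h; exact absurd h (by have := Nat.card_pos (α := G); omega)
  | succ n ih =>
  intro G _ _ _ hn hk
  classical
  set k := Nat.card (ConjClasses G)
  have hk1 : 1 ≤ k := Nat.card_pos
  rcases subsingleton_or_nontrivial G with hs | hnt
  · rw [Nat.card_unique]; unfold smallBound; split_ifs <;> norm_num
  haveI := Fintype.ofFinite (Subgroup G)
  obtain ⟨N, hN, hNmin⟩ := (Finset.univ.filter fun M : Subgroup G => M.Normal ∧ M ≠ ⊥).exists_min_image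
    (fun M => Nat.card M) ⟨⊤, Finset.mem_filter.2 ⟨Finset.mem_univ _, inferInstance, top_ne_bot⟩⟩
  obtain ⟨hNn, hN1⟩ := (Finset.mem_filter.1 hN).2
  haveI := hNn
  have hmin : ∀ K : Subgroup G, K.Normal → K ≤ N → K = ⊥ ∨ K = N := fun K hK hle =>
    or_iff_not_imp_left.2 fun h => Subgroup.eq_of_le_of_card_ge hle
      (hNmin K (Finset.mem_filter.2 ⟨Finset.mem_univ _, hK, h⟩))
  haveI hNc := (Cfsg.Lib.Coprime.minimal_normal_solvable (N := N) inferInstance hN1 hmin).1
  set kb := Nat.card (ConjClasses (G ⧸ N))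
  set j := Nat.card {C : ConjClasses G // ∃ g ∈ N, ConjClasses.mk g = C}
  have hsum : kb + j ≤ k + 1 := classes_quot_add N
  -- every class inside `N` has at most `[G : N]` elements
  set M := Nat.card (G ⧸ N)
  let C1 : {C : ConjClasses G // ∃ g ∈ N, ConjClasses.mk g = C} := ⟨ConjClasses.mk 1, 1, one_mem N, rfl⟩
  have hcls : ∀ x : {x : N // x ≠ 1}, (⟨ConjClasses.mk (x.1 : G), (x.1 : G), x.1.2, rfl⟩ :
      {C : ConjClasses G // ∃ g ∈ N, ConjClasses.mk g = C}) ≠ C1 := by
    intro x h
    exact x.2 (Subtype.ext (isConj_one_left.1 (ConjClasses.mk_eq_mk_iff_isConj.1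
      (congrArg Subtype.val h))))
  have hconj : ∀ x : {x : N // x ≠ 1}, ∃ g : G ⧸ N,
      g.out * (x.1 : G) * g.out⁻¹ = Quotient.out (ConjClasses.mk (x.1 : G)) := by
    intro x
    have h := ConjClasses.mk_eq_mk_iff_isConj.1
      (Quotient.out_eq (ConjClasses.mk (x.1 : G))).symm
    obtain ⟨c, hc⟩ := isConj_iff.1 h
    refine ⟨(c : G ⧸ N), ?_⟩
    obtain ⟨m, hm⟩ := QuotientGroup.mk_out_eq_mul N c
    rw [hm]
    have hcomm : (m : G) * (x.1 : G) = (x.1 : G) * m :=
      congrArg Subtype.val (hNc.is_comm.comm m x.1)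
    calc c * m * (x.1 : G) * (c * m)⁻¹ = c * ((m : G) * (x.1 : G)) * (m : G)⁻¹ * c⁻¹ := by group
      _ = c * (x.1 : G) * c⁻¹ := by rw [hcomm]; group
      _ = _ := hc
  choose γ hγ using hconj
  let f : {x : N // x ≠ 1} → {C : {C : ConjClasses G // ∃ g ∈ N, ConjClasses.mk g = C} // C ≠ C1} × (G ⧸ N) :=
    fun x => (⟨_, hcls x⟩, γ x)
  have hf : Function.Injective f := by
    intro x y h
    have h1 : ConjClasses.mk (x.1 : G) = ConjClasses.mk (y.1 : G) :=
      congrArg (fun z => z.1.1.1) h
    have h2 : γ x = γ y := congrArg Prod.snd h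
    have h3 := hγ x
    rw [h1, ← hγ y, h2] at h3
    exact Subtype.ext (Subtype.ext (by simpa using h3))
  have hcard := Nat.card_le_card_of_injective f hf
  rw [Nat.card_prod] at hcard
  have e1 : Nat.card N = Nat.card {x : N // x ≠ 1} + 1 := by
    rw [← Nat.card_congr (Equiv.optionSubtypeNe (1 : N)), Finite.card_option]
  have e2 : j = Nat.card {C : {C : ConjClasses G // ∃ g ∈ N, ConjClasses.mk g = C} // C ≠ C1} + 1 := by
    rw [← Finite.card_option, Nat.card_congr (Equiv.optionSubtypeNe C1)]
  have hGN : Nat.card G = M * Nat.card N := N.card_eq_card_quotient_mul_card_subgroup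
  have hN2 : 2 ≤ Nat.card N := (Subgroup.one_lt_card_iff_ne_bot _).2 hN1
  have hMlt : M < Nat.card G := by
    rw [hGN]; exact lt_mul_right (Nat.card_pos) (by omega)
  have hj2 : 2 ≤ j := by
    by_contra h
    have h0 : Nat.card {C : {C : ConjClasses G // ∃ g ∈ N, ConjClasses.mk g = C} // C ≠ C1} = 0 := by
      omega
    rw [h0, zero_mul] at hcard
    omega
  have hkb : kb ≤ 4 := by omega
  have hkb1 : 1 ≤ kb := Nat.card_pos
  have hMb : M ≤ smallBound kb := ih (G ⧸ N) (by omega) hkb
  have hNle : Nat.card N ≤ (k - kb) * M + 1 := by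
    rw [e1]
    exact Nat.add_le_add_right (hcard.trans (Nat.mul_le_mul_right _ (by omega))) 1
  rw [hGN]
  have hb := (Nat.mul_le_mul hMb (hNle.trans (Nat.add_le_add_right (Nat.mul_le_mul_left _ hMb) 1)))
  refine hb.trans ?_
  have hlt : kb < k := by omega
  generalize kb = x at hlt hkb1 ⊢
  generalize k = y at hlt hk ⊢
  interval_cases y <;> interval_cases x <;> simp [smallBound]

end Cfsg.Lib.SolvLinear
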