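import Cfsg.Agent.SolvLinear.Core
import Cfsg.Agent.S0548

/-!
Dixon's bound for solvable permutation groups: the core of a subgroup of index `n` in a solvable group has
index at most `24 ^ ((n - 1) / 3)`.
-/

set_option autoImplicit false
set_option linter.style.haveILetI false

namespace Cfsg.Lib.SolvLinear

open Subgroup

universe u

theorem le_two_pow (p : ℕ) (hp : 2 ≤ p) : p ≤ 2 ^ (p - 1) := by
  obtain ⟨m, rfl⟩ := Nat.exists_eq_add_of_le hp
  rw [show 2 + m - 1 = m + 1 by omega]
  have := (m + 1).lt_two_pow_self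
  omega

theorem six_le (m : ℕ) : (m + 4) ^ 6 ≤ 24 ^ (m + 3) := by
  induction m with
  | zero => norm_num
  | succ m ih =>
    have h1 : (m + 1 + 4) ^ 6 ≤ (m + 4) ^ 6 * 4 := by
      have h2 : 4 * (m + 1 + 4) ≤ 5 * (m + 4) := by omega
      have h3 := Nat.pow_le_pow_left h2 6
      rw [mul_pow, mul_pow] at h3
      nlinarith [Nat.zero_le ((m + 4) ^ 6)]
    calc (m + 1 + 4) ^ 6 ≤ (m + 4) ^ 6 * 4 := h1
      _ ≤ 24 ^ (m + 3) * 24 := Nat.mul_le_mul ih (by norm_num)
      _ = 24 ^ (m + 1 + 3) := by rw [← pow_succ]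

theorem big_aux (p : ℕ) (hp : 2 ≤ p) :
    ∀ d, 2 ≤ d → (p = 2 → 4 ≤ d) → p ^ (3 * d * (d + 1)) ≤ 16 ^ (p ^ d - 1) := by
  have hstep : ∀ d, 2 ≤ d → p ^ (3 * d * (d + 1)) ≤ 16 ^ (p ^ d - 1) →
      p ^ (3 * (d + 1) * (d + 1 + 1)) ≤ 16 ^ (p ^ (d + 1) - 1) := by
    intro d hd h
    have h1 : 3 * (d + 1) * (d + 1 + 1) ≤ 2 * (3 * d * (d + 1)) := by nlinarith
    have h2 : 2 * (p ^ d - 1) ≤ p ^ (d + 1) - 1 := by
      have : 2 * p ^ d ≤ p ^ (d + 1) := by rw [pow_succ, mul_comm]; exact Nat.mul_le_mul_left _ hp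
      omega
    calc p ^ (3 * (d + 1) * (d + 1 + 1)) ≤ p ^ (2 * (3 * d * (d + 1))) := Nat.pow_le_pow_right (by omega) h1
      _ = (p ^ (3 * d * (d + 1))) ^ 2 := by rw [← pow_mul, mul_comm]
      _ ≤ (16 ^ (p ^ d - 1)) ^ 2 := Nat.pow_le_pow_left h 2
      _ = 16 ^ (2 * (p ^ d - 1)) := by rw [← pow_mul, mul_comm]
      _ ≤ _ := Nat.pow_le_pow_right (by norm_num) h2
  by_cases h2 : p = 2
  · subst h2
    intro d _ hd4
    have hd : 4 ≤ d := hd4 rfl
    clear hd4
    induction d, hd using Nat.le_induction with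
    | base => norm_num
    | succ d hd ih => exact hstep d (by omega) (ih (by omega))
  · intro d hd hh
    clear hh
    induction d, hd using Nat.le_induction with
    | base =>
      by_cases h3 : p = 3
      · subst h3; norm_num
      calc p ^ (3 * 2 * (2 + 1)) ≤ (2 ^ (p - 1)) ^ 18 := Nat.pow_le_pow_left (le_two_pow p hp) 18
        _ = 2 ^ ((p - 1) * 18) := by rw [← pow_mul]
        _ ≤ 2 ^ (4 * (p ^ 2 - 1)) := Nat.pow_le_pow_right (by norm_num) (by
            obtain ⟨m, rfl⟩ := Nat.exists_eq_add_of_le (show 4 ≤ p by omega)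
            have e : (4 + m) ^ 2 = 16 + 8 * m + m * m := by ring
            rw [e]
            omega)
        _ = 16 ^ (p ^ 2 - 1) := by rw [show (16 : ℕ) = 2 ^ 4 by norm_num, ← pow_mul]
    | succ d hd ih => exact hstep d hd ih

theorem affine_bound {p d : ℕ} (hp : p.Prime) (hd : 0 < d) :
    (p ^ d * ∏ i : Fin d, (p ^ d - p ^ (i : ℕ))) ^ 3 ≤ 24 ^ (p ^ d - 1) := by
  have hp2 := hp.two_le
  by_cases hd1 : d = 1
  · subst hd1
    simp only [Fin.prod_univ_one, Fin.val_zero, pow_zero, pow_one]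
    by_cases h4 : p < 4
    · interval_cases p <;> norm_num
    obtain ⟨m, rfl⟩ := Nat.exists_eq_add_of_le (Nat.le_of_not_lt h4)
    calc ((4 + m) * (4 + m - 1)) ^ 3 ≤ ((4 + m) * (4 + m)) ^ 3 :=
          Nat.pow_le_pow_left (Nat.mul_le_mul_left _ (Nat.sub_le _ _)) 3
      _ = (m + 4) ^ 6 := by ring
      _ ≤ 24 ^ (m + 3) := six_le m
      _ = _ := by congr 1; omega
  by_cases hbig : p = 2 → 4 ≤ d
  · have h1 : ∏ i : Fin d, (p ^ d - p ^ (i : ℕ)) ≤ (p ^ d) ^ d := by
      refine (Finset.prod_le_prod (fun _ _ => Nat.zero_le _)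
        (g := fun _ : Fin d => p ^ d) fun i _ => Nat.sub_le _ _).trans (le_of_eq ?_)
      rw [Finset.prod_const, Finset.card_univ, Fintype.card_fin]
    calc (p ^ d * ∏ i : Fin d, (p ^ d - p ^ (i : ℕ))) ^ 3 ≤ (p ^ d * (p ^ d) ^ d) ^ 3 :=
          Nat.pow_le_pow_left (Nat.mul_le_mul_left _ h1) 3
      _ = p ^ (3 * d * (d + 1)) := by ring
      _ ≤ 16 ^ (p ^ d - 1) := big_aux p hp2 d (by omega) hbig
      _ ≤ _ := Nat.pow_le_pow_left (by norm_num) _
  · push Not at hbig
    obtain ⟨rfl, hd4⟩ := hbig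
    interval_cases d <;> simp [Fin.prod_univ_two, Fin.prod_univ_three] at hd1 ⊢

/-- Dixon's bound. -/
theorem dixon : ∀ (n : ℕ) (G : Type u) [Group G] [Finite G] [Group.IsSolvable G] (H : Subgroup G),
    H.index = n → H.normalCore.index ^ 3 ≤ 24 ^ (n - 1) := by
  intro n
  induction n using Nat.strong_induction_on with
  | _ n ih =>
  intro G _ _ _ H hn
  classical
  by_cases htop : H = ⊤
  · subst htop
    rw [show (⊤ : Subgroup G).normalCore = ⊤ from top_unique (Subgroup.normal_le_normalCore.2 le_rfl),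
      Subgroup.index_top, one_pow]
    exact Nat.one_le_pow _ _ (by norm_num)
  by_cases hco : IsCoatom H
  · set f := MulAction.toPermHom G (G ⧸ H)
    rw [Subgroup.normalCore_eq_ker, Subgroup.index_ker]
    set Q := f.range
    haveI : Nontrivial (G ⧸ H) := QuotientGroup.nontrivial_iff.2 htop
    haveI hprimG : MulAction.IsPreprimitive G (G ⧸ H) := by
      rw [← MulAction.isCoatom_stabilizer_iff_preprimitive (G := G) ((1 : G) : G ⧸ H),
        MulAction.stabilizer_quotient]
      exact hco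
    haveI : Group.IsSolvable Q := Group.isSolvable_of_surjective f.rangeRestrict_surjective
    haveI : Finite Q := Finite.of_surjective _ f.rangeRestrict_surjective
    let ψ : G ⧸ H →ₑ[(f.rangeRestrict : G → Q)] G ⧸ H := { toFun := id, map_smul' := fun _ _ => rfl }
    haveI hprim : MulAction.IsPreprimitive Q (G ⧸ H) :=
      MulAction.IsPreprimitive.of_surjective (f := ψ) Function.surjective_id
    haveI : Nontrivial Q := by
      by_contra hnt
      rw [not_nontrivial_iff_subsingleton] at hnt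
      obtain ⟨a, b, hab⟩ := exists_pair_ne (G ⧸ H)
      obtain ⟨g, hg⟩ := MulAction.exists_smul_eq Q a b
      rw [Subsingleton.elim g 1, one_smul] at hg
      exact hab hg
    haveI := Fintype.ofFinite (Subgroup Q)
    obtain ⟨M, hM, hMmin⟩ := (Finset.univ.filter fun M : Subgroup Q => M.Normal ∧ M ≠ ⊥).exists_min_image
      (fun M => Nat.card M) ⟨⊤, Finset.mem_filter.2 ⟨Finset.mem_univ _, inferInstance, top_ne_bot⟩⟩
    obtain ⟨hMn, hM1⟩ := (Finset.mem_filter.1 hM).2
    haveI := hMn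
    have hmin : ∀ K : Subgroup Q, K.Normal → K ≤ M → K = ⊥ ∨ K = M := fun K hK hle =>
      or_iff_not_imp_left.2 fun h => Subgroup.eq_of_le_of_card_ge hle
        (hMmin K (Finset.mem_filter.2 ⟨Finset.mem_univ _, hK, h⟩))
    obtain ⟨-, -, p, d, hp, hd, hΩ, hMc⟩ := Cfsg.Agent.S0547.result hprim M hM1 hmin
    obtain ⟨hcompl, hcent, -⟩ := Cfsg.Agent.S0548.result hprim M hM1 hmin ((1 : G) : G ⧸ H)
    obtain ⟨hMab, q, hq, -, hpow⟩ := Cfsg.Lib.Coprime.minimal_normal_solvable (N := M) inferInstance hM1 hmin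
    haveI := Fact.mk hp
    have hexp : ∀ v : Additive M, p • v = 0 := by
      intro v
      have hqp : q = p := by
        haveI := Fact.mk hq
        obtain ⟨k, hk⟩ := IsPGroup.iff_card.1 (show IsPGroup q M from fun x => ⟨1, by rw [pow_one]; exact Subtype.ext (hpow x x.2)⟩)
        rw [hMc] at hk
        exact ((Nat.prime_dvd_prime_iff_eq hp hq).1 (hp.dvd_of_dvd_pow (hk ▸ dvd_pow_self p hd.ne'))).symm
      rw [← hqp]
      exact Additive.toMul.injective (Subtype.ext (by rw [toMul_nsmul]; exact hpow _ (Additive.toMul v).2))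
    set S := MulAction.stabilizer Q ((1 : G) : G ⧸ H)
    letI : CommGroup M := { (inferInstance : Group M) with mul_comm := hMab.is_comm.comm }
    let φ : S → (Additive M ≃+ Additive M) := fun s => MulEquiv.toAdditive (MulAut.conjNormal (s : Q))
    have hφ : Function.Injective φ := by
      intro s t h
      have h1 : (MulAut.conjNormal (s : Q) : MulAut M) = MulAut.conjNormal (t : Q) :=
        MulEquiv.toAdditive.injective h
      have h2 : ((t⁻¹ * s : S) : Q) ∈ S ⊓ Subgroup.centralizer (M : Set Q) := by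
        refine Subgroup.mem_inf.2 ⟨(t⁻¹ * s).2, Subgroup.mem_centralizer_iff.2 fun m hm => ?_⟩
        have h3 : (s : Q) * m * (s : Q)⁻¹ = (t : Q) * m * (t : Q)⁻¹ := by
          have := congrArg (fun e : MulAut M => ((e ⟨m, hm⟩ : M) : Q)) h1
          simpa using this
        calc m * ((t⁻¹ * s : S) : Q) = (t : Q)⁻¹ * ((t : Q) * m * (t : Q)⁻¹) * s := by
              push_cast; group
          _ = ((t⁻¹ * s : S) : Q) * m := by rw [← h3]; push_cast; group
      rw [hcent, Subgroup.mem_bot] at h2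
      exact (inv_mul_eq_one.1 (Subtype.ext h2)).symm
    obtain ⟨hfin, hle⟩ := card_autos_le (p := p) (d := d) hexp (by rw [← hMc]; rfl)
    have hQ : Nat.card Q = p ^ d * Nat.card S := by rw [← hcompl.card_mul, hMc]
    have hbound : Nat.card Q ≤ p ^ d * ∏ i : Fin d, (p ^ d - p ^ (i : ℕ)) :=
      hQ ▸ Nat.mul_le_mul_left _ ((Nat.card_le_card_of_injective φ hφ).trans hle)
    rw [← hn, Subgroup.index_eq_card, hΩ]
    exact (Nat.pow_le_pow_left hbound 3).trans (affine_bound hp hd)
  · obtain ⟨K, hK, hKtop⟩ : ∃ K, H < K ∧ K ≠ ⊤ := by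
      by_contra hc
      push Not at hc
      exact hco ⟨htop, fun K hK => hc K hK⟩
    set b := K.index with hb
    set a := H.relIndex K with ha
    have hab : a * b = n := hn ▸ Subgroup.relIndex_mul_index hK.le
    have ha1 : 1 < a := by
      have h1 : a ≠ 0 := Subgroup.FiniteIndex.index_ne_zero
      have h2 : a ≠ 1 := fun h => not_le_of_gt hK (Subgroup.relIndex_eq_one.1 h)
      omega
    have hb1 : 1 < b := Subgroup.one_lt_index_of_ne_top hKtop
    have hbn : b < n := by rw [← hab]; exact lt_mul_left (by omega) ha1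
    have han : a < n := by rw [← hab]; exact lt_mul_right (by omega) hb1
    -- the core of `H` in `K`
    set P : Subgroup G := ((H.subgroupOf K).normalCore).map K.subtype
    have hPK : P ≤ K := Subgroup.map_subtype_le _
    have hPH : P ≤ H := by
      rintro _ ⟨x, hx, rfl⟩
      exact (Subgroup.normalCore_le _ hx : x ∈ H.subgroupOf K)
    have hrel : P.relIndex K = (H.subgroupOf K).normalCore.index := by
      rw [Subgroup.relIndex, Subgroup.subgroupOf, Subgroup.comap_map_eq_self_of_injective K.subtype_injective]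
    have hnorm : K ≤ normalizer (P : Set G) := by
      intro k hk
      refine Subgroup.mem_normalizer_iff.2 fun x => ?_
      constructor
      · rintro ⟨y, hy, rfl⟩
        exact ⟨⟨k, hk⟩ * y * ⟨k, hk⟩⁻¹, (Subgroup.normalCore_normal _).conj_mem y hy ⟨k, hk⟩, rfl⟩
      · rintro ⟨y, hy, he⟩
        refine ⟨⟨k, hk⟩⁻¹ * y * ⟨k, hk⟩, ?_, ?_⟩
        · simpa using (Subgroup.normalCore_normal _).conj_mem y hy (⟨k, hk⟩ : K)⁻¹
        · have he' : (y : G) = k * x * k⁻¹ := he
          change k⁻¹ * (y : G) * k = x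
          rw [he']; group
    have hcore : P.normalCore ≤ H.normalCore :=
      Subgroup.normal_le_normalCore.2 ((Subgroup.normalCore_le P).trans hPH)
    have h1 : H.normalCore.index ≤ K.normalCore.index * P.relIndex K ^ b :=
      (Nat.le_of_dvd (Nat.pos_of_ne_zero Subgroup.index_ne_zero_of_finite)
        (Subgroup.index_dvd_of_le hcore)).trans (index_core_le K P hPK hnorm)
    have h2 := ih b hbn G K rfl
    have h3 := ih a han K (H.subgroupOf K) rfl
    calc H.normalCore.index ^ 3 ≤ (K.normalCore.index * P.relIndex K ^ b) ^ 3 := Nat.pow_le_pow_left h1 3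
      _ = K.normalCore.index ^ 3 * ((H.subgroupOf K).normalCore.index ^ 3) ^ b := by
          rw [hrel, mul_pow, ← pow_mul, ← pow_mul, mul_comm b 3]
      _ ≤ 24 ^ (b - 1) * (24 ^ (a - 1)) ^ b := Nat.mul_le_mul h2 (Nat.pow_le_pow_left h3 b)
      _ = 24 ^ (b - 1 + (a - 1) * b) := by rw [← pow_mul, ← pow_add]
      _ = 24 ^ (n - 1) := by
          congr 1
          rw [← hab]
          rw [Nat.sub_mul, one_mul]
          have : b ≤ a * b := Nat.le_mul_of_pos_left b (by omega)
          omega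

end Cfsg.Lib.SolvLinear
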