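import Cfsg.Agent.OddBase.Decomp
import Cfsg.Agent.SolvLinear.Dixon
import Cfsg.Agent.SolvLinear.Classes

/-!
Systems of imprimitivity of an irreducible group, given by one component.
-/

set_option autoImplicit false
set_option linter.style.haveILetI false
set_option linter.unusedSectionVars false

namespace Cfsg.Lib.SolvLinear

open Cfsg.Lib.OddBase
open scoped Pointwise

universe u

variable {A V : Type u} [Group A] [Finite A] [AddCommGroup V] [Finite V] [DistribMulAction A V]

/-- The stabiliser of a component. -/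
abbrev stab (A : Type u) {V : Type u} [Group A] [AddCommGroup V] [DistribMulAction A V]
    (U : AddSubgroup V) : Subgroup A := MulAction.stabilizer A U

/-- `U` is a component of a system of imprimitivity. -/
def Sys (A : Type u) {V : Type u} [Group A] [AddCommGroup V] [DistribMulAction A V]
    (U : AddSubgroup V) : Prop :=
  U ≠ ⊥ ∧ Nat.card U ^ (stab A U).index = Nat.card V

theorem sys_top [Nontrivial V] : Sys A (⊤ : AddSubgroup V) := by
  refine ⟨top_ne_bot, ?_⟩
  have h : stab A (⊤ : AddSubgroup V) = ⊤ := by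
    ext g
    simp only [stab, MulAction.mem_stabilizer_iff, Subgroup.mem_top, iff_true]
    ext x
    simp [AddSubgroup.mem_pointwise_smul_iff_inv_smul_mem]
  rw [h, Subgroup.index_top, pow_one, AddSubgroup.card_top]

omit [Finite A] [Finite V] in
theorem smul_mem_of_stab {U : AddSubgroup V} {g : A} (hg : g ∈ stab A U) {x : V} (hx : x ∈ U) : g • x ∈ U := by
  have h := AddSubgroup.smul_mem_pointwise_smul x g U hx
  rwa [MulAction.mem_stabilizer_iff.1 hg] at h

/-- The action of the stabiliser on the component. -/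
noncomputable def compHom (A : Type u) {V : Type u} [Group A] [AddCommGroup V] [DistribMulAction A V]
    (U : AddSubgroup V) : stab A U →* (AddMonoid.End U)ˣ :=
  MonoidHom.toHomUnits
    { toFun := fun g =>
        { toFun := fun x => ⟨(g : A) • (x : V), smul_mem_of_stab g.2 x.2⟩
          map_zero' := Subtype.ext (smul_zero (g : A))
          map_add' := fun x y => Subtype.ext (smul_add (g : A) (x : V) (y : V)) }
      map_one' := AddMonoidHom.ext fun x => Subtype.ext (one_smul A (x : V))
      map_mul' := fun g h => AddMonoidHom.ext fun x => Subtype.ext (mul_smul (g : A) (h : A) (x : V)) }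

/-- The group induced on the component. -/
noncomputable abbrev Ind (A : Type u) {V : Type u} [Group A] [AddCommGroup V] [DistribMulAction A V]
    (U : AddSubgroup V) : Subgroup (AddMonoid.End U)ˣ := (compHom A U).range

noncomputable instance indAction (U : AddSubgroup V) : DistribMulAction (Ind A U) U where
  smul k x := ((k : (AddMonoid.End U)ˣ) : AddMonoid.End U) x
  one_smul _ := rfl
  mul_smul _ _ _ := rfl
  smul_zero k := map_zero ((k : (AddMonoid.End U)ˣ) : AddMonoid.End U)
  smul_add k := map_add ((k : (AddMonoid.End U)ˣ) : AddMonoid.End U)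

instance indFaithful (U : AddSubgroup V) : FaithfulSMul (Ind A U) U :=
  ⟨fun {_ _} h => Subtype.ext (Units.ext (AddMonoidHom.ext h))⟩

instance indFinite (U : AddSubgroup V) : Finite (Ind A U) :=
  Finite.of_surjective _ (compHom A U).rangeRestrict_surjective

instance indSolvable [Group.IsSolvable A] (U : AddSubgroup V) : Group.IsSolvable (Ind A U) :=
  Group.isSolvable_of_surjective (compHom A U).rangeRestrict_surjective

theorem ind_smul (U : AddSubgroup V) (g : stab A U) (x : U) :
    (((compHom A U).rangeRestrict g • x : U) : V) = (g : A) • (x : V) := rfl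

/-- The sum map. -/
noncomputable def sumMap (A : Type u) {V : Type u} [Group A] [AddCommGroup V] [DistribMulAction A V]
    (U : AddSubgroup V) [Fintype (A ⧸ stab A U)] : ((A ⧸ stab A U) → U) →+ V where
  toFun f := ∑ q : A ⧸ stab A U, (q.out : A) • (f q : V)
  map_zero' := by simp
  map_add' f g := by simp [smul_add, Finset.sum_add_distrib]

theorem cocycle_mem (U : AddSubgroup V) (g : A) (q : A ⧸ stab A U) :
    ((g • q).out : A)⁻¹ * g * (q.out : A) ∈ stab A U := by
  rw [mul_assoc, ← QuotientGroup.eq, QuotientGroup.out_eq', show g * q.out = g • q.out from rfl,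
    ← MulAction.Quotient.smul_mk, QuotientGroup.out_eq']

theorem smul_sumMap (U : AddSubgroup V) [Fintype (A ⧸ stab A U)] (g : A) (f : (A ⧸ stab A U) → U) :
    g • sumMap A U f = sumMap A U (fun q =>
      (compHom A U).rangeRestrict ⟨_, cocycle_mem U g (g⁻¹ • q)⟩ • f (g⁻¹ • q)) := by
  change g • (∑ q : A ⧸ stab A U, (q.out : A) • (f q : V)) = _
  rw [Finset.smul_sum]
  refine Finset.sum_equiv (MulAction.toPerm g) (fun _ => by simp) fun q _ => ?_
  change g • ((q.out : A) • (f q : V)) = ((g • q).out : A) •
    ((((g • g⁻¹ • (g • q)).out : A)⁻¹ * g * ((g⁻¹ • (g • q)).out : A)) • (f (g⁻¹ • (g • q)) : V))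
  rw [inv_smul_smul, ← mul_smul, ← mul_smul, mul_assoc, mul_inv_cancel_left]

theorem sumMap_bijective (hirr : Irr A V) {U : AddSubgroup V} (hU : Sys A U) [Fintype (A ⧸ stab A U)] :
    Function.Bijective (sumMap A U) := by
  classical
  have hsurj : Function.Surjective (sumMap A U) := by
    refine AddMonoidHom.range_eq_top.1 ((hirr _ ?_).resolve_left fun h => hU.1 ?_)
    · rintro g _ ⟨f, rfl⟩
      exact ⟨_, (smul_sumMap U g f).symm⟩
    · rw [eq_bot_iff]
      intro x hx
      let q₀ : A ⧸ stab A U := ((1 : A) : A ⧸ stab A U)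
      have h1 : sumMap A U (Pi.single q₀ ⟨x, hx⟩) ∈ (sumMap A U).range := ⟨_, rfl⟩
      rw [h, AddSubgroup.mem_bot] at h1
      have h2 : sumMap A U (Pi.single q₀ ⟨x, hx⟩) = (q₀.out : A) • x := by
        change ∑ q : A ⧸ stab A U, (q.out : A) • ((Pi.single q₀ (⟨x, hx⟩ : U) : _ → U) q : V) = _
        rw [Finset.sum_eq_single q₀ (fun q _ hq => by rw [Pi.single_eq_of_ne hq]; exact smul_zero _)
          (by simp), Pi.single_eq_same]
      rw [h2, smul_eq_zero_iff_eq] at h1
      exact AddSubgroup.mem_bot.2 h1
  rw [Nat.bijective_iff_surjective_and_card]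
  refine ⟨hsurj, ?_⟩
  rw [Nat.card_fun, ← Subgroup.index_eq_card, hU.2]

/-- The component group is irreducible. -/
theorem ind_irr (hirr : Irr A V) {U : AddSubgroup V} (hU : Sys A U) : Irr (Ind A U) U := by
  classical
  haveI := Fintype.ofFinite (A ⧸ stab A U)
  intro S hS
  rcases eq_or_ne S ⊥ with h | h
  · exact Or.inl h
  right
  let T : AddSubgroup V := AddSubgroup.map (sumMap A U) (AddSubgroup.pi Set.univ fun _ => S)
  have hT : T = ⊤ := by
    refine (hirr T ?_).resolve_left fun h0 => h ?_
    · rintro g _ ⟨f, hf, rfl⟩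
      refine ⟨_, fun q _ => ?_, (smul_sumMap U g f).symm⟩
      exact hS _ _ (hf (g⁻¹ • q) trivial)
    · rw [eq_bot_iff]
      intro x hx
      have h1 : sumMap A U (Pi.single ((1 : A) : A ⧸ stab A U) x) ∈ T := by
        refine ⟨_, fun q _ => ?_, rfl⟩
        by_cases hq : q = ((1 : A) : A ⧸ stab A U)
        · subst hq; rw [Pi.single_eq_same]; exact hx
        · rw [Pi.single_eq_of_ne hq]; exact zero_mem S
      rw [h0, AddSubgroup.mem_bot, ← map_zero (sumMap A U)] at h1
      have h2 := congrFun ((sumMap_bijective hirr hU).1 h1) ((1 : A) : A ⧸ stab A U)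
      rw [Pi.single_eq_same] at h2
      exact AddSubgroup.mem_bot.2 h2
  rw [eq_top_iff]
  intro x _
  obtain ⟨f, hf, hfx⟩ := (show sumMap A U (Pi.single ((1 : A) : A ⧸ stab A U) x) ∈ T from hT ▸ trivial)
  have h2 := congrFun ((sumMap_bijective hirr hU).1 hfx) ((1 : A) : A ⧸ stab A U)
  rw [Pi.single_eq_same] at h2
  exact h2 ▸ hf _ trivial

theorem ind_nontrivial {U : AddSubgroup V} (hU : Sys A U) : Nontrivial U :=
  (AddSubgroup.nontrivial_iff_ne_bot U).2 hU.1

/-- Refining a system by a system of the component. -/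
theorem sys_refine (hirr : Irr A V) {U : AddSubgroup V} (hU : Sys A U) {W : AddSubgroup U}
    (hW : Sys (Ind A U) W) : Sys A (W.map U.subtype) := by
  classical
  haveI := Fintype.ofFinite (A ⧸ stab A U)
  set W' := W.map U.subtype
  have hW'0 : W' ≠ ⊥ := fun h => hW.1 ((AddSubgroup.map_eq_bot_iff_of_injective _ U.subtype_injective).1 h)
  have hle : stab A W' ≤ stab A U := by
    intro g hg
    obtain ⟨x, hx, hx0⟩ := (AddSubgroup.bot_or_exists_ne_zero W').resolve_left hW'0
    have h1 : g • x ∈ W' := smul_mem_of_stab hg hx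
    obtain ⟨a, -, rfl⟩ := hx
    obtain ⟨b, -, hb⟩ := h1
    change (b : V) = g • (a : V) at hb
    by_contra hgU
    set q₀ := ((1 : A) : A ⧸ stab A U)
    have hne : g • q₀ ≠ q₀ := by
      intro h
      apply hgU
      change ((g * 1 : A) : A ⧸ stab A U) = _ at h
      rw [mul_one, QuotientGroup.eq, mul_one, Subgroup.inv_mem_iff] at h
      exact h
    have e0 : ∀ c : U, sumMap A U (Pi.single q₀ c) = (q₀.out : A) • (c : V) := by
      intro c
      change ∑ q : A ⧸ stab A U, (q.out : A) • ((Pi.single q₀ c : _ → U) q : V) = _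
      rw [Finset.sum_eq_single q₀ (fun q _ hq => by rw [Pi.single_eq_of_ne hq]; exact smul_zero _)
        (by simp), Pi.single_eq_same]
    obtain ⟨h₀, hh₀⟩ := QuotientGroup.mk_out_eq_mul (stab A U) (1 : A)
    rw [one_mul] at hh₀
    have hq₀ : (q₀.out : A) = h₀ := hh₀
    let a' : U := (compHom A U).rangeRestrict (h₀⁻¹) • a
    let b' : U := (compHom A U).rangeRestrict (h₀⁻¹) • b
    have ha' : sumMap A U (Pi.single q₀ a') = (a : V) := by
      rw [e0, hq₀]
      change (h₀ : A) • (((h₀⁻¹ : stab A U) : A) • (a : V)) = _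
      rw [Subgroup.coe_inv, smul_inv_smul]
    have hb' : sumMap A U (Pi.single q₀ b') = (b : V) := by
      rw [e0, hq₀]
      change (h₀ : A) • (((h₀⁻¹ : stab A U) : A) • (b : V)) = _
      rw [Subgroup.coe_inv, smul_inv_smul]
    have h2 := congrArg (g • ·) ha'
    rw [smul_sumMap, ← hb, ← hb'] at h2
    have h3 := congrFun ((sumMap_bijective hirr hU).1 h2) q₀
    rw [Pi.single_eq_same, Pi.single_eq_of_ne (fun h => hne (by
      conv_lhs => rw [← h]
      exact smul_inv_smul g q₀)), smul_zero] at h3
    apply hx0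
    have h4 : (b : V) = 0 := by rw [← hb', ← h3, Pi.single_zero, map_zero]
    rw [hb, smul_eq_zero_iff_eq] at h4
    exact h4
  refine ⟨hW'0, ?_⟩
  have hcard : Nat.card W' = Nat.card W := AddSubgroup.card_map_of_injective U.subtype_injective
  have hidx : (stab A W').relIndex (stab A U) = (stab (Ind A U) W).index := by
    rw [← Subgroup.index_comap_of_surjective (f := (compHom A U).rangeRestrict) _
      (compHom A U).rangeRestrict_surjective, Subgroup.relIndex]
    congr 1
    ext g
    simp only [Subgroup.mem_subgroupOf, Subgroup.mem_comap, stab, MulAction.mem_stabilizer_iff]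
    constructor
    · intro h
      ext x
      rw [AddSubgroup.mem_pointwise_smul_iff_inv_smul_mem]
      have h1 : (x : V) ∈ W' ↔ (g : A)⁻¹ • (x : V) ∈ W' := by
        conv_lhs => rw [← h]
        exact AddSubgroup.mem_pointwise_smul_iff_inv_smul_mem
      have h2 : ∀ y : U, (y : V) ∈ W' ↔ y ∈ W := fun y =>
        AddSubgroup.mem_map_iff_mem U.subtype_injective
      rw [← h2 x, h1, ← h2]
      rw [← map_inv, ind_smul, Subgroup.coe_inv]
    · intro h
      have h2 : ∀ (k : stab A U) (y : U), y ∈ W → (compHom A U).rangeRestrict k ∈ stab (Ind A U) W →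
          (k : A) • (y : V) ∈ W' := fun k y hy hk => ⟨_, smul_mem_of_stab hk hy, ind_smul U k y⟩
      apply le_antisymm
      · rintro _ ⟨_, ⟨y, hy, rfl⟩, rfl⟩
        exact h2 g y hy h
      · rintro _ ⟨y, hy, rfl⟩
        rw [AddSubgroup.mem_pointwise_smul_iff_inv_smul_mem, ← Subgroup.coe_inv]
        exact h2 g⁻¹ y hy (by rw [map_inv]; exact Subgroup.inv_mem _ h)
  rw [← Subgroup.relIndex_mul_index hle, hidx, pow_mul, hcard, hW.2, hU.2]

/-- A non-trivial idempotent gives a proper component. -/
theorem sys_of_idem [Nontrivial V] (hirr : Irr A V) (Z : Subgroup A) [Z.Normal] [IsMulCommutative Z]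
    (e₀ : AddMonoid.End V) (he₀ : e₀ ∈ alg A V Z) (hid : e₀ * e₀ = e₀) (h0 : e₀ ≠ 0) (h1 : e₀ ≠ 1) :
    ∃ U : AddSubgroup V, Sys A U ∧ U ≠ ⊤ ∧ Subgroup.center A ≤ stab A U := by
  classical
  haveI : Finite (AddMonoid.End V) :=
    Finite.of_injective (fun f : AddMonoid.End V => (f : V → V)) DFunLike.coe_injective
  haveI := Fintype.ofFinite (AddMonoid.End V)
  let Idem : AddMonoid.End V → Prop := fun e => e ∈ alg A V Z ∧ e * e = e
  obtain ⟨a, ha, hamin⟩ := (Finset.univ.filter fun e => Idem e ∧ e ≠ 0).exists_min_image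
    (fun e : AddMonoid.End V => Nat.card (Set.range e))
    ⟨e₀, Finset.mem_filter.2 ⟨Finset.mem_univ _, ⟨he₀, hid⟩, h0⟩⟩
  obtain ⟨⟨haA, haa⟩, ha0⟩ := (Finset.mem_filter.1 ha).2
  have hatom : ∀ f, Idem f → f * a = 0 ∨ f * a = a := by
    intro f hf
    refine or_iff_not_imp_left.2 fun hfa => ?_
    have hc := alg_comm hf.1 haA
    have hI : Idem (f * a) := ⟨mul_mem hf.1 haA, by
      calc f * a * (f * a) = f * (a * f) * a := by simp only [mul_assoc]
        _ = f * (f * a) * a := by rw [hc]
        _ = (f * f) * (a * a) := by simp only [mul_assoc]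
        _ = f * a := by rw [hf.2, haa]⟩
    have hsub : Set.range (f * a : AddMonoid.End V) ⊆ Set.range a := by
      rintro _ ⟨x, rfl⟩
      exact ⟨f x, by rw [hc]; rfl⟩
    have hle := hamin _ (Finset.mem_filter.2 ⟨Finset.mem_univ _, hI, hfa⟩)
    have heq := Set.eq_of_subset_of_ncard_le hsub (by rwa [← Nat.card_coe_set_eq, ← Nat.card_coe_set_eq])
    ext x
    obtain ⟨y, hy⟩ : a x ∈ Set.range (f * a : AddMonoid.End V) := by rw [heq]; exact ⟨x, rfl⟩
    calc (f * a) x = (f * a * a) x := by rw [mul_assoc, haa]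
      _ = (f * a) ((f * a) y) := by rw [hy]; rfl
      _ = (f * a * (f * a)) y := rfl
      _ = a x := by rw [hI.2, hy]
  let cj : A → AddMonoid.End V → AddMonoid.End V := fun g e => act A V g * e * act A V g⁻¹
  have hinv : ∀ g, act A V g⁻¹ * act A V g = 1 := fun g => by rw [← map_mul, inv_mul_cancel, map_one]
  have hcjm : ∀ g h e, cj (g * h) e = cj g (cj h e) := fun g h e => by
    simp only [cj, mul_inv_rev, map_mul, mul_assoc]
  have hcjmul : ∀ g e f, cj g (e * f) = cj g e * cj g f := by
    intro g e f
    simp only [cj, mul_assoc]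
    rw [← mul_assoc (act A V g⁻¹) (act A V g), hinv, one_mul]
  have hcj1 : ∀ e, cj 1 e = e := fun e => by simp only [cj, inv_one, map_one, mul_one, one_mul]
  have hcjI : ∀ g, Idem (cj g a) := fun g => ⟨alg_conj g haA, by rw [← hcjmul, haa]⟩
  have hcjapp : ∀ g e x, cj g e (g • x) = g • e x := by
    intro g e x
    change act A V g (e (act A V g⁻¹ (g • x))) = _
    rw [act_apply, act_apply, inv_smul_smul]
  set U : AddSubgroup V := a.range with hUdef
  have hsmul : ∀ g : A, g • U = (cj g a).range := by
    intro g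
    ext x
    rw [AddSubgroup.mem_pointwise_smul_iff_inv_smul_mem]
    constructor
    · rintro ⟨y, hy⟩
      exact ⟨g • y, (hcjapp g a y).trans ((congrArg (g • ·) hy).trans (smul_inv_smul g x))⟩
    · rintro ⟨y, rfl⟩
      refine ⟨g⁻¹ • y, ?_⟩
      have h := hcjapp g a (g⁻¹ • y)
      rw [smul_inv_smul] at h
      exact eq_inv_smul_iff.2 h.symm
  haveI := Fintype.ofFinite (A ⧸ stab A U)
  let e : A ⧸ stab A U → AddMonoid.End V := fun q => cj q.out a
  have hrange : ∀ g g' : A, cj g a * cj g' a ≠ 0 → g • U = g' • U := by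
    intro g g' hne
    have h2 : cj g a * cj g' a = cj g' a := by
      rcases hatom (cj (g'⁻¹ * g) a) (hcjI _) with h | h
      · exfalso
        apply hne
        have := congrArg (cj g') h
        rw [hcjmul, ← hcjm, mul_inv_cancel_left] at this
        rw [this]; simp only [cj, mul_zero, zero_mul]
      · have := congrArg (cj g') h
        rw [hcjmul, ← hcjm, mul_inv_cancel_left] at this
        exact this
    have h3 : cj g' a * cj g a = cj g a := by
      rcases hatom (cj (g⁻¹ * g') a) (hcjI _) with h | h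
      · exfalso
        apply hne
        have := congrArg (cj g) h
        rw [hcjmul, ← hcjm, mul_inv_cancel_left] at this
        rw [alg_comm (hcjI g).1 (hcjI g').1, this]; simp only [cj, mul_zero, zero_mul]
      · have := congrArg (cj g) h
        rw [hcjmul, ← hcjm, mul_inv_cancel_left] at this
        exact this
    rw [hsmul, hsmul, ← h3, alg_comm (hcjI g').1 (hcjI g).1, h2]
  have horth : ∀ q r : A ⧸ stab A U, q ≠ r → e q * e r = 0 := by
    intro q r hqr
    by_contra hne
    apply hqr
    rw [← q.out_eq', ← r.out_eq', QuotientGroup.eq, MulAction.mem_stabilizer_iff, mul_smul,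
      ← hrange _ _ hne, inv_smul_smul]
  have hstab : ∀ h ∈ stab A U, cj h a = a := by
    intro h hh
    have hr : (cj h a).range = a.range := by rw [← hsmul]; exact hh
    have h4 : cj h a * a ≠ 0 := by
      intro h5
      apply ha0
      ext x
      obtain ⟨y, hy⟩ : a x ∈ (cj h a).range := hr ▸ ⟨x, rfl⟩
      have : cj h a (a x) = a x := by
        rw [← hy]; exact DFunLike.congr_fun (hcjI h).2 y
      rw [← this]
      exact DFunLike.congr_fun h5 x
    rcases hatom _ (hcjI h) with h5 | h5
    · exact absurd h5 h4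
    rcases hatom (cj h⁻¹ a) (hcjI _) with h6 | h6
    · exfalso
      apply h4
      have := congrArg (cj h) h6
      rw [hcjmul, ← hcjm, mul_inv_cancel, hcj1] at this
      rw [alg_comm (hcjI h).1 haA, this]; simp only [cj, mul_zero, zero_mul]
    · have := congrArg (cj h) h6
      rw [hcjmul, ← hcjm, mul_inv_cancel, hcj1] at this
      rw [← this, alg_comm haA (hcjI h).1, h5]
  let S : AddMonoid.End V := ∑ q, e q
  have hSq : ∀ q, S * e q = e q := by
    intro q
    rw [Finset.sum_mul, Finset.sum_eq_single q (fun r _ hr => horth r q hr) (by simp)]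
    exact (hcjI _).2
  have hqS : ∀ q, e q * S = e q := by
    intro q
    rw [Finset.mul_sum, Finset.sum_eq_single q (fun r _ hr => horth q r (Ne.symm hr)) (by simp)]
    exact (hcjI _).2
  have hSinv : ∀ g : A, cj g S = S := by
    intro g
    simp only [S, cj, Finset.mul_sum, Finset.sum_mul]
    refine Finset.sum_equiv (MulAction.toPerm g) (fun q => by simp) fun q _ => ?_
    have hh := hstab _ (cocycle_mem U g q)
    have := congrArg (cj ((g • q).out)) hh
    rw [← hcjm, mul_assoc, mul_inv_cancel_left, hcjm] at this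
    exact this
  have hS1 : S = 1 := by
    have hU' : S.range = ⊤ := by
      refine (hirr _ ?_).resolve_left fun h => ?_
      · rintro g _ ⟨x, rfl⟩
        exact ⟨g • x, (congrArg (fun e : AddMonoid.End V => e (g • x)) (hSinv g)).symm.trans (hcjapp g S x)⟩
      · apply ha0
        ext x
        set q₀ := ((1 : A) : A ⧸ stab A U)
        obtain ⟨h₀, hh₀⟩ := QuotientGroup.mk_out_eq_mul (stab A U) (1 : A)
        rw [one_mul] at hh₀
        have he : e q₀ = a := by change cj q₀.out a = a; rw [show (q₀.out : A) = h₀ from hh₀]; exact hstab _ h₀.2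
        have hx : a x ∈ S.range := ⟨a x, by
          conv_rhs => rw [← he, ← hSq q₀]
          rw [← he]; rfl⟩
        rw [h, AddSubgroup.mem_bot] at hx
        exact hx
    ext x
    obtain ⟨y, rfl⟩ := (show x ∈ S.range from hU' ▸ AddSubgroup.mem_top x)
    have hSS : S * S = S := by
      conv_lhs => rw [Finset.mul_sum]
      exact Finset.sum_congr rfl fun q _ => hSq q
    exact DFunLike.congr_fun hSS y
  let F : V → ((q : A ⧸ stab A U) → (e q).range) := fun v q => ⟨e q v, v, rfl⟩
  have hF : Function.Bijective F := by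
    refine ⟨fun v w h => ?_, fun f => ⟨∑ q, (f q : V), ?_⟩⟩
    · calc v = S v := by rw [hS1]; rfl
        _ = ∑ q, e q v := AddMonoidHom.finsetSum_apply _ _ _
        _ = ∑ q, e q w := Finset.sum_congr rfl fun q _ => congrArg Subtype.val (congrFun h q)
        _ = S w := (AddMonoidHom.finsetSum_apply _ _ _).symm
        _ = w := by rw [hS1]; rfl
    · funext q
      apply Subtype.ext
      change e q (∑ r, (f r : V)) = f q
      rw [map_sum, Finset.sum_eq_single q]
      · obtain ⟨y, hy⟩ := (f q).2
        rw [← hy]; exact DFunLike.congr_fun (hcjI _).2 y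
      · intro r _ hr
        obtain ⟨y, hy⟩ := (f r).2
        rw [← hy]; exact DFunLike.congr_fun (horth q r (Ne.symm hr)) y
      · simp
  have hrc : ∀ q : A ⧸ stab A U, Nat.card (e q).range = Nat.card U := fun q => by
    have h := hsmul q.out
    rw [show (e q).range = q.out • U from h.symm]
    rw [AddSubgroup.pointwise_smul_def]
    exact AddSubgroup.card_map_of_injective (MulAction.injective (q.out : A))
  have hcen : Subgroup.center A ≤ stab A U := by
    intro g hg
    rw [MulAction.mem_stabilizer_iff, hsmul]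
    have hc : act A V g * a = a * act A V g := by
      refine Subring.closure_induction (p := fun k _ => act A V g * k = k * act A V g) ?_ ?_ ?_ ?_ ?_ ?_ haA
      · rintro _ ⟨z, -, rfl⟩
        rw [← map_mul, ← map_mul, Subgroup.mem_center_iff.1 hg z]
      · rw [mul_zero, zero_mul]
      · rw [mul_one, one_mul]
      · intro x y _ _ hx hy; rw [mul_add, add_mul, hx, hy]
      · intro x _ hx; rw [mul_neg, neg_mul, hx]
      · intro x y _ _ hx hy; rw [← mul_assoc, hx, mul_assoc, hy, mul_assoc]
    have : cj g a = a := by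
      simp only [cj]
      rw [hc, mul_assoc, ← map_mul, mul_inv_cancel, map_one, mul_one]
    rw [this]
  refine ⟨U, ⟨fun h => ha0 ?_, ?_⟩, fun h => ?_, hcen⟩
  · ext x
    have : a x ∈ U := ⟨x, rfl⟩
    rw [h, AddSubgroup.mem_bot] at this
    exact this
  · rw [Nat.card_eq_of_bijective F hF, Nat.card_pi, Finset.prod_congr rfl fun q _ => hrc q,
      Finset.prod_const, Finset.card_univ, ← Nat.card_eq_fintype_card, ← Subgroup.index_eq_card]
  · have ha1 : a = 1 := by
      ext x
      obtain ⟨y, rfl⟩ := (show x ∈ U from h ▸ AddSubgroup.mem_top x)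
      exact DFunLike.congr_fun haa y
    rcases hatom e₀ ⟨he₀, hid⟩ with h2 | h2 <;> rw [ha1, mul_one] at h2
    · exact h0 h2
    · exact h1 h2

/-- A component without a proper refinement. -/
theorem exists_prim [Nontrivial V] (hirr : Irr A V) :
    ∃ U : AddSubgroup V, Sys A U ∧ ∀ (Z : Subgroup (Ind A U)) [Z.Normal] [IsMulCommutative Z],
      ∀ e ∈ alg (Ind A U) U Z, e * e = e → e = 0 ∨ e = 1 := by
  classical
  haveI := Fintype.ofFinite (AddSubgroup V)
  obtain ⟨U, hU, hmin⟩ := (Finset.univ.filter fun U : AddSubgroup V => Sys A U).exists_min_image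
    (fun U => Nat.card U) ⟨⊤, Finset.mem_filter.2 ⟨Finset.mem_univ _, sys_top⟩⟩
  have hUs := (Finset.mem_filter.1 hU).2
  refine ⟨U, hUs, fun Z _ _ e he hee => ?_⟩
  by_contra hc
  push Not at hc
  haveI := ind_nontrivial hUs
  obtain ⟨W, hW, hWtop, -⟩ := sys_of_idem (ind_irr hirr hUs) Z e he hee hc.1 hc.2
  have h1 := hmin _ (Finset.mem_filter.2 ⟨Finset.mem_univ _, sys_refine hirr hUs hW⟩)
  rw [AddSubgroup.card_map_of_injective U.subtype_injective] at h1
  exact hWtop (AddSubgroup.eq_top_of_le_card W h1)

/-- A normal subgroup lifted from the component group. -/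
noncomputable def lift (U : AddSubgroup V) (N : Subgroup (Ind A U)) : Subgroup A :=
  (N.comap (compHom A U).rangeRestrict).map (stab A U).subtype

theorem index_lift_core_le (U : AddSubgroup V) (N : Subgroup (Ind A U)) [N.Normal] :
    (lift U N).normalCore.index ≤ (stab A U).normalCore.index * N.index ^ (stab A U).index := by
  have hrel : (lift U N).relIndex (stab A U) = N.index := by
    rw [lift, Subgroup.relIndex, Subgroup.subgroupOf,
      Subgroup.comap_map_eq_self_of_injective (stab A U).subtype_injective,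
      Subgroup.index_comap_of_surjective _ (compHom A U).rangeRestrict_surjective]
  rw [← hrel]
  refine index_core_le _ _ (Subgroup.map_subtype_le _) ?_
  have hn : ((N.comap (compHom A U).rangeRestrict).map (stab A U).subtype).subgroupOf (stab A U) =
      N.comap (compHom A U).rangeRestrict :=
    Subgroup.comap_map_eq_self_of_injective (stab A U).subtype_injective _
  haveI : ((lift U N).subgroupOf (stab A U)).Normal := by rw [lift, hn]; exact inferInstance
  exact (Subgroup.normal_subgroupOf_iff_le_normalizer (Subgroup.map_subtype_le _)).1 this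

/-- Elements of the cores of commuting subgroups commute. -/
theorem core_commute [FaithfulSMul A V] (hirr : Irr A V) {U : AddSubgroup V} (hU : Sys A U)
    {M N : Subgroup (Ind A U)} (hMN : ∀ m ∈ M, ∀ n ∈ N, m * n = n * m)
    {g h : A} (hg : g ∈ (lift U M).normalCore) (hh : h ∈ (lift U N).normalCore) : g * h = h * g := by
  classical
  haveI := Fintype.ofFinite (A ⧸ stab A U)
  refine eq_of_smul_eq_smul fun v : V => ?_
  obtain ⟨f, rfl⟩ := (sumMap_bijective hirr hU).2 v
  change (g * h) • (∑ q : A ⧸ stab A U, (q.out : A) • (f q : V)) =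
    (h * g) • (∑ q : A ⧸ stab A U, (q.out : A) • (f q : V))
  rw [Finset.smul_sum, Finset.smul_sum]
  refine Finset.sum_congr rfl fun q _ => ?_
  set c := (q.out : A)
  obtain ⟨g', hg', hge⟩ : c⁻¹ * g * c⁻¹⁻¹ ∈ lift U M := hg c⁻¹
  obtain ⟨h', hh', hhe⟩ : c⁻¹ * h * c⁻¹⁻¹ ∈ lift U N := hh c⁻¹
  rw [inv_inv] at hge hhe
  have key : (((compHom A U).rangeRestrict (g' * h') • f q : U) : V) =
      (((compHom A U).rangeRestrict (h' * g') • f q : U) : V) := by
    rw [map_mul, map_mul, hMN _ hg' _ hh']
  rw [ind_smul, ind_smul, Subgroup.coe_mul, Subgroup.coe_mul] at key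
  have e1 : (g' : A) = c⁻¹ * g * c := hge
  have e2 : (h' : A) = c⁻¹ * h * c := hhe
  rw [e1, e2] at key
  rw [← mul_smul, ← mul_smul, show g * h * c = c * (c⁻¹ * g * c * (c⁻¹ * h * c)) by group,
    show h * g * c = c * (c⁻¹ * h * c * (c⁻¹ * g * c)) by group, mul_smul, key, ← mul_smul]

theorem classes_ind_le (U : AddSubgroup V) :
    Nat.card (ConjClasses (Ind A U)) ≤ (stab A U).index * Nat.card (ConjClasses A) :=
  (card_classes_map_le _ (compHom A U).rangeRestrict_surjective).trans
    (Cfsg.Lib.Counting.classNumber_bounds (stab A U)).1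

/-- Orbits of the whole group against orbits of the component group. -/
theorem orbits_ge (hirr : Irr A V) {U : AddSubgroup V} (hU : Sys A U) :
    Nat.multichoose (Nat.card (MulAction.orbitRel.Quotient (Ind A U) U)) (stab A U).index ≤
      Nat.card (MulAction.orbitRel.Quotient A V) := by
  classical
  haveI := Fintype.ofFinite (A ⧸ stab A U)
  haveI := Fintype.ofFinite (MulAction.orbitRel.Quotient (Ind A U) U)
  set O := MulAction.orbitRel.Quotient (Ind A U) U
  let Φ := AddEquiv.ofBijective (sumMap A U) (sumMap_bijective hirr hU)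
  have hb : Fintype.card (A ⧸ stab A U) = (stab A U).index := by
    rw [Subgroup.index_eq_card, Nat.card_eq_fintype_card]
  let inv : V → Sym O (stab A U).index := fun v =>
    ⟨Finset.univ.val.map fun q => (Quotient.mk'' (Φ.symm v q) : O), by
      rw [Multiset.card_map]; exact hb⟩
  have hinv : ∀ v w : V, (∃ g : A, g • w = v) → inv v = inv w := by
    rintro v w ⟨g, rfl⟩
    apply Subtype.ext
    change Finset.univ.val.map _ = Finset.univ.val.map _
    have hc : Φ.symm (g • w) = fun q =>
        (compHom A U).rangeRestrict ⟨_, cocycle_mem U g (g⁻¹ • q)⟩ • Φ.symm w (g⁻¹ • q) := by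
      apply Φ.injective
      rw [Φ.apply_symm_apply]
      change g • w = sumMap A U _
      rw [← smul_sumMap]
      change g • w = g • Φ (Φ.symm w)
      rw [Φ.apply_symm_apply]
    have hperm : Finset.univ.val.map (fun q : A ⧸ stab A U => g⁻¹ • q) = Finset.univ.val := by
      have := (Finset.map_univ_equiv (MulAction.toPerm (g⁻¹) : Equiv.Perm (A ⧸ stab A U)))
      exact congrArg Finset.val this
    conv_rhs => rw [← hperm, Multiset.map_map]
    refine Multiset.map_congr rfl fun q _ => ?_
    rw [hc]
    exact Quotient.sound' ⟨_, rfl⟩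
  let F : MulAction.orbitRel.Quotient A V → Sym O (stab A U).index :=
    Quotient.lift inv fun v w h => hinv v w h
  have hF : Function.Surjective F := by
    rintro ⟨m, hm⟩
    obtain ⟨l, rfl⟩ := Quotient.exists_rep m
    have hlen : l.length = Fintype.card (A ⧸ stab A U) := by rw [hb]; exact hm
    let ev : A ⧸ stab A U ≃ Fin l.length := (Fintype.equivFin _).trans (finCongr hlen.symm)
    refine ⟨Quotient.mk'' (Φ fun q => (l.get (ev q)).out), Subtype.ext ?_⟩
    change Finset.univ.val.map _ = _
    simp only [AddEquiv.symm_apply_apply, Quotient.out_eq']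
    have := congrArg Finset.val (Finset.map_univ_equiv ev)
    rw [show (fun q => l.get (ev q)) = l.get ∘ ev from rfl, ← Multiset.map_map,
      show Finset.univ.val.map ev = (Finset.univ : Finset (Fin l.length)).val from this]
    rw [Fin.univ_val_map, List.ofFn_get]
    rfl
  refine le_trans ?_ (Nat.card_le_card_of_surjective F hF)
  rw [Nat.card_eq_fintype_card (α := Sym O _), Sym.card_sym_eq_multichoose, Nat.card_eq_fintype_card]

end Cfsg.Lib.SolvLinear
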