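import Cfsg.Agent.OddBase.Primitive

/-!
The primitive case: semilinear data and the action on the socle modulo a maximal abelian normal subgroup.
-/

set_option autoImplicit false
set_option linter.style.haveILetI false
set_option linter.unusedSectionVars false

namespace Cfsg.Lib.SolvLinear

open Cfsg.Lib.OddBase Subgroup

universe u

variable {A V : Type u} [Group A] [Finite A] [AddCommGroup V] [Finite V] [DistribMulAction A V]

theorem exists_maxAbelian (A : Type u) [Group A] [Finite A] :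
    ∃ Z : Subgroup A, Z.Normal ∧ IsMulCommutative Z ∧ MaxAbelian Z := by
  classical
  haveI := Fintype.ofFinite (Subgroup A)
  let P : Subgroup A → Prop := fun Z => Z.Normal ∧ IsMulCommutative Z
  obtain ⟨Z, hZ, hZmax⟩ := (Finset.univ.filter P).exists_max_image (fun Z => Nat.card Z)
    ⟨⊥, Finset.mem_filter.2 ⟨Finset.mem_univ _, inferInstance,
      ⟨⟨fun x y => Subsingleton.elim _ _⟩⟩⟩⟩
  obtain ⟨h1, h2⟩ := (Finset.mem_filter.1 hZ).2
  refine ⟨Z, h1, h2, fun N hN hNc hle => ?_⟩
  exact (Subgroup.eq_of_le_of_card_ge hle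
    (hZmax N (Finset.mem_filter.2 ⟨Finset.mem_univ _, hN, hNc⟩))).symm

theorem field_aux [Group.IsSolvable A] [Nontrivial V] [FaithfulSMul A V] {Z : Subgroup A} [Z.Normal]
    [IsMulCommutative Z] (hmax : MaxAbelian Z) {K : Type u} [Field K] [Finite K] [Module K V]
    (σ : A →* RingAut K) (hσ : σ.ker ≤ centralizer (Z : Set A)) (ι : Z →* Kˣ) (hι : Function.Injective ι)
    (hcomm : ∀ g ∈ centralizer (Z : Set A), ∀ (k : K) (v : V), g • (k • v) = k • (g • v))
    (hιv : ∀ (z : Z) (v : V), ((ι z : Kˣ) : K) • v = (z : A) • v)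
    (hσι : ∀ (g : A) (z : Z), g * z = z * g → σ g ((ι z : Kˣ) : K) = ι z) :
    ∃ (p m d : ℕ) (K : Type u) (_ : Field K) (ι : Z →* Kˣ), p.Prime ∧ m ≠ 0 ∧ d ≠ 0 ∧
      Nat.card V = p ^ (m * d) ∧ Function.Injective ι ∧ Nat.card Z ∣ p ^ m - 1 ∧
      (centralizer (Z : Set A)).index ≤ m ∧
      (¬ centralizer (Z : Set A) ≤ Z → Z.relIndex (socle Z (centralizer (Z : Set A))) ≤ d * d) ∧
      (∀ z : Z, ∃ m0 δ : ℕ, m = m0 * δ ∧ orderOf z ∣ p ^ m0 - 1 ∧
        (centralizer (Z : Set A)).relIndex (centralizer {(z : A)}) ≤ δ) := by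
  classical
  obtain ⟨p, hchar⟩ := CharP.exists K
  have hp : p.Prime := CharP.char_is_prime K p
  haveI : Fact p.Prime := ⟨hp⟩
  letI : Algebra (ZMod p) K := ZMod.algebra K p
  have hQ : Nat.card K = p ^ Module.finrank (ZMod p) K := by
    rw [Module.natCard_eq_pow_finrank (K := ZMod p), Nat.card_zmod]
  have hV : Nat.card V = Nat.card K ^ Module.finrank K V := Module.natCard_eq_pow_finrank
  refine ⟨p, Module.finrank (ZMod p) K, Module.finrank K V, K,
    inferInstance, ι, hp, Module.finrank_pos.ne', Module.finrank_pos.ne', ?_, hι, ?_, ?_, ?_, ?_⟩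
  · rw [hV, hQ, ← pow_mul]
  · rw [← hQ, ← Nat.card_units]
    exact Subgroup.card_dvd_of_injective ι hι
  · refine (Nat.le_of_dvd (Nat.pos_of_ne_zero Subgroup.index_ne_zero_of_finite)
      (Subgroup.index_dvd_of_le hσ)).trans ?_
    rw [Subgroup.index_ker, ← IsGalois.card_aut_eq_finrank]
    haveI : Finite (K ≃ₐ[ZMod p] K) := Finite.of_injective _ DFunLike.coe_injective
    refine Nat.card_le_card_of_injective (fun r : σ.range => AlgEquiv.ofRingEquiv (f := r.1)
      (fun x => RingHom.congr_fun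
        (Subsingleton.elim (r.1.toRingHom.comp (algebraMap (ZMod p) K)) _) x)) ?_
    intro r r' h
    exact Subtype.ext (RingEquiv.ext fun k => AlgEquiv.congr_fun h k)
  · intro hne
    exact le_finrank (A := A) (V := V) (K := K) hcomm hι hιv hmax hne
  · intro z
    haveI : Finite (K ≃ₐ[ZMod p] K) := Finite.of_injective _ DFunLike.coe_injective
    let toAlg : RingAut K →* (K ≃ₐ[ZMod p] K) :=
      { toFun := fun r => AlgEquiv.ofRingEquiv (f := r)
          (fun x => RingHom.congr_fun
            (Subsingleton.elim (r.toRingHom.comp (algebraMap (ZMod p) K)) _) x)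
        map_one' := AlgEquiv.ext fun _ => rfl
        map_mul' := fun _ _ => AlgEquiv.ext fun _ => rfl }
    set C₁ := centralizer {(z : A)}
    set ψ : C₁ →* (K ≃ₐ[ZMod p] K) := toAlg.comp (σ.comp C₁.subtype)
    set F : IntermediateField (ZMod p) K := IntermediateField.fixedField ψ.range
    have hF : Module.finrank F K = Nat.card ψ.range := IntermediateField.finrank_fixedField_eq_card _
    have hmem : ((ι z : Kˣ) : K) ∈ F := by
      rintro ⟨_, g, rfl⟩
      exact hσι g.1 z (Subgroup.mem_centralizer_singleton_iff.1 g.2)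
    refine ⟨Module.finrank (ZMod p) F, Nat.card ψ.range, ?_, ?_, ?_⟩
    · rw [← hF, Module.finrank_mul_finrank]
    · haveI : Finite F := Finite.of_injective _ Subtype.val_injective
      haveI := Fintype.ofFinite F
      rw [← orderOf_injective ι hι, ← orderOf_injective (Units.coeHom K) Units.val_injective]
      have hne : (⟨_, hmem⟩ : F) ≠ 0 := fun h => (ι z).ne_zero (congrArg Subtype.val h)
      have h1 := FiniteField.pow_card_sub_one_eq_one _ hne
      rw [← Nat.card_eq_fintype_card, Module.natCard_eq_pow_finrank (K := ZMod p), Nat.card_zmod] at h1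
      exact orderOf_dvd_of_pow_eq_one (congrArg Subtype.val h1)
    · refine le_trans ?_ (le_of_eq (Subgroup.index_ker ψ))
      refine Nat.le_of_dvd (Nat.pos_of_ne_zero Subgroup.index_ne_zero_of_finite) (Subgroup.index_dvd_of_le ?_)
      intro g hg
      refine hσ (MonoidHom.mem_ker.2 (RingEquiv.ext fun k => ?_))
      exact AlgEquiv.congr_fun (MonoidHom.mem_ker.1 hg) k

/-- The semilinear data of a primitive group. -/
theorem field_data [Group.IsSolvable A] [Nontrivial V] [FaithfulSMul A V] (hirr : Irr A V)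
    {Z : Subgroup A} [Z.Normal] [IsMulCommutative Z] (hmax : MaxAbelian Z)
    (hidem : ∀ e ∈ alg A V Z, e * e = e → e = 0 ∨ e = 1) :
    ∃ (p m d : ℕ) (K : Type u) (_ : Field K) (ι : Z →* Kˣ), p.Prime ∧ m ≠ 0 ∧ d ≠ 0 ∧
      Nat.card V = p ^ (m * d) ∧ Function.Injective ι ∧ Nat.card Z ∣ p ^ m - 1 ∧
      (centralizer (Z : Set A)).index ≤ m ∧
      (¬ centralizer (Z : Set A) ≤ Z → Z.relIndex (socle Z (centralizer (Z : Set A))) ≤ d * d) ∧
      (∀ z : Z, ∃ m0 δ : ℕ, m = m0 * δ ∧ orderOf z ∣ p ^ m0 - 1 ∧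
        (centralizer (Z : Set A)).relIndex (centralizer {(z : A)}) ≤ δ) := by
  classical
  have hf := alg_field hirr hidem
  haveI : Finite (alg A V Z) := alg_finite
  have hinv : ∀ g : A, act A V g⁻¹ * act A V g = 1 := fun g => by
    rw [← map_mul, inv_mul_cancel, map_one]
  let cj : A → alg A V Z →+* alg A V Z := fun g =>
    { toFun := fun k => ⟨act A V g * k * act A V g⁻¹, alg_conj g k.2⟩
      map_one' := Subtype.ext (by
        change act A V g * 1 * act A V g⁻¹ = 1
        rw [mul_one, ← map_mul, mul_inv_cancel, map_one])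
      map_mul' := fun a b => Subtype.ext (by
        simp only [Subring.coe_mul]
        simp only [mul_assoc]
        rw [← mul_assoc (act A V g⁻¹) (act A V g), hinv, one_mul])
      map_zero' := Subtype.ext (by
        change act A V g * 0 * act A V g⁻¹ = 0
        rw [mul_zero, zero_mul])
      map_add' := fun a b => Subtype.ext (by
        change act A V g * ((a : AddMonoid.End V) + b) * act A V g⁻¹ =
          act A V g * a * act A V g⁻¹ + act A V g * b * act A V g⁻¹
        rw [mul_add, add_mul]) }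
  have hcjmul : ∀ g g' k, cj (g * g') k = cj g (cj g' k) := fun g g' k => Subtype.ext (by
    change act A V (g * g') * k * act A V (g * g')⁻¹ =
      act A V g * (act A V g' * k * act A V g'⁻¹) * act A V g⁻¹
    rw [mul_inv_rev, map_mul, map_mul]
    simp only [mul_assoc])
  have hcj1 : ∀ k, cj 1 k = k := fun k => Subtype.ext (by
    change act A V 1 * (k : AddMonoid.End V) * act A V 1⁻¹ = k
    rw [inv_one, map_one, one_mul, mul_one])
  let σ : A →* RingAut (alg A V Z) := MonoidHom.mk'
    (fun g => RingEquiv.ofRingHom (cj g) (cj g⁻¹)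
      (RingHom.ext fun k => by rw [RingHom.comp_apply, ← hcjmul, mul_inv_cancel, hcj1]; rfl)
      (RingHom.ext fun k => by rw [RingHom.comp_apply, ← hcjmul, inv_mul_cancel, hcj1]; rfl))
    (fun g g' => RingEquiv.ext fun k => hcjmul g g' k)
  have hσ : σ.ker ≤ centralizer (Z : Set A) := by
    intro g h
    rw [Subgroup.mem_centralizer_iff]
    intro z hz
    have h1 : act A V g * act A V z * act A V g⁻¹ = act A V z :=
      congrArg Subtype.val (RingEquiv.congr_fun (MonoidHom.mem_ker.1 h) ⟨act A V z, mem_alg hz⟩)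
    rw [← map_mul, ← map_mul] at h1
    have h2 : g * z * g⁻¹ = z := eq_of_smul_eq_smul fun v : V => DFunLike.congr_fun h1 v
    rw [mul_inv_eq_iff_eq_mul] at h2
    exact h2.symm
  let ι : Z →* (alg A V Z)ˣ := MonoidHom.toHomUnits
    { toFun := fun z : Z => ⟨act A V (z : A), mem_alg z.2⟩
      map_one' := Subtype.ext (map_one (act A V))
      map_mul' := fun x y => Subtype.ext (map_mul (act A V) (x : A) (y : A)) }
  have hι : Function.Injective ι := by
    intro x y h
    have h1 : act A V (x : A) = act A V (y : A) :=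
      congrArg (fun t : (alg A V Z)ˣ => ((t : alg A V Z) : AddMonoid.End V)) h
    exact Subtype.ext (eq_of_smul_eq_smul fun v : V => DFunLike.congr_fun h1 v)
  refine @field_aux A V _ _ _ _ _ _ _ _ Z _ _ hmax (alg A V Z) (algField hf) _
    (Module.compHom V (alg A V Z).subtype) σ hσ ι hι (fun g hg k v => centralizer_smul hg k v) (fun _ _ => rfl)
    (fun g z h => Subtype.ext ?_)
  change act A V g * act A V (z : A) * act A V g⁻¹ = act A V (z : A)
  rw [← map_mul, ← map_mul, h, mul_inv_cancel_right]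

section Socle

variable [Group.IsSolvable A] {Z : Subgroup A} [Z.Normal] [IsMulCommutative Z] {K : Type u} [Field K]
  {ι : Z →* Kˣ}

noncomputable instance socBarComm : CommGroup (socBar Z (centralizer (Z : Set A))) :=
  { (inferInstance : Group (socBar Z (centralizer (Z : Set A)))) with
    mul_comm := fun x y => Subtype.ext (socBar_comm x.2 y.2) }

instance socBarNormal : (socBar Z (centralizer (Z : Set A))).Normal :=
  Subgroup.Normal.map (socle_normal Z _) _ (QuotientGroup.mk'_surjective Z)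

/-- The conjugation action on the socle modulo `Z`. -/
noncomputable def socHom (Z : Subgroup A) [Z.Normal] :
    A →* MulAut (socBar Z (centralizer (Z : Set A))) :=
  MulAut.conjNormal.comp (QuotientGroup.mk' Z)

theorem socHom_apply (a : A) (x : socBar Z (centralizer (Z : Set A))) :
    ((socHom Z a x : socBar Z (centralizer (Z : Set A))) : A ⧸ Z) = (a : A ⧸ Z) * x * (a : A ⧸ Z)⁻¹ :=
  MulAut.conjNormal_apply (G := A ⧸ Z) _ x

theorem socHom_ker (hι : Function.Injective ι) (hmax : MaxAbelian Z)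
    (hne : ¬ centralizer (Z : Set A) ≤ Z) :
    (socHom Z).ker ⊓ centralizer (Z : Set A) = socle Z (centralizer (Z : Set A)) := by
  refine le_antisymm (fun a ha => ?_) (le_inf (fun a ha => ?_) (socle_le Z _))
  · refine mem_socle hι hmax hne ha.2 fun l hl => ?_
    have h1 := congrArg Subtype.val
      (MulEquiv.congr_fun (MonoidHom.mem_ker.1 ha.1) ⟨(l : A ⧸ Z), Subgroup.mem_map_of_mem _ hl⟩)
    rw [socHom_apply] at h1
    rw [← QuotientGroup.eq_one_iff]
    simp only [QuotientGroup.mk_mul, QuotientGroup.mk_inv]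
    exact mul_inv_eq_one.2 h1
  · refine MonoidHom.mem_ker.2 (MulEquiv.ext fun x => Subtype.ext ?_)
    rw [socHom_apply]
    have h1 := socBar_comm (Z := Z) (C := centralizer (Z : Set A)) (Subgroup.mem_map_of_mem _ ha) x.2
    change (a : A ⧸ Z) * x * (a : A ⧸ Z)⁻¹ = x
    rw [show (a : A ⧸ Z) * x = x * (a : A ⧸ Z) from h1, mul_inv_cancel_right]

theorem card_socBar :
    Nat.card (socBar Z (centralizer (Z : Set A))) = Z.relIndex (socle Z (centralizer (Z : Set A))) := by
  rw [socBar, ← Subgroup.relIndex_ker, QuotientGroup.ker_mk']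

/-- The index of the socle in the centraliser is the order of the group induced by the centraliser. -/
theorem relIndex_socle_eq (hι : Function.Injective ι) (hmax : MaxAbelian Z)
    (hne : ¬ centralizer (Z : Set A) ≤ Z) :
    (socle Z (centralizer (Z : Set A))).relIndex (centralizer (Z : Set A)) =
      Nat.card ((centralizer (Z : Set A)).map (socHom Z)) := by
  rw [← socHom_ker hι hmax hne, Subgroup.inf_relIndex_right, Subgroup.relIndex_ker]

/-- The socle modulo `Z` as a completely reducible module of a solvable group. -/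
theorem socle_module (hι : Function.Injective ι) (hmax : MaxAbelian Z)
    (hne : ¬ centralizer (Z : Set A) ≤ Z) :
    ∃ (W X : Type u) (_ : AddCommGroup W) (_ : Finite W) (_ : Group X) (_ : Finite X)
      (_ : Group.IsSolvable X) (_ : DistribMulAction X W),
      FaithfulSMul X W ∧ CR X W ∧
      Nat.card W = Z.relIndex (socle Z (centralizer (Z : Set A))) ∧
      (socle Z (centralizer (Z : Set A))).relIndex (centralizer (Z : Set A)) ≤ Nat.card X ∧
      ∃ e : (centralizer (Z : Set A)).map (socHom Z) →* X, Function.Injective e := by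
  classical
  set C := centralizer (Z : Set A)
  set L := socle Z C with hL
  have hZL : Z ≤ L := (exists_socle hne).le
  let W := Additive (socBar Z C)
  letI : DistribMulAction (socHom Z).range W :=
    { smul := fun s x => Additive.ofMul ((s : MulAut (socBar Z C)) (Additive.toMul x))
      one_smul := fun x => rfl
      mul_smul := fun a b x => rfl
      smul_zero := fun s => congrArg Additive.ofMul (map_one (s : MulAut (socBar Z C)))
      smul_add := fun s x y => congrArg Additive.ofMul (map_mul (s : MulAut (socBar Z C)) _ _) }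
  haveI : Finite (socHom Z).range := Finite.of_surjective _ (socHom Z).rangeRestrict_surjective
  haveI : Group.IsSolvable (socHom Z).range :=
    Group.isSolvable_of_surjective (socHom Z).rangeRestrict_surjective
  refine ⟨W, (socHom Z).range, inferInstance, inferInstance, inferInstance, inferInstance, inferInstance,
    inferInstance, ⟨fun {s t} h => Subtype.ext (MulEquiv.ext fun x =>
      Additive.ofMul.injective (h (Additive.ofMul x)))⟩, ?_, card_socBar, ?_,
    Subgroup.inclusion (Subgroup.map_le_range _ C), Subgroup.inclusion_injective _⟩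
  · intro U hU
    let U0 : Subgroup A :=
      { carrier := {x | ∃ h : x ∈ L, Additive.ofMul (⟨(x : A ⧸ Z), Subgroup.mem_map_of_mem _ h⟩ : socBar Z C) ∈ U}
        one_mem' := ⟨one_mem L, by
          have : (⟨((1 : A) : A ⧸ Z), Subgroup.mem_map_of_mem _ (one_mem L)⟩ : socBar Z C) = 1 := Subtype.ext rfl
          rw [this]; exact zero_mem U⟩
        mul_mem' := fun {x y} hx hy => by
          obtain ⟨hx, hxU⟩ := hx
          obtain ⟨hy, hyU⟩ := hy
          exact ⟨mul_mem hx hy, add_mem hxU hyU⟩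
        inv_mem' := fun {x} hx => by
          obtain ⟨hx, hxU⟩ := hx
          exact ⟨inv_mem hx, neg_mem hxU⟩ }
    have hU0n : U0.Normal := ⟨fun x hx g => by
      obtain ⟨hx, hxU⟩ := hx
      refine ⟨(socle_normal Z C).conj_mem x hx g, ?_⟩
      have h1 := hU ⟨socHom Z g, g, rfl⟩ _ hxU
      have h2 : (socHom Z g) ⟨(x : A ⧸ Z), Subgroup.mem_map_of_mem _ hx⟩ =
          ⟨((g * x * g⁻¹ : A) : A ⧸ Z), Subgroup.mem_map_of_mem _ ((socle_normal Z C).conj_mem x hx g)⟩ :=
        Subtype.ext (by rw [socHom_apply]; rfl)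
      rw [← h2]
      exact h1⟩
    have hZU : Z ≤ U0 := fun z hz => ⟨hZL hz, by
      have : (⟨(z : A ⧸ Z), Subgroup.mem_map_of_mem _ (hZL hz)⟩ : socBar Z C) = 1 :=
        Subtype.ext ((QuotientGroup.eq_one_iff z).2 hz)
      rw [this]; exact zero_mem U⟩
    obtain ⟨T, hTn, hZT, hTL, hTU, hsup⟩ := socle_complement hU0n hZU (fun x hx => hx.1) hZL
    let T0 : AddSubgroup W :=
      { carrier := {w | ((Additive.toMul w : socBar Z C) : A ⧸ Z) ∈ T.map (QuotientGroup.mk' Z)}
        zero_mem' := by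
          change ((Additive.toMul (0 : W) : socBar Z C) : A ⧸ Z) ∈ T.map (QuotientGroup.mk' Z)
          exact one_mem (T.map (QuotientGroup.mk' Z))
        add_mem' := by
          intro x y hx hy
          change ((Additive.toMul (x + y) : socBar Z C) : A ⧸ Z) ∈ T.map (QuotientGroup.mk' Z)
          exact mul_mem hx hy
        neg_mem' := by
          intro x hx
          change ((Additive.toMul (-x) : socBar Z C) : A ⧸ Z) ∈ T.map (QuotientGroup.mk' Z)
          rw [toMul_neg, Subgroup.coe_inv]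
          exact inv_mem hx }
    have hTb : (T.map (QuotientGroup.mk' Z)).Normal := hTn.map _ (QuotientGroup.mk'_surjective Z)
    refine ⟨T0, ?_, ?_, ?_⟩
    · rintro ⟨_, a, rfl⟩ w hw
      change ((socHom Z a (Additive.toMul w) : socBar Z C) : A ⧸ Z) ∈ T.map (QuotientGroup.mk' Z)
      rw [socHom_apply]
      exact hTb.conj_mem _ hw _
    · rw [eq_bot_iff]
      rintro w ⟨hwU, l, hl, hlw⟩
      have hlw' : (⟨(l : A ⧸ Z), Subgroup.mem_map_of_mem _ (hTL hl)⟩ : socBar Z C) = Additive.toMul w :=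
        Subtype.ext hlw
      have : l ∈ T ⊓ U0 := ⟨hl, hTL hl, by rw [hlw']; exact hwU⟩
      rw [hTU] at this
      refine AddSubgroup.mem_bot.2 (Additive.toMul.injective (Subtype.ext ?_))
      rw [← hlw]
      exact (QuotientGroup.eq_one_iff l).2 this
    · rw [eq_top_iff]
      intro w _
      obtain ⟨l, hl, hlw⟩ := (Additive.toMul w : socBar Z C).2
      haveI := hTn
      have hl' : l ∈ ((U0 ⊔ T : Subgroup A) : Set A) := by rw [hsup]; exact hl
      rw [Subgroup.mul_normal] at hl'
      obtain ⟨x, hx, y, hy, hxy⟩ := hl'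
      obtain ⟨hxL, hxU⟩ := hx
      refine AddSubgroup.mem_sup.2 ⟨_, hxU,
        Additive.ofMul (⟨(y : A ⧸ Z), Subgroup.mem_map_of_mem _ (hTL hy)⟩ : socBar Z C),
        ⟨y, hy, rfl⟩, Additive.toMul.injective (Subtype.ext ?_)⟩
      rw [← hlw, ← hxy]
      rfl
  · rw [relIndex_socle_eq hι hmax hne]
    exact Nat.card_le_card_of_injective _ (Subgroup.inclusion_injective (Subgroup.map_le_range _ C))

/-- For a socle index `4` the induced group has order dividing `24`. -/
theorem relIndex_socle_dvd (hι : Function.Injective ι) (hmax : MaxAbelian Z)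
    (hne : ¬ centralizer (Z : Set A) ≤ Z) :
    (socle Z (centralizer (Z : Set A))).relIndex (centralizer (Z : Set A)) ∣
      (Z.relIndex (socle Z (centralizer (Z : Set A)))).factorial := by
  rw [relIndex_socle_eq hι hmax hne, ← card_socBar, ← Nat.card_perm]
  let f : MulAut (socBar Z (centralizer (Z : Set A))) →* Equiv.Perm (socBar Z (centralizer (Z : Set A))) :=
    MulAut.toPerm _
  have hf : Function.Injective f := fun a b h => MulEquiv.ext fun x => Equiv.congr_fun h x
  exact (Subgroup.card_dvd_of_injective (f.comp ((centralizer (Z : Set A)).map (socHom Z)).subtype)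
    (hf.comp Subtype.val_injective))

/-- The symplectic bound for a socle index `r * r`, `r` a prime. -/
theorem relIndex_socle_le_prime (hι : Function.Injective ι) (hmax : MaxAbelian Z)
    (hne : ¬ centralizer (Z : Set A) ≤ Z) {r : ℕ} (hr : r.Prime)
    (hrr : Z.relIndex (socle Z (centralizer (Z : Set A))) = r * r) :
    (socle Z (centralizer (Z : Set A))).relIndex (centralizer (Z : Set A)) ≤ (r * r - 1) * r := by
  classical
  set C := centralizer (Z : Set A)
  set L := socle Z C with hL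
  set Wb := socBar Z C
  have hWb : Nat.card Wb = r * r := card_socBar.trans hrr
  have hZL : Z < L := exists_socle hne
  obtain ⟨l, hlL, hlZ⟩ := SetLike.exists_of_lt hZL
  obtain ⟨m, hm⟩ : ∃ m : L, form ι ⟨l, hlL⟩ m ≠ 1 := by
    by_contra hc
    push Not at hc
    refine hlZ ((socle_center hmax hne).le ⟨hlL, mem_centralizer_iff.2 fun x hx => ?_⟩)
    exact ((form_eq_one hι ⟨l, hlL⟩ ⟨x, hx⟩).1 (hc ⟨x, hx⟩)).symm
  let cl : L →* Wb := MonoidHom.mk' (fun x => ⟨((x : A) : A ⧸ Z), Subgroup.mem_map_of_mem _ x.2⟩)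
    (fun x y => Subtype.ext rfl)
  have hclsurj : Function.Surjective cl := by
    rintro ⟨w, y, hy, rfl⟩
    exact ⟨⟨y, hy⟩, rfl⟩
  have hcl1 : ∀ x : L, cl x = 1 ↔ (x : A) ∈ Z := fun x =>
    ⟨fun h => (QuotientGroup.eq_one_iff _).1 (congrArg Subtype.val h),
      fun h => Subtype.ext ((QuotientGroup.eq_one_iff _).2 h)⟩
  -- the two elements generate
  let D : Subgroup Wb := Subgroup.zpowers (cl ⟨l, hlL⟩)
  have hDm : cl m ∉ D := by
    rintro ⟨k, hk⟩
    apply hm
    rw [form_eq_one hι]
    change cl ⟨l, hlL⟩ ^ k = cl m at hk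
    rw [← map_zpow] at hk
    have hk' : ((⟨l, hlL⟩ : L) ^ k)⁻¹ * m ∈ (cl.ker : Subgroup L) := by
      rw [MonoidHom.mem_ker, map_mul, map_inv, hk, inv_mul_cancel]
    rw [MonoidHom.mem_ker, hcl1] at hk'
    have h1 := socle_central hlL hk'
    simp only [Subgroup.coe_mul, InvMemClass.coe_inv, Subgroup.coe_zpow] at h1
    have h2 : (m : A) = l ^ k * ((l ^ k)⁻¹ * m) := by group
    rw [h2]
    calc l * (l ^ k * ((l ^ k)⁻¹ * (m : A))) = l ^ k * (l * ((l ^ k)⁻¹ * (m : A))) := by
          rw [← mul_assoc, ((Commute.refl l).zpow_right k).eq, mul_assoc]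
      _ = l ^ k * ((l ^ k)⁻¹ * (m : A) * l) := by rw [h1]
      _ = _ := by rw [← mul_assoc (l ^ k)]
  have hD1 : D ≠ ⊥ := fun h => hlZ ((hcl1 ⟨l, hlL⟩).1 (Subgroup.zpowers_eq_bot.1 h))
  have hDcard : Nat.card D = r := by
    have h1 : Nat.card D ∣ r * r := hWb ▸ D.card_subgroup_dvd_card
    have h2 : Nat.card D ≠ 1 := fun h => hD1 (Subgroup.eq_bot_of_card_eq _ h)
    have h3 : Nat.card D ≠ r * r := fun h => hDm (by
      rw [Subgroup.eq_top_of_card_eq D (h.trans hWb.symm)]; trivial)
    rw [← pow_two] at h1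
    obtain ⟨i, hi, he⟩ := (Nat.dvd_prime_pow hr).1 h1
    interval_cases i
    · exact absurd he (by simpa using h2)
    · rwa [pow_one] at he
    · exact absurd he (by rwa [pow_two])
  have hgen : D ⊔ Subgroup.zpowers (cl m) = ⊤ := by
    refine Subgroup.eq_top_of_card_eq _ ?_
    have hlt : D < D ⊔ Subgroup.zpowers (cl m) :=
      lt_of_le_of_ne le_sup_left fun h => hDm (h ▸ Subgroup.mem_sup_right (Subgroup.mem_zpowers _))
    have h1 : Nat.card (D ⊔ Subgroup.zpowers (cl m) : Subgroup Wb) ∣ r * r :=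
      hWb ▸ (D ⊔ Subgroup.zpowers (cl m)).card_subgroup_dvd_card
    have h2 : r < Nat.card (D ⊔ Subgroup.zpowers (cl m) : Subgroup Wb) := by
      rw [← hDcard]
      refine lt_of_le_of_ne (Nat.card_le_card_of_injective _ (Subgroup.inclusion_injective hlt.le))
        fun h => hlt.ne (Subgroup.eq_of_le_of_card_ge hlt.le h.ge)
    rw [← pow_two] at h1
    obtain ⟨i, hi, he⟩ := (Nat.dvd_prime_pow hr).1 h1
    rw [hWb]
    interval_cases i
    · rw [pow_zero] at he; have := hr.one_le; omega
    · rw [pow_one] at he; omega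
    · rw [he, pow_two]
  -- the pairs
  let P := {xy : Wb × Wb // xy.1 ≠ 1 ∧ ∃ a b : L, cl a = xy.1 ∧ cl b = xy.2 ∧
    form ι a b = form ι ⟨l, hlL⟩ m}
  have hform : ∀ a a' b b' : L, cl a = cl a' → cl b = cl b' → form ι a b = form ι a' b' := by
    intro a a' b b' ha hb
    have h1 : ∀ z x : L, cl z = 1 → form ι z x = 1 ∧ form ι x z = 1 := fun z x hz =>
      ⟨(form_eq_one hι z x).2 (socle_central x.2 ((hcl1 z).1 hz)),
        (form_eq_one hι x z).2 (socle_central x.2 ((hcl1 z).1 hz)).symm⟩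
    obtain ⟨z, rfl⟩ : ∃ z, a' = a * z := ⟨a⁻¹ * a', by group⟩
    obtain ⟨w, rfl⟩ : ∃ w, b' = b * w := ⟨b⁻¹ * b', by group⟩
    rw [map_mul, left_eq_mul] at ha hb
    rw [form_mul_left, form_mul_right, form_mul_right, (h1 z b ha).1, (h1 w a hb).2, (h1 w z hb).2]
    simp
  have hP : Nat.card P ≤ (r * r - 1) * r := by
    have hfib : ∀ x : {x : Wb // x ≠ 1}, Nat.card {y : Wb // ∃ a b : L, cl a = x.1 ∧ cl b = y ∧
        form ι a b = form ι ⟨l, hlL⟩ m} ≤ r := by
      rintro ⟨x, hx⟩
      obtain ⟨a, rfl⟩ := hclsurj x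
      let Q : Subgroup Wb := ((formHom ι a).ker).map cl
      have hQ : Q ≠ ⊤ := by
        intro h
        apply hx
        rw [hcl1]
        refine (socle_center hmax hne).le ⟨a.2, mem_centralizer_iff.2 fun y hy => ?_⟩
        obtain ⟨b, hb, hbe⟩ := (h ▸ Subgroup.mem_top (cl ⟨y, hy⟩) : cl ⟨y, hy⟩ ∈ Q)
        have hb' : form ι a b = 1 := hb
        rw [hform a a b ⟨y, hy⟩ rfl hbe] at hb'
        exact ((form_eq_one hι a ⟨y, hy⟩).1 hb').symm
      have hQr : Nat.card Q ≤ r := by
        have h1 : Nat.card Q ∣ r * r := hWb ▸ Q.card_subgroup_dvd_card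
        rw [← pow_two] at h1
        obtain ⟨i, hi, he⟩ := (Nat.dvd_prime_pow hr).1 h1
        interval_cases i
        · rw [he, pow_zero]; exact hr.one_le
        · rw [he, pow_one]
        · exact absurd (Subgroup.eq_top_of_card_eq Q (by rw [he, hWb, pow_two])) hQ
      refine le_trans ?_ hQr
      rcases isEmpty_or_nonempty {y : Wb // ∃ a' b : L, cl a' = cl a ∧ cl b = y ∧
        form ι a' b = form ι ⟨l, hlL⟩ m} with he | ⟨⟨y₀, a₀, b₀, ha₀, hb₀, hf₀⟩⟩
      · rw [Nat.card_of_isEmpty]; exact Nat.zero_le _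
      refine Nat.card_le_card_of_injective (fun y => (⟨y.1 * y₀⁻¹, ?_⟩ : Q)) fun y y' h =>
        Subtype.ext (mul_right_cancel (congrArg Subtype.val h))
      obtain ⟨a', b, ha', hb, hf⟩ := y.2
      refine ⟨b * b₀⁻¹, ?_, by rw [map_mul, map_inv, hb, hb₀]⟩
      change formHom ι a (b * b₀⁻¹) = 1
      rw [map_mul, map_inv]
      change form ι a b * (form ι a b₀)⁻¹ = 1
      rw [hform a a' b b ha'.symm rfl, hform a a₀ b₀ b₀ ha₀.symm rfl, hf, hf₀, mul_inv_cancel]
    let e : P → Σ x : {x : Wb // x ≠ 1}, {y : Wb // ∃ a b : L, cl a = x.1 ∧ cl b = y ∧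
        form ι a b = form ι ⟨l, hlL⟩ m} := fun q => ⟨⟨q.1.1, q.2.1⟩, ⟨q.1.2, q.2.2⟩⟩
    have he : Function.Injective e := fun q q' h =>
      Subtype.ext (Prod.ext (congrArg (fun s => (s.1.1 : Wb)) h) (congrArg (fun s => (s.2.1 : Wb)) h))
    refine (Nat.card_le_card_of_injective e he).trans ?_
    haveI := Fintype.ofFinite {x : Wb // x ≠ 1}
    rw [Nat.card_sigma]
    refine (Finset.sum_le_card_nsmul _ _ r fun x _ => hfib x).trans (le_of_eq ?_)
    rw [smul_eq_mul, Finset.card_univ, ← Nat.card_eq_fintype_card]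
    congr 1
    have : Nat.card Wb = Nat.card {x : Wb // x ≠ 1} + 1 := by
      rw [← Nat.card_congr (Equiv.optionSubtypeNe (1 : Wb)), Finite.card_option]
    omega
  refine le_trans ?_ hP
  rw [relIndex_socle_eq hι hmax hne]
  have hmem : ∀ s : (C.map (socHom Z)), ((s : MulAut Wb) (cl ⟨l, hlL⟩) ≠ 1 ∧
      ∃ a b : L, cl a = (s : MulAut Wb) (cl ⟨l, hlL⟩) ∧ cl b = (s : MulAut Wb) (cl m) ∧
        form ι a b = form ι ⟨l, hlL⟩ m) := by
    rintro ⟨_, g, hg, rfl⟩
    refine ⟨fun h => hlZ ?_, ⟨g * l * g⁻¹, (socle_normal Z C).conj_mem l hlL g⟩,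
      ⟨g * m * g⁻¹, (socle_normal Z C).conj_mem m m.2 g⟩, ?_, ?_, ?_⟩
    · exact (hcl1 ⟨l, hlL⟩).1 ((socHom Z g).injective (h.trans (map_one _).symm))
    · exact Subtype.ext (by rw [socHom_apply]; rfl)
    · exact Subtype.ext (by rw [socHom_apply]; rfl)
    · rw [form, form]
      congr 1
      apply Subtype.ext
      change g * l * g⁻¹ * (g * m * g⁻¹) * (g * l * g⁻¹)⁻¹ * (g * m * g⁻¹)⁻¹ = l * m * l⁻¹ * (m : A)⁻¹
      have hz := socle_comm (Z := Z) (C := C) (Subgroup.commutator_mem_commutator hlL m.2)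
      rw [commutatorElement_def] at hz
      have hc := mem_centralizer_iff.1 hg _ hz
      calc g * l * g⁻¹ * (g * m * g⁻¹) * (g * l * g⁻¹)⁻¹ * (g * m * g⁻¹)⁻¹
          = g * (l * m * l⁻¹ * (m : A)⁻¹) * g⁻¹ := by group
        _ = l * m * l⁻¹ * (m : A)⁻¹ := by rw [← hc, mul_inv_cancel_right]
  let F : (C.map (socHom Z)) → P := fun s =>
    ⟨((s : MulAut Wb) (cl ⟨l, hlL⟩), (s : MulAut Wb) (cl m)), hmem s⟩
  refine Nat.card_le_card_of_injective F fun s t h => Subtype.ext ?_
  have h1 : (s : MulAut Wb) (cl ⟨l, hlL⟩) = (t : MulAut Wb) (cl ⟨l, hlL⟩) := congrArg (fun q => q.1.1) h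
  have h2 : (s : MulAut Wb) (cl m) = (t : MulAut Wb) (cl m) := congrArg (fun q => q.1.2) h
  have hE : D ⊔ Subgroup.zpowers (cl m) ≤
      MonoidHom.eqLocus (s : MulAut Wb).toMonoidHom (t : MulAut Wb).toMonoidHom := by
    refine sup_le ?_ ?_ <;> rw [Subgroup.zpowers_le]
    · exact h1
    · exact h2
  rw [hgen] at hE
  exact MulEquiv.ext fun x => hE (Subgroup.mem_top x)

end Socle

end Cfsg.Lib.SolvLinear
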