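import Cfsg.Agent.SolvLinear.SocleClasses
import Cfsg.Agent.Coprime.Fitting

/-!
Classes modulo the Fitting subgroup for solvable linear groups over a finite field with scalars.
-/

set_option autoImplicit false
set_option linter.style.haveILetI false
set_option linter.unusedSectionVars false

namespace Cfsg.Lib.SolvLinear

open Cfsg.Lib.OddBase Subgroup
open scoped Pointwise

universe u v

/-- A central element acting as a fixed-point-free scalar of order `q - 1`. -/
def Scal (A V : Type u) [Group A] [AddCommGroup V] [DistribMulAction A V] (q : ℕ) : Prop :=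
  ∃ s ∈ Subgroup.center A, s ^ (q - 1) = 1 ∧ ∀ i : ℕ, ¬ q - 1 ∣ i → ∀ v : V, s ^ i • v = v → v = 0

theorem sb_fitting_of {A : Type u} {Q : Type v} [Group A] [Group Q] [Finite A] [Finite Q] (g : A →* Q)
    (hker : g.ker ≤ fittingSubgroup A) {j : ℕ} (hQ : SB Q j) : SB (A ⧸ fittingSubgroup A) j := by
  refine sb_of_surjective (QuotientGroup.map g.ker (fittingSubgroup A) (MonoidHom.id A) hker) ?_
    (sb_of_injective (QuotientGroup.kerLift g) (QuotientGroup.kerLift_injective g) hQ)
  intro x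
  obtain ⟨a, rfl⟩ := QuotientGroup.mk_surjective x
  exact ⟨(a : A ⧸ g.ker), rfl⟩

theorem isNilpotent_of_injective {G : Type u} {H : Type v} [Group G] [Group H] (g : G →* H)
    (hg : Function.Injective g) [Group.IsNilpotent H] : Group.IsNilpotent G :=
  Subgroup.isNilpotent_of_ker_le_center g (by rw [(MonoidHom.ker_eq_bot_iff g).2 hg]; exact bot_le)

theorem isNilpotent_of_comm (G : Type u) [Group G] (h : ∀ x y : G, x * y = y * x) : Group.IsNilpotent G := by
  haveI : Group.IsNilpotent PUnit.{u + 1} := inferInstance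
  exact Subgroup.isNilpotent_of_ker_le_center (1 : G →* PUnit.{u + 1})
    fun x _ => Subgroup.mem_center_iff.2 fun y => h y x

theorem dvd_of_pow_sub_one_dvd {p f k : ℕ} (hp : 2 ≤ p) (hf : f ≠ 0) (h : p ^ f - 1 ∣ p ^ k - 1) :
    f ∣ k := by
  by_contra hk
  set j := k % f with hj
  have hj0 : 0 < j := Nat.pos_of_ne_zero fun h0 => hk (Nat.dvd_of_mod_eq_zero h0)
  have hjf : j < f := Nat.mod_lt _ (Nat.pos_of_ne_zero hf)
  set M := p ^ f - 1
  have hpf : p ^ (j + 1) ≤ p ^ f := Nat.pow_le_pow_right (by omega) hjf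
  have hpj : p ≤ p ^ j := Nat.le_self_pow (by omega) p
  have h2 : 2 * p ^ j ≤ p ^ (j + 1) := by rw [pow_succ']; exact Nat.mul_le_mul_right _ hp
  have e1 : p ^ f ≡ 1 [MOD M] := ((Nat.modEq_iff_dvd' (Nat.one_le_pow _ _ (by omega))).2 dvd_rfl).symm
  have e2 : p ^ k ≡ 1 [MOD M] := ((Nat.modEq_iff_dvd' (Nat.one_le_pow _ _ (by omega))).2 h).symm
  have e3 : p ^ k ≡ p ^ j [MOD M] := by
    conv_lhs => rw [← Nat.div_add_mod k f, pow_add, pow_mul]
    simpa using (e1.pow (k / f)).mul_right (p ^ j)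
  have e4 : p ^ j = 1 := (e3.symm.trans e2).eq_of_lt_of_lt (by omega) (by omega)
  omega

variable {A V : Type u} [Group A] [Finite A] [AddCommGroup V] [Finite V] [DistribMulAction A V]

theorem orderOf_scal [Nontrivial V] {q : ℕ} {s : A} (h1 : s ^ (q - 1) = 1)
    (h2 : ∀ i : ℕ, ¬ q - 1 ∣ i → ∀ v : V, s ^ i • v = v → v = 0) : orderOf s = q - 1 := by
  refine Nat.dvd_antisymm (orderOf_dvd_of_pow_eq_one h1) ?_
  by_contra hc
  obtain ⟨v, hv⟩ := exists_ne (0 : V)
  exact hv (h2 _ hc v (by rw [pow_orderOf_eq_one, one_smul]))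

/-- The order of a stable subgroup is a power of `q`. -/
theorem card_scal {p f : ℕ} (hp : p.Prime) (hf : f ≠ 0) (hs : Scal A V (p ^ f)) {r : ℕ}
    (hcard : Nat.card V = p ^ r) (T : AddSubgroup V) (hT : Subgroup.center A ≤ stab A T) (hT0 : T ≠ ⊥) :
    ∃ k, 1 ≤ k ∧ Nat.card T = p ^ (f * k) := by
  classical
  obtain ⟨s, hsc, h1, h2⟩ := hs
  obtain ⟨x, hxT, hx0⟩ := (AddSubgroup.bot_or_exists_ne_zero T).resolve_left hT0
  haveI : Nontrivial V := ⟨x, 0, hx0⟩
  obtain ⟨k, -, hk⟩ := (Nat.dvd_prime_pow hp).1 (hcard ▸ T.card_addSubgroup_dvd_card)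
  have hsT : ∀ g ∈ zpowers s, g ∈ stab A T := fun g hg =>
    hT ((zpowers_le.2 hsc) hg)
  letI : MulAction (zpowers s) {y : T // y ≠ 0} :=
    { smul := fun g y => ⟨⟨(g : A) • ((y.1 : T) : V), smul_mem_of_stab (hsT g g.2) y.1.2⟩,
        fun h => y.2 (Subtype.ext ((smul_eq_zero_iff_eq (g : A)).1 (congrArg Subtype.val h)))⟩
      one_smul := fun y => Subtype.ext (Subtype.ext (one_smul A _))
      mul_smul := fun g g' y => Subtype.ext (Subtype.ext (mul_smul (g : A) (g' : A) _)) }
  have hdvd : p ^ f - 1 ∣ p ^ k - 1 := by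
    have hcount : p ^ k - 1 = Nat.card {y : T // y ≠ 0} := by
      rw [← hk, ← Nat.card_congr (Equiv.optionSubtypeNe (0 : T)), Finite.card_option, Nat.add_sub_cancel]
    rw [hcount, Nat.card_congr (MulAction.selfEquivSigmaOrbitsQuotientStabilizer (zpowers s) {y : T // y ≠ 0})]
    haveI := Fintype.ofFinite (MulAction.orbitRel.Quotient (zpowers s) {y : T // y ≠ 0})
    rw [Nat.card_sigma]
    refine Finset.dvd_sum fun w _ => ?_
    set St := MulAction.stabilizer (zpowers s) w.out
    have hst : St = ⊥ := by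
      refine (Subgroup.eq_bot_iff_forall _).2 fun g hg => Subtype.ext ?_
      obtain ⟨i, hi⟩ := (mem_powers_iff_mem_zpowers (x := s)).2 g.2
      change s ^ i = (g : A) at hi
      rw [← hi]
      change s ^ i = 1
      by_contra hne
      refine w.out.2 (Subtype.ext (h2 i (fun hd => hne ?_) _ ?_))
      · obtain ⟨c, rfl⟩ := hd
        rw [pow_mul, h1, one_pow]
      · rw [hi]
        exact congrArg (fun y : {y : T // y ≠ 0} => ((y.1 : T) : V)) (MulAction.mem_stabilizer_iff.1 hg)
    rw [← Subgroup.index_eq_card, hst, Subgroup.index_bot, Nat.card_zpowers, orderOf_scal h1 h2]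
  obtain ⟨c, rfl⟩ := dvd_of_pow_sub_one_dvd hp.two_le hf hdvd
  refine ⟨c, ?_, hk⟩
  rcases Nat.eq_zero_or_pos c with hc | hc
  · exfalso
    rw [hc, mul_zero, pow_zero] at hk
    exact hT0 (AddSubgroup.eq_bot_of_card_eq T hk)
  · exact hc

theorem scal_ind {q : ℕ} (hs : Scal A V q) (U : AddSubgroup V) (hU : Subgroup.center A ≤ stab A U) :
    Scal (Ind A U) U q := by
  obtain ⟨s, hsc, h1, h2⟩ := hs
  refine ⟨(compHom A U).rangeRestrict ⟨s, hU hsc⟩, ?_, ?_, fun i hi v hv => ?_⟩
  · rw [Subgroup.mem_center_iff]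
    intro g
    obtain ⟨g, rfl⟩ := (compHom A U).rangeRestrict_surjective g
    rw [← map_mul, ← map_mul]
    congr 1
    exact Subtype.ext (Subgroup.mem_center_iff.1 hsc g)
  · rw [← map_pow, show (⟨s, hU hsc⟩ : stab A U) ^ (q - 1) = 1 from Subtype.ext h1, map_one]
  · rw [← map_pow] at hv
    exact Subtype.ext (h2 i hi _ ((ind_smul U _ v).symm.trans (congrArg Subtype.val hv)))

theorem cr_ind (hcr : CR A V) (U : AddSubgroup V) (hU : ∀ g : A, g ∈ stab A U) : CR (Ind A U) U := by
  intro S hS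
  obtain ⟨R, hR, hSR, hSRs⟩ := hcr (S.map U.subtype) (by
    rintro a _ ⟨x, hx, rfl⟩
    exact ⟨_, hS ((compHom A U).rangeRestrict ⟨a, hU a⟩) x hx, rfl⟩)
  refine ⟨R.comap U.subtype, ?_, ?_, ?_⟩
  · intro k x hx
    obtain ⟨g, rfl⟩ := (compHom A U).rangeRestrict_surjective k
    exact hR g x hx
  · rw [eq_bot_iff]
    rintro x ⟨hxS, hxR⟩
    have h2 : (x : V) ∈ S.map U.subtype ⊓ R := AddSubgroup.mem_inf.2 ⟨⟨x, hxS, rfl⟩, hxR⟩
    rw [hSR] at h2
    exact AddSubgroup.mem_bot.2 (Subtype.ext (AddSubgroup.mem_bot.1 h2))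
  · rw [eq_top_iff]
    intro x _
    obtain ⟨_, ⟨s, hs, rfl⟩, r, hr, hsr⟩ := AddSubgroup.mem_sup.1
      (show (x : V) ∈ S.map U.subtype ⊔ R from hSRs ▸ AddSubgroup.mem_top _)
    have hrU : r ∈ U := by
      have : r = (x : V) - s := by rw [← hsr]; exact (add_sub_cancel_left (s : V) r).symm
      rw [this]
      exact sub_mem x.2 s.2
    exact AddSubgroup.mem_sup.2 ⟨s, hs, ⟨r, hrU⟩, hr, Subtype.ext hsr⟩

/-- The main theorem. -/
theorem sb_linear {p f : ℕ} (hp : p.Prime) (hf : f ≠ 0) : ∀ (r : ℕ) (A V : Type u) [Group A] [Finite A]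
    [Group.IsSolvable A] [AddCommGroup V] [Finite V] [Nontrivial V] [DistribMulAction A V] [FaithfulSMul A V],
    Scal A V (p ^ f) → Nat.card V = p ^ (f * r) → CR A V → SB (A ⧸ fittingSubgroup A) (3 ^ (r - 1)) := by
  intro r
  induction r using Nat.strong_induction_on with
  | _ r ih =>
  intro A V _ _ _ _ _ _ _ _ hs hn hcr
  classical
  have hpf : 1 < p ^ f := Nat.one_lt_pow hf hp.one_lt
  have hr1 : 1 ≤ r := by
    rcases Nat.eq_zero_or_pos r with h | h
    · subst h
      rw [mul_zero, pow_zero] at hn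
      exact absurd hn (Finite.one_lt_card.ne')
    · exact h
  have hexp : ∀ a b : ℕ, p ^ (f * a) = p ^ (f * b) → a = b := fun a b h =>
    Nat.eq_of_mul_eq_mul_left (Nat.pos_of_ne_zero hf) (Nat.pow_right_injective hp.two_le h)
  by_cases hirr : Irr A V
  swap
  · simp only [Irr, not_forall, not_or] at hirr
    obtain ⟨U, hU, hU0, hU1⟩ := hirr
    obtain ⟨W, hW, hUW, hsup⟩ := hcr U hU
    have hW0 : W ≠ ⊥ := fun h => hU1 (by rw [h, sup_bot_eq] at hsup; exact hsup)
    have hstab : ∀ T : AddSubgroup V, (∀ a : A, ∀ v ∈ T, a • v ∈ T) → ∀ g : A, g ∈ stab A T := by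
      intro T hT g
      rw [MulAction.mem_stabilizer_iff]
      ext x
      rw [AddSubgroup.mem_pointwise_smul_iff_inv_smul_mem]
      exact ⟨fun h => by simpa using hT g _ h, fun h => hT g⁻¹ x h⟩
    have hadd : ∀ v : V, ∃ (x : U) (y : W), (x : V) + y = v := by
      intro v
      obtain ⟨x, hx, y, hy, h⟩ := AddSubgroup.mem_sup.1 (show v ∈ U ⊔ W from hsup ▸ AddSubgroup.mem_top v)
      exact ⟨⟨x, hx⟩, ⟨y, hy⟩, h⟩
    have hmul : Nat.card U * Nat.card W = Nat.card V := by
      rw [← Nat.card_prod]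
      refine Nat.card_eq_of_bijective (fun p => (p.1 : V) + p.2) ⟨?_, fun v => ?_⟩
      · rintro ⟨x, y⟩ ⟨x', y'⟩ h
        simp only at h
        have h1 : (x : V) - x' = (y' : V) - y := by
          rw [sub_eq_sub_iff_add_eq_add, h, add_comm]
        have h2 : (x : V) - x' ∈ U ⊓ W :=
          AddSubgroup.mem_inf.2 ⟨sub_mem x.2 x'.2, h1 ▸ sub_mem y'.2 y.2⟩
        rw [hUW, AddSubgroup.mem_bot] at h2
        rw [h2, eq_comm, sub_eq_zero] at h1
        exact Prod.ext (Subtype.ext (sub_eq_zero.1 h2)) (Subtype.ext h1.symm)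
      · obtain ⟨x, y, h⟩ := hadd v
        exact ⟨(x, y), h⟩
    have hUs := hstab U hU
    have hWs := hstab W hW
    obtain ⟨a, ha1, ha⟩ := card_scal hp hf hs hn U (fun g _ => hUs g) hU0
    obtain ⟨b, hb1, hb⟩ := card_scal hp hf hs hn W (fun g _ => hWs g) hW0
    have hab : a + b = r := hexp _ _ (by rw [mul_add, pow_add, ← ha, ← hb, hmul, hn])
    haveI : Nontrivial U := (AddSubgroup.nontrivial_iff_ne_bot U).2 hU0
    haveI : Nontrivial W := (AddSubgroup.nontrivial_iff_ne_bot W).2 hW0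
    have q1 := ih a (by omega) (Ind A U) U (scal_ind hs U fun g _ => hUs g) ha (cr_ind hcr U hUs)
    have q2 := ih b (by omega) (Ind A W) W (scal_ind hs W fun g _ => hWs g) hb (cr_ind hcr W hWs)
    let g₁ : A →* Ind A U := (compHom A U).rangeRestrict.comp
      (MonoidHom.mk' (fun g => (⟨g, hUs g⟩ : stab A U)) fun _ _ => rfl)
    let g₂ : A →* Ind A W := (compHom A W).rangeRestrict.comp
      (MonoidHom.mk' (fun g => (⟨g, hWs g⟩ : stab A W)) fun _ _ => rfl)
    let g := ((QuotientGroup.mk' (fittingSubgroup (Ind A U))).comp g₁).prod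
      ((QuotientGroup.mk' (fittingSubgroup (Ind A W))).comp g₂)
    have hker : g.ker ≤ fittingSubgroup A := by
      haveI := Cfsg.Lib.Components.isNilpotent_fitting (G := Ind A U)
      haveI := Cfsg.Lib.Components.isNilpotent_fitting (G := Ind A W)
      refine Cfsg.Lib.Components.le_fitting ?_
      let j : g.ker →* fittingSubgroup (Ind A U) × fittingSubgroup (Ind A W) :=
        MonoidHom.mk' (fun x => (⟨g₁ x.1, (QuotientGroup.eq_one_iff _).1 (congrArg Prod.fst x.2)⟩,
          ⟨g₂ x.1, (QuotientGroup.eq_one_iff _).1 (congrArg Prod.snd x.2)⟩))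
          fun x y => Prod.ext (Subtype.ext (map_mul g₁ x.1 y.1)) (Subtype.ext (map_mul g₂ x.1 y.1))
      refine isNilpotent_of_injective j fun x y h => Subtype.ext (eq_of_smul_eq_smul fun v : V => ?_)
      obtain ⟨u, w, rfl⟩ := hadd v
      have h1 : g₁ x.1 = g₁ y.1 := congrArg (fun z => ((z.1 : fittingSubgroup (Ind A U)) : Ind A U)) h
      have h2 : g₂ x.1 = g₂ y.1 := congrArg (fun z => ((z.2 : fittingSubgroup (Ind A W)) : Ind A W)) h
      have e1 := congrArg Subtype.val (congrArg (· • u) h1)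
      have e2 := congrArg Subtype.val (congrArg (· • w) h2)
      simp only [g₁, g₂, MonoidHom.comp_apply, MonoidHom.mk'_apply, ind_smul] at e1 e2
      rw [smul_add, smul_add, e1, e2]
    refine sb_mono (sb_fitting_of g hker (sb_prod q1 q2)) ?_
    rw [← pow_add]
    exact Nat.pow_le_pow_right (by norm_num) (by omega)
  rcases sys_or_idem (A := A) hirr with ⟨U, hU, -, hcen, hb⟩ | hidem
  · haveI := ind_nontrivial hU
    haveI := Fintype.ofFinite (A ⧸ stab A U)
    set b := (stab A U).index with hbdef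
    obtain ⟨a, ha1, ha⟩ := card_scal hp hf hs hn U hcen hU.1
    have hab : a * b = r := hexp _ _ (by rw [← mul_assoc, pow_mul, ← ha, hbdef, hU.2, hn])
    have halt : a < r := by rw [← hab]; exact lt_mul_right (by omega) (by omega)
    have q1 := ih a halt (Ind A U) U (scal_ind hs U hcen) ha (cr_of_irr (ind_irr hirr hU))
    set Fi := fittingSubgroup (Ind A U)
    haveI := Cfsg.Lib.Components.isNilpotent_fitting (G := Ind A U)
    set K := (lift U (QuotientGroup.mk' Fi).ker).normalCore with hKdef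
    have hKF : K ≤ fittingSubgroup A := by
      refine Cfsg.Lib.Components.le_fitting ?_
      have hmem : ∀ g ∈ K, ∀ q : A ⧸ stab A U, ∃ h : (q.out : A)⁻¹ * g * q.out ∈ stab A U,
          (compHom A U).rangeRestrict ⟨_, h⟩ ∈ Fi := by
        intro g hg q
        obtain ⟨x, hx, hxe⟩ : (q.out : A)⁻¹ * g * (q.out : A)⁻¹⁻¹ ∈ lift U (QuotientGroup.mk' Fi).ker := hg _
        rw [inv_inv] at hxe
        have hx' : (x : A) = (q.out : A)⁻¹ * g * q.out := hxe
        refine ⟨hx' ▸ x.2, ?_⟩
        rw [show (⟨_, hx' ▸ x.2⟩ : stab A U) = x from Subtype.ext hx'.symm]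
        rwa [SetLike.mem_coe, Subgroup.mem_comap, QuotientGroup.ker_mk'] at hx
      let ψ : K →* (A ⧸ stab A U → Fi) := MonoidHom.mk'
        (fun g q => ⟨_, (hmem g g.2 q).2⟩) (fun g h => funext fun q => Subtype.ext (by
          change _ = _ * _
          rw [← map_mul]
          refine congrArg (fun t => (compHom A U).rangeRestrict t) (Subtype.ext ?_)
          simp only [Subgroup.coe_mul]
          group))
      refine isNilpotent_of_injective ψ fun g h hgh => Subtype.ext (eq_of_smul_eq_smul fun v : V => ?_)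
      obtain ⟨fv, rfl⟩ := (sumMap_bijective hirr hU).2 v
      change (g : A) • (∑ q : A ⧸ stab A U, (q.out : A) • (fv q : V)) =
        (h : A) • (∑ q : A ⧸ stab A U, (q.out : A) • (fv q : V))
      rw [Finset.smul_sum, Finset.smul_sum]
      refine Finset.sum_congr rfl fun q _ => ?_
      have h1 : (compHom A U).rangeRestrict ⟨_, (hmem g g.2 q).1⟩ =
          (compHom A U).rangeRestrict ⟨_, (hmem h h.2 q).1⟩ := congrArg Subtype.val (congrFun hgh q)
      have h3 := congrArg Subtype.val (congrArg (· • fv q) h1)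
      simp only [ind_smul] at h3
      rw [← mul_smul, ← mul_smul, show (g : A) * q.out = q.out * ((q.out : A)⁻¹ * g * q.out) by group,
        show (h : A) * q.out = q.out * ((q.out : A)⁻¹ * h * q.out) by group, mul_smul, h3, ← mul_smul]
    have h := sb_blocks (QuotientGroup.mk' Fi) q1 K hKdef
    refine sb_mono (sb_fitting_of (QuotientGroup.mk' K) (by rw [QuotientGroup.ker_mk']; exact hKF) h) ?_
    rw [← hbdef, ← pow_mul]
    calc 3 ^ ((a - 1) * b) * 2 ^ (b - 1) ≤ 3 ^ ((a - 1) * b) * 3 ^ (b - 1) :=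
          Nat.mul_le_mul_left _ (Nat.pow_le_pow_left (by norm_num) _)
      _ = 3 ^ (r - 1) := by
          rw [← pow_add, ← hab]
          congr 1
          obtain ⟨c, rfl⟩ := Nat.exists_eq_add_of_le' ha1
          obtain ⟨e, he⟩ := Nat.exists_eq_add_of_le' (show 1 ≤ b by omega)
          rw [Nat.add_sub_cancel, he, add_mul, one_mul]
          omega
  obtain ⟨Z, hZn, hZc, hmax⟩ := exists_maxAbelian A
  haveI := hZn
  haveI := hZc
  obtain ⟨p', m, d, K, _, ι, hp', hm, hd, hV, hι, -, hδ, hrd, hstab⟩ := field_data hirr hmax (hidem Z)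
  obtain ⟨s, hsc, h1, h2⟩ := hs
  have hsZ : s ∈ Z := by
    have hZC : Subgroup.center A ⊔ Z ≤ centralizer ((Subgroup.center A ⊔ Z : Subgroup A) : Set A) := by
      refine sup_le (Subgroup.center_le_centralizer _) ?_
      rw [Subgroup.le_centralizer_iff]
      exact sup_le (Subgroup.center_le_centralizer _) (Subgroup.le_centralizer Z)
    have : IsMulCommutative (Subgroup.center A ⊔ Z : Subgroup A) :=
      ⟨⟨fun x y => Subtype.ext (mem_centralizer_iff.1 (hZC y.2) x x.2)⟩⟩
    rw [← hmax (Subgroup.center A ⊔ Z) inferInstance this le_sup_right]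
    exact Subgroup.mem_sup_left hsc
  obtain ⟨m0, δ, hmeq, hord, hrel⟩ := hstab ⟨s, hsZ⟩
  rw [← Subgroup.orderOf_coe, orderOf_scal h1 h2] at hord
  have hpp : p' = p := by
    have hdv : p' ∣ p ^ (f * r) := by rw [← hn, hV]; exact dvd_pow_self p' (Nat.mul_ne_zero hm hd)
    exact (Nat.prime_dvd_prime_iff_eq hp' hp).1 (hp'.dvd_of_dvd_pow hdv)
  subst hpp
  have hmd : m * d = f * r := Nat.pow_right_injective hp'.two_le (hV.symm.trans hn)
  have hm0 : f ≤ m0 := by
    have hm0 : m0 ≠ 0 := by rintro rfl; rw [zero_mul] at hmeq; exact hm hmeq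
    by_contra hc
    have h3 : p' ^ m0 < p' ^ f := Nat.pow_lt_pow_right hp'.one_lt (by omega)
    have h4 : 1 < p' ^ m0 := Nat.one_lt_pow hm0 hp'.one_lt
    have := Nat.le_of_dvd (by omega) hord
    omega
  have hδd : δ * d ≤ r := by
    refine Nat.le_of_mul_le_mul_left ?_ (Nat.pos_of_ne_zero hf)
    calc f * (δ * d) ≤ m0 * (δ * d) := Nat.mul_le_mul_right _ hm0
      _ = m * d := by rw [hmeq, mul_assoc]
      _ = f * r := hmd
  set C := centralizer (Z : Set A)
  have hCδ : C.index ≤ δ := by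
    rw [show centralizer ({((⟨s, hsZ⟩ : Z) : A)} : Set A) = ⊤ from top_unique fun g _ =>
      mem_centralizer_singleton_iff.2 (Subgroup.mem_center_iff.1 hsc g), Subgroup.relIndex_top_right] at hrel
    exact hrel
  have hδ1 : 1 ≤ δ := le_trans (Nat.pos_of_ne_zero Subgroup.index_ne_zero_of_finite) hCδ
  have hδ3 : δ ≤ 3 ^ (δ - 1) := by
    have := Nat.lt_pow_self (n := δ - 1) (show 1 < 3 by norm_num)
    omega
  by_cases hne : C ≤ Z
  · have hZF : Z ≤ fittingSubgroup A := Cfsg.Lib.Components.le_fitting (isNilpotent_of_comm Z mul_comm')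
    refine sb_fitting_of (QuotientGroup.mk' Z) (by rw [QuotientGroup.ker_mk']; exact hZF)
      (sb_mono (sb_card (j := δ) ?_) (hδ3.trans (Nat.pow_le_pow_right (by norm_num) ?_)))
    · rw [← Subgroup.index_eq_card]
      exact (Nat.le_of_dvd (Nat.pos_of_ne_zero Subgroup.index_ne_zero_of_finite)
        (Subgroup.index_dvd_of_le hne)).trans hCδ
    · have := Nat.le_mul_of_pos_right δ (Nat.pos_of_ne_zero hd); omega
  set L := socle Z C with hLdef
  obtain ⟨r0, hr⟩ := socle_index_square hι hmax hne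
  have hZL : Z < L := exists_socle hne
  have hr2 : 2 ≤ r0 := by
    rcases r0 with _ | _ | r0
    · exact absurd (show Z.relIndex L = 0 by rw [hr]) Subgroup.FiniteIndex.index_ne_zero
    · exact absurd (Subgroup.relIndex_eq_one.1 (show Z.relIndex L = 1 by rw [hr])) (not_le_of_gt hZL)
    · omega
  have hrd' : r0 ≤ d := by
    have := hrd hne; rw [hr] at this; exact Nat.mul_self_le_mul_self_iff.1 this
  obtain ⟨W, X, _, _, _, _, _, _, hfW, hcW, hWc, -, e, he⟩ := socle_module hι hmax hne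
  haveI := hfW
  rw [hr] at hWc
  have hX := sb_socle r0 X W hr2 hWc hcW
  have hLF : L ≤ fittingSubgroup A := by
    haveI : L.Normal := socle_normal Z C
    refine Cfsg.Lib.Components.le_fitting ?_
    let j : L →* L ⧸ (Z.subgroupOf L) := QuotientGroup.mk' _
    haveI : IsMulCommutative (L ⧸ (Z.subgroupOf L)) := by
      refine ⟨⟨fun x y => ?_⟩⟩
      obtain ⟨x, rfl⟩ := QuotientGroup.mk_surjective x
      obtain ⟨y, rfl⟩ := QuotientGroup.mk_surjective y
      rw [← QuotientGroup.mk_mul, ← QuotientGroup.mk_mul, QuotientGroup.eq]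
      have h1 := socle_comm (Subgroup.commutator_mem_commutator (inv_mem y.2) (inv_mem x.2))
      rw [Subgroup.mem_subgroupOf]
      rw [commutatorElement_def, inv_inv, inv_inv] at h1
      simp only [Subgroup.coe_mul, Subgroup.coe_inv, mul_inv_rev]
      simpa only [mul_assoc] using h1
    haveI : Group.IsNilpotent (L ⧸ (Z.subgroupOf L)) := isNilpotent_of_comm _ mul_comm'
    refine Subgroup.isNilpotent_of_ker_le_center j ?_
    intro x hx
    rw [QuotientGroup.ker_mk', Subgroup.mem_subgroupOf] at hx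
    rw [Subgroup.mem_center_iff]
    intro y
    exact Subtype.ext (socle_central y.2 hx).symm
  haveI : L.Normal := socle_normal Z C
  set π := QuotientGroup.lift L (QuotientGroup.mk' C) (by rw [QuotientGroup.ker_mk']; exact socle_le Z C)
  have hkerπ : SB π.ker (3 ^ (r0 - 1)) := by
    set g := (QuotientGroup.mk' L).comp C.subtype with hg
    set ψ := (socHom Z).subgroupMap C with hψ
    have hgk : g.ker = ψ.ker := by
      ext x
      have hs := SetLike.ext_iff.1 (socHom_ker hι hmax hne) (x : A)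
      rw [MonoidHom.mem_ker, MonoidHom.mem_ker, Subtype.ext_iff]
      change ((x : A) : A ⧸ L) = 1 ↔ socHom Z (x : A) = 1
      rw [QuotientGroup.eq_one_iff, hLdef, ← hs]
      exact ⟨fun h => h.1, fun h => ⟨h, x.2⟩⟩
    have hgr : π.ker = g.range := by
      rw [hg, MonoidHom.range_comp, Subgroup.range_subtype, QuotientGroup.ker_lift, QuotientGroup.ker_mk']
    let e' : π.ker ≃* ψ.range :=
      (MulEquiv.subgroupCongr hgr).trans (((QuotientGroup.quotientKerEquivRange g).symm.trans
        (QuotientGroup.quotientMulEquivOfEq hgk)).trans (QuotientGroup.quotientKerEquivRange ψ))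
    exact sb_of_injective ((e.comp ψ.range.subtype).comp e'.toMonoidHom)
      ((he.comp Subtype.val_injective).comp e'.injective) hX
  have hC : SB (A ⧸ C) δ := sb_card (by rw [← Subgroup.index_eq_card]; exact hCδ)
  refine sb_fitting_of (QuotientGroup.mk' L) (by rw [QuotientGroup.ker_mk']; exact hLF)
    (sb_mono (sb_ext π hkerπ hC) ?_)
  calc 3 ^ (r0 - 1) * δ ≤ 3 ^ (r0 - 1) * 3 ^ (δ - 1) := Nat.mul_le_mul_left _ hδ3
    _ ≤ 3 ^ (r - 1) := by
        rw [← pow_add]
        refine Nat.pow_le_pow_right (by norm_num) ?_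
        have h3 : δ + r0 ≤ δ * d + 1 := by
          obtain ⟨a, rfl⟩ := Nat.exists_eq_add_of_le' hδ1
          nlinarith
        omega

end Cfsg.Lib.SolvLinear
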