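import Mathlib

/-!
The numerical inequalities behind the lower bound `49 p / 60` for the class number.
-/

set_option autoImplicit false

namespace Cfsg.Lib.SolvLinear

/-- The square of the bound for a transitive solvable group of degree `b`. -/
def t2 (b : ℕ) : ℕ :=
  if b ≤ 1 then 1 else if b = 2 then 4 else if b = 3 then 36 else if b = 4 then 576
  else if b = 5 then 4761 else 9 ^ (b - 1)

/-- The inequality for an abelian normal subgroup with index product `I`. -/
def Num (I p n : ℕ) : Prop := I * (2401 * (p * p)) + 14400 ≤ 14400 * p ^ n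

instance (I p n : ℕ) : Decidable (Num I p n) := inferInstanceAs (Decidable (_ ≤ _))

theorem num_scale {I P p n : ℕ} (hn : 2 ≤ n) (hP : 1 ≤ P) (hp : P ≤ p) (h : Num I P n) : Num I p n := by
  obtain ⟨m, rfl⟩ := Nat.exists_eq_add_of_le hn
  unfold Num at *
  rw [pow_add, pow_two] at h ⊢
  have hm : P ^ m ≤ p ^ m := Nat.pow_le_pow_left hp m
  have h2 : (I * (2401 * (p * p)) + 14400) * (P * P) ≤ (14400 * (p * p * p ^ m)) * (P * P) := by
    calc (I * (2401 * (p * p)) + 14400) * (P * P)
        = (I * (2401 * (P * P))) * (p * p) + 14400 * (P * P) := by ring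
      _ ≤ (I * (2401 * (P * P))) * (p * p) + 14400 * (p * p) := by
          gcongr
      _ = (I * (2401 * (P * P)) + 14400) * (p * p) := by ring
      _ ≤ (14400 * (P * P * P ^ m)) * (p * p) := Nat.mul_le_mul_right _ h
      _ = (14400 * (p * p * P ^ m)) * (P * P) := by ring
      _ ≤ _ := by gcongr
  exact Nat.le_of_mul_le_mul_right h2 (by positivity)

theorem num_step {I P n a c : ℕ} (hP : 2 ≤ P) (hc : c ≤ P ^ a) (h : Num I P n) : Num (I * c) P (n + a) := by
  unfold Num at *
  have hpa : 1 ≤ P ^ a := Nat.one_le_pow _ _ (by omega)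
  calc I * c * (2401 * (P * P)) + 14400 = c * (I * (2401 * (P * P))) + 14400 := by ring
    _ ≤ P ^ a * (I * (2401 * (P * P))) + P ^ a * 14400 :=
        Nat.add_le_add (Nat.mul_le_mul_right _ hc) (Nat.le_mul_of_pos_left _ hpa)
    _ = P ^ a * (I * (2401 * (P * P)) + 14400) := by ring
    _ ≤ P ^ a * (14400 * P ^ n) := Nat.mul_le_mul_left _ h
    _ = _ := by rw [pow_add]; ring

theorem num_mono {I J p n : ℕ} (hIJ : I ≤ J) (h : Num J p n) : Num I p n :=
  le_trans (Nat.add_le_add_right (Nat.mul_le_mul_right _ hIJ) _) h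

/-- Extending a base range of block numbers. -/
theorem num_blocks {P a M : ℕ} (hP : 2 ≤ P) (hM : 9 * M ≤ P ^ a) (b0 : ℕ)
    (base : ∀ b, b0 ≤ b → b ≤ 6 → Num (M ^ b * t2 b) P (a * b)) :
    ∀ b, b0 ≤ b → b0 ≤ 6 → Num (M ^ b * t2 b) P (a * b) := by
  intro b
  induction b with
  | zero => exact fun h _ => base 0 h (by norm_num)
  | succ b ih =>
    intro h0 hb6
    by_cases h6 : b + 1 ≤ 6
    · exact base _ h0 h6
    by_cases hb : b0 ≤ b
    · have h := num_step (a := a) hP hM (ih hb hb6)
      have ht : t2 (b + 1) = t2 b * 9 := by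
        rcases Nat.lt_or_ge b 6 with h | h
        · omega
        · have e1 : t2 (b + 1) = 9 ^ b := by
            simp [t2, show ¬ b + 1 ≤ 1 by omega, show b ≠ 1 by omega, show b ≠ 2 by omega, show b ≠ 3 by omega,
              show b ≠ 4 by omega]
            try omega
          have e2 : t2 b = 9 ^ (b - 1) := by
            simp [t2, show ¬ b ≤ 1 by omega, show b ≠ 2 by omega, show b ≠ 3 by omega,
              show b ≠ 4 by omega, show b ≠ 5 by omega]
          rw [e1, e2, ← pow_succ]
          congr 1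
          omega
      rw [ht, show a * (b + 1) = a * b + a by ring,
        show M ^ (b + 1) * (t2 b * 9) = M ^ b * t2 b * (9 * M) by ring]
      exact h
    · have hb' : b0 = b + 1 := by omega
      omega

/-- The generic component. -/
theorem num_generic {a b p : ℕ} (psi : ℕ → ℕ)
    (h1 : psi 1 = 1) (h2 : psi 2 = 4) (h3 : psi 3 = 24) (h4 : psi 4 = 216)
    (h5 : ∀ a, 5 ≤ a → psi a = 5 * 11 ^ (a - 2))
    (hp : 11 ≤ p) (hb : 1 ≤ b) (hab : 2 ≤ a * b) : Num (psi a ^ b * t2 b) p (a * b) := by
  refine num_scale hab (by norm_num) hp ?_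
  by_cases ha : a = 1
  · subst ha
    rw [h1]
    refine num_blocks (by norm_num) (by norm_num) 2 (fun b h h' => ?_) b (by omega) (by norm_num)
    interval_cases b <;> norm_num [Num, t2]
  have ha2 : 2 ≤ a := by
    rcases a with _ | _ | a
    · simp at hab
    · exact absurd rfl ha
    · omega
  by_cases hb2 : 2 ≤ b
  · by_cases ha4 : a ≤ 4
    · interval_cases a
      · rw [h2]
        exact num_blocks (by norm_num) (by norm_num) 2 (fun b h h' => by interval_cases b <;> norm_num [Num, t2]) b hb2 (by norm_num)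
      · rw [h3]
        exact num_blocks (by norm_num) (by norm_num) 2 (fun b h h' => by interval_cases b <;> norm_num [Num, t2]) b hb2 (by norm_num)
      · rw [h4]
        exact num_blocks (by norm_num) (by norm_num) 2 (fun b h h' => by interval_cases b <;> norm_num [Num, t2]) b hb2 (by norm_num)
    · rw [h5 a (by omega)]
      obtain ⟨c, rfl⟩ := Nat.exists_eq_add_of_le (show 5 ≤ a by omega)
      have hM : 9 * (5 * 11 ^ (5 + c - 2)) ≤ 11 ^ (5 + c) := by
        rw [show 5 + c - 2 = 3 + c by omega, show 5 + c = 2 + (3 + c) by omega, pow_add 11 2]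
        norm_num
        omega
      refine num_blocks (by norm_num) hM 2 (fun b h h' => ?_) b hb2 (by norm_num)
      have ht : t2 b ≤ 9 ^ (b - 1) := by interval_cases b <;> norm_num [t2]
      refine num_mono (Nat.mul_le_mul_left _ ht) ?_
      rw [show 5 + c - 2 = 3 + c by omega, mul_pow, ← pow_mul]
      unfold Num
      have e : 11 ^ ((5 + c) * b) = 11 ^ ((3 + c) * b) * 11 ^ (2 * b) := by rw [← pow_add]; congr 1; ring
      rw [e]
      have hpos : 1 ≤ 11 ^ ((3 + c) * b) := Nat.one_le_pow _ _ (by norm_num)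
      generalize 11 ^ ((3 + c) * b) = X at hpos ⊢
      interval_cases b <;> norm_num <;> omega
  · have hb1 : b = 1 := by omega
    subst hb1
    rw [pow_one, mul_one, show t2 1 = 1 from rfl, mul_one]
    by_cases ha4 : a ≤ 4
    · interval_cases a
      · rw [h2]; norm_num [Num]
      · rw [h3]; norm_num [Num]
      · rw [h4]; norm_num [Num]
    · rw [h5 a (by omega)]
      obtain ⟨c, rfl⟩ := Nat.exists_eq_add_of_le (show 5 ≤ a by omega)
      unfold Num
      rw [show 5 + c - 2 = 3 + c by omega, show 5 + c = 2 + (3 + c) by omega, pow_add 11 2]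
      have hpos : 1 ≤ 11 ^ (3 + c) := Nat.one_le_pow _ _ (by norm_num)
      norm_num
      omega

/-- The exceptional component, outside the finite list. -/
theorem num_special {a b p M : ℕ} (ha : a = 2 ∧ M = 24 ∧ 23 ≤ p ∧ 2 ≤ b ∨
      a = 3 ∧ M = 216 ∧ (19 ≤ p ∧ 2 ≤ b ∨ 37 ≤ p ∧ b = 1) ∨
      a = 4 ∧ M = 1152 ∧ (11 ≤ p ∧ 2 ≤ b ∨ 17 ≤ p ∧ b = 1)) : Num (M ^ b * t2 b) p (a * b) := by
  rcases ha with ⟨rfl, rfl, hp, hb⟩ | ⟨rfl, rfl, ⟨hp, hb⟩ | ⟨hp, rfl⟩⟩ | ⟨rfl, rfl, ⟨hp, hb⟩ | ⟨hp, rfl⟩⟩
  · exact num_scale (by omega) (by norm_num) hp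
      (num_blocks (by norm_num) (by norm_num) 2 (fun b h h' => by interval_cases b <;> norm_num [Num, t2]) b hb (by norm_num))
  · exact num_scale (by omega) (by norm_num) hp
      (num_blocks (by norm_num) (by norm_num) 2 (fun b h h' => by interval_cases b <;> norm_num [Num, t2]) b hb (by norm_num))
  · exact num_scale (by omega) (by norm_num) hp (by norm_num [Num, t2])
  · exact num_scale (by omega) (by norm_num) hp
      (num_blocks (by norm_num) (by norm_num) 2 (fun b h h' => by interval_cases b <;> norm_num [Num, t2]) b hb (by norm_num))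
  · exact num_scale (by omega) (by norm_num) hp (by norm_num [Num, t2])

/-- A lower bound for the number of multisets of `b` orbits among `r + 1`. -/
def low (r b : ℕ) : ℕ :=
  if b = 1 then r + 1 else if b = 2 then (r + 1) * (r + 2) / 2
  else if 2 ≤ r then (b + 1) * (b + 2) / 2 else b + 1

theorem multichoose_mono_left {m n : ℕ} (h : m ≤ n) (b : ℕ) : Nat.multichoose m b ≤ Nat.multichoose n b := by
  rw [Nat.multichoose_eq, Nat.multichoose_eq]
  exact Nat.choose_le_choose _ (by omega)

theorem low_le {r b : ℕ} (hr : 1 ≤ r) (hb : 1 ≤ b) : low r b ≤ Nat.multichoose (r + 1) b := by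
  unfold low
  split_ifs with h1 h2 h3
  · subst h1; simp
  · subst h2
    rw [Nat.multichoose_eq, show r + 1 + 2 - 1 = r + 2 by omega, Nat.choose_two_right,
      show r + 2 - 1 = r + 1 by omega, mul_comm]
  · refine le_trans (le_of_eq ?_) (multichoose_mono_left (show 3 ≤ r + 1 by omega) b)
    rw [Nat.multichoose_eq, show 3 + b - 1 = b + 2 by omega, Nat.choose_symm_add, Nat.choose_two_right,
      show b + 2 - 1 = b + 1 by omega, mul_comm]
  · refine le_trans (le_of_eq ?_) (multichoose_mono_left (show 2 ≤ r + 1 by omega) b)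
    rw [Nat.multichoose_two]

/-- The finite list. -/
def jobs : List (ℕ × ℕ × ℕ) :=
  ([11, 13, 17, 19].flatMap fun p => (List.range 14).map fun b => (2, p, b + 2)) ++
  ([11, 13, 17, 19, 23, 29, 31].map fun p => (3, p, 1)) ++
  ([11, 13, 17].flatMap fun p => (List.range 14).map fun b => (3, p, b + 2)) ++
  [(4, 11, 1), (4, 13, 1)]

/-- The check for one entry of the list. -/
def check (t : ℕ × ℕ × ℕ) : Bool :=
  let a := t.1
  let p := t.2.1
  let b := t.2.2
  let M := if a = 2 then 24 else if a = 3 then 216 else 1152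
  decide (Num (M ^ b * t2 b) p (a * b)) ||
    (List.range p).all fun s =>
      if s ∣ p - 1 ∧ (if a = 3 then 3 else 2) ∣ s then
        (List.range (M / (a * a))).all fun j =>
          let i := a * a * (j + 1)
          decide (49 * p + 60 ≤ 60 * ((s * (3 * i - 2) + i * b - 1) / (i * b) +
            low ((p ^ a - 1 + i * s - 1) / (i * s)) b))
      else true

theorem check_jobs : jobs.all check = true := by decide +kernel

end Cfsg.Lib.SolvLinear
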