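import Cfsg.Agent.SolvLinear.Prim
import Cfsg.Agent.SolvLinear.Table

/-!
Classes plus orbits of an irreducible solvable group on a module of order `p ^ n`, `n ≥ 2`.
-/

set_option autoImplicit false
set_option linter.style.haveILetI false
set_option linter.unusedSectionVars false

namespace Cfsg.Lib.SolvLinear

open Cfsg.Lib.OddBase Subgroup
open scoped Pointwise

universe u

theorem amgm {p k r : ℕ} (h : 2401 * (p * p) ≤ 14400 * (k * r)) : 49 * p ≤ 60 * (k + r) := by
  by_contra hc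
  rw [not_le] at hc
  nlinarith [Nat.mul_lt_mul'' hc hc, four_mul_le_sq_add k r]

theorem abelian_bound {A : Type u} [Group A] [Finite A] (N : Subgroup A) [IsMulCommutative N] :
    Nat.card N ≤ (centralizer (N : Set A)).index * Nat.card (ConjClasses A) := by
  set C := centralizer (N : Set A)
  have hNC : N ≤ C := Subgroup.le_centralizer N
  refine le_trans ?_ (Cfsg.Lib.Counting.classNumber_bounds C).1
  refine Nat.card_le_card_of_injective (fun x : N => ConjClasses.mk (⟨x.1, hNC x.2⟩ : C)) ?_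
  intro x y h
  obtain ⟨c, hc⟩ := isConj_iff.1 (ConjClasses.mk_eq_mk_iff_isConj.1 h)
  have h1 : (c : A) * x.1 * (c : A)⁻¹ = y.1 := congrArg Subtype.val hc
  rw [← mem_centralizer_iff.1 c.2 _ x.2, mul_inv_cancel_right] at h1
  exact Subtype.ext h1

theorem core_index_sq {A : Type u} [Group A] [Finite A] [Group.IsSolvable A] (H : Subgroup A) :
    H.normalCore.index ^ 2 ≤ t2 H.index := by
  have h1 := index_core_le_factorial H
  have h2 := dixon _ A H rfl
  set b := H.index
  set τ := H.normalCore.index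
  have hb : 1 ≤ b := Nat.one_le_iff_ne_zero.2 Subgroup.index_ne_zero_of_finite
  rcases Nat.lt_or_ge b 5 with h | h
  · interval_cases b <;> norm_num [t2, Nat.factorial] at h1 ⊢ <;> nlinarith
  rcases h.lt_or_eq with h6 | h5
  · have e : t2 b = 9 ^ (b - 1) := by
      simp [t2, show ¬ b ≤ 1 by omega, show b ≠ 2 by omega, show b ≠ 3 by omega, show b ≠ 4 by omega,
        show b ≠ 5 by omega]
    rw [e]
    apply (Nat.pow_le_pow_iff_left (show 3 ≠ 0 by norm_num)).1
    calc (τ ^ 2) ^ 3 = (τ ^ 3) ^ 2 := by ring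
      _ ≤ (24 ^ (b - 1)) ^ 2 := Nat.pow_le_pow_left h2 2
      _ = (24 ^ 2) ^ (b - 1) := by rw [← pow_mul, ← pow_mul, mul_comm]
      _ ≤ (9 ^ 3) ^ (b - 1) := Nat.pow_le_pow_left (by norm_num) _
      _ = _ := by rw [← pow_mul, ← pow_mul, mul_comm]
  · rw [← h5] at h2 ⊢
    have : τ ≤ 69 := by
      by_contra hc
      have := Nat.pow_le_pow_left (show 70 ≤ τ by omega) 3
      omega
    exact (Nat.pow_le_pow_left this 2).trans (by norm_num [t2])

variable {A V : Type u} [Group A] [Finite A] [AddCommGroup V] [Finite V] [DistribMulAction A V]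

/-- The bound from an abelian normal subgroup of the component group. -/
theorem of_abelian [Group.IsSolvable A] [FaithfulSMul A V] (hirr : Irr A V) {U : AddSubgroup V}
    (hU : Sys A U) {p a b M : ℕ} (hb : (stab A U).index = b)
    (hn : Nat.card V = p ^ (a * b)) (Z : Subgroup (Ind A U)) [Z.Normal] [IsMulCommutative Z]
    (hM : Z.index * (centralizer (Z : Set (Ind A U))).index ≤ M) (hnum : Num (M ^ b * t2 b) p (a * b)) :
    49 * p + 60 ≤ 60 * (Nat.card (ConjClasses A) + Nat.card (MulAction.orbitRel.Quotient A V)) := by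
  set C := centralizer (Z : Set (Ind A U))
  set N := (lift U Z).normalCore
  haveI : IsMulCommutative N := ⟨⟨fun g h => Subtype.ext (core_commute hirr hU
    (fun m hm n hn => congrArg Subtype.val (mul_comm' (⟨m, hm⟩ : Z) ⟨n, hn⟩)) g.2 h.2)⟩⟩
  have hCN : (lift U C).normalCore ≤ centralizer (N : Set A) := fun g hg =>
    mem_centralizer_iff.2 fun h hh => core_commute hirr hU (fun m hm n hn => mem_centralizer_iff.1 hn m hm) hh hg
  have h1 := abelian_bound N
  have h2 : N.index ≤ _ := index_lift_core_le U Z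
  have h3 : (centralizer (N : Set A)).index ≤ _ :=
    (Nat.le_of_dvd (Nat.pos_of_ne_zero Subgroup.index_ne_zero_of_finite) (Subgroup.index_dvd_of_le hCN)).trans
      (index_lift_core_le U C)
  have h4 := core_index_sq (stab A U)
  obtain ⟨h5, hR⟩ := orbits_mul_ge (A := A) (V := V)
  rw [hb] at h2 h3 h4
  rw [hn] at h5
  set k := Nat.card (ConjClasses A)
  set R := Nat.card (MulAction.orbitRel.Quotient A V)
  set τ := (stab A U).normalCore.index
  set I := M ^ b * t2 b
  have hA : Nat.card A ≤ k * I := by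
    rw [← N.card_mul_index]
    calc Nat.card N * N.index ≤ (τ * C.index ^ b * k) * (τ * Z.index ^ b) :=
          Nat.mul_le_mul (h1.trans (Nat.mul_le_mul_right _ h3)) h2
      _ = k * ((Z.index * C.index) ^ b * τ ^ 2) := by rw [mul_pow]; ring
      _ ≤ _ := Nat.mul_le_mul_left _ (Nat.mul_le_mul (Nat.pow_le_pow_left hM b) h4)
  have hI : 0 < I := by
    rcases Nat.eq_zero_or_pos I with h | h
    · rw [h, mul_zero] at hA
      exact absurd hA (by have := Nat.card_pos (α := A); omega)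
    · exact h
  have h6 : p ^ (a * b) ≤ (R - 1) * (k * I) + 1 :=
    tsub_le_iff_right.1 (h5.trans (Nat.mul_le_mul_left _ hA))
  have h7 : I * (2401 * (p * p)) ≤ I * (14400 * (k * (R - 1))) := by
    have h8 := hnum.trans (Nat.mul_le_mul_left 14400 h6)
    rw [show I * (14400 * (k * (R - 1))) = 14400 * ((R - 1) * (k * I)) by ring]
    omega
  have := amgm (Nat.le_of_mul_le_mul_left h7 hI)
  omega

theorem of_jobs {a p b : ℕ} (h : (a, p, b) ∈ jobs) :
    Num (mx a ^ b * t2 b) p (a * b) ∨ ∀ s i : ℕ, s < p → s ∣ p - 1 → pr a ∣ s →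
      (∃ j, 1 ≤ j ∧ i = a * a * j) → i ≤ mx a →
      49 * p + 60 ≤ 60 * ((s * (3 * i - 2) + i * b - 1) / (i * b) +
        low ((p ^ a - 1 + i * s - 1) / (i * s)) b) := by
  have := List.all_eq_true.1 check_jobs _ h
  simp only [check, Bool.or_eq_true, decide_eq_true_eq] at this
  refine this.imp id fun hall s i hs hd hpr ⟨j, hj, hij⟩ hi => ?_
  have h1 := List.all_eq_true.1 hall s (List.mem_range.2 hs)
  rw [if_pos ⟨hd, hpr⟩] at h1
  obtain ⟨j, rfl⟩ := Nat.exists_eq_add_of_le' hj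
  subst hij
  have hjm : j < mx a / (a * a) := by
    rcases Nat.eq_zero_or_pos (a * a) with h0 | h0
    · simp at h0; subst h0; simp [jobs] at h
    · exact Nat.lt_of_succ_le ((Nat.le_div_iff_mul_le h0).2 (by rw [Nat.succ_eq_add_one, mul_comm]; exact hi))
  have h2 := List.all_eq_true.1 h1 j (List.mem_range.2 hjm)
  exact of_decide_eq_true h2

theorem mem_jobs {a p b : ℕ} (hp : p.Prime) (hp11 : 11 ≤ p)
    (h : a = 2 ∧ p < 23 ∧ 2 ≤ b ∧ b ≤ 15 ∨ a = 3 ∧ p < 19 ∧ 2 ≤ b ∧ b ≤ 15 ∨ a = 3 ∧ p < 37 ∧ b = 1 ∨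
      a = 4 ∧ p < 17 ∧ b = 1) : (a, p, b) ∈ jobs := by
  rcases h with ⟨rfl, h, hb, hb'⟩ | ⟨rfl, h, hb, hb'⟩ | ⟨rfl, h, rfl⟩ | ⟨rfl, h, rfl⟩ <;>
    interval_cases p <;> norm_num at hp <;>
    simp only [jobs, List.mem_append, List.mem_flatMap, List.mem_map, List.mem_cons, List.mem_range,
      Prod.mk.injEq, List.not_mem_nil, or_false] <;>
    simp <;> (try right) <;> refine ⟨b - 2, ?_, ?_⟩ <;> omega

/-- The component group in dimension two of order `24 s` modulo scalars. -/
theorem special_two {p s k r : ℕ} (hp : 11 ≤ p) (hs : s ∣ p - 1) (hs2 : 2 ∣ s) (hk : 4 * s ≤ k)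
    (hr : p ^ 2 - 1 ≤ r * (s * 24)) : 49 * p ≤ 60 * (k + r) := by
  obtain ⟨t, ht⟩ := hs
  obtain ⟨c, rfl⟩ := hs2
  have hp' : p = 2 * c * t + 1 := by omega
  subst hp'
  have hc : 0 < c := by
    rcases Nat.eq_zero_or_pos c with h | h
    · subst h; omega
    · exact h
  have h24 : t * (2 * c * t + 2) ≤ 24 * r := by
    have e : (2 * c * t + 1) ^ 2 - 1 = 2 * c * (t * (2 * c * t + 2)) := by
      rw [Nat.sub_eq_iff_eq_add (Nat.one_le_pow _ _ (by omega))]; ring
    rw [e] at hr
    refine Nat.le_of_mul_le_mul_left (?_ : 2 * c * (t * (2 * c * t + 2)) ≤ 2 * c * (24 * r)) (by omega)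
    exact hr.trans (le_of_eq (by ring))
  rcases Nat.lt_or_ge t 10 with h | h
  · rcases Nat.lt_or_ge c 2 with hc2 | hc2
    · interval_cases c; interval_cases t <;> omega
    · interval_cases t <;> omega
  · obtain ⟨u, rfl⟩ := Nat.exists_eq_add_of_le h
    nlinarith [Nat.zero_le (c * u), Nat.zero_le (c * u * u)]

/-- The main bound. -/
theorem classes_add_orbits [Group.IsSolvable A] [FaithfulSMul A V] (hirr : Irr A V) {p n : ℕ}
    (hp : p.Prime) (hp5 : 5 ≤ p) (hn2 : 2 ≤ n) (hn : Nat.card V = p ^ n) :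
    49 * p + 60 ≤ 60 * (Nat.card (ConjClasses A) + Nat.card (MulAction.orbitRel.Quotient A V)) := by
  obtain ⟨h5, hR⟩ := orbits_mul_ge (A := A) (V := V)
  set k := Nat.card (ConjClasses A) with hk
  set R := Nat.card (MulAction.orbitRel.Quotient A V) with hRdef
  have hk1 : 1 ≤ k := Nat.card_pos
  have hp2 : p ^ 2 - 1 ≤ (R - 1) * Nat.card A := by
    refine le_trans ?_ h5
    rw [hn]
    exact Nat.sub_le_sub_right (Nat.pow_le_pow_right hp.pos hn2) 1
  have hR2 : 2 ≤ R := by
    by_contra h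
    rw [show R - 1 = 0 by omega, zero_mul] at hp2
    have := Nat.pow_le_pow_left hp5 2
    omega
  rcases Nat.lt_or_ge p 11 with hlt | hp11
  · by_cases hk4 : k ≤ 4
    · have := order_le_of_classes _ A le_rfl hk4
      rw [← hk] at this
      have h6 := hp2.trans (Nat.mul_le_mul_left _ this)
      interval_cases p <;> norm_num at hp <;> interval_cases k <;> simp [smallBound] at h6 <;> omega
    · interval_cases p <;> norm_num at hp <;> omega
  haveI : Nontrivial V := Finite.one_lt_card_iff_nontrivial.1 (by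
    rw [hn]; exact Nat.one_lt_pow (by omega) hp.one_lt)
  obtain ⟨U, hU, hprim⟩ := exists_prim (A := A) (V := V) hirr
  haveI := ind_nontrivial hU
  set b := (stab A U).index with hb
  have hb1 : 1 ≤ b := Nat.one_le_iff_ne_zero.2 Subgroup.index_ne_zero_of_finite
  obtain ⟨a, -, ha⟩ : ∃ a ≤ n, Nat.card U = p ^ a := (Nat.dvd_prime_pow hp).1
    (hn ▸ hU.2 ▸ dvd_pow_self _ (by omega))
  have hab : a * b = n := Nat.pow_right_injective hp.two_le (by
    simp only; rw [pow_mul, ← ha, hU.2, hn])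
  have hn' : Nat.card V = p ^ (a * b) := by rw [hab, hn]
  rcases component (ind_irr hirr hU) hprim hp ha with hG | hS
  · obtain ⟨Z, hZn, hZc, hZ⟩ := hG
    haveI := hZn
    haveI := hZc
    exact of_abelian hirr hU hb.symm hn' Z hZ (num_generic psi rfl rfl rfl rfl
      (fun a h => by simp [psi, show a ≠ 1 by omega, show a ≠ 2 by omega, show a ≠ 3 by omega,
        show a ≠ 4 by omega]) hp11 hb1 (by omega))
  obtain ⟨ha234, Z, hZn, hZc, hZcen, hs, hspr, ⟨j, hj1, hj⟩, hmx, hcases⟩ := hS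
  haveI := hZn
  haveI := hZc
  set s := Nat.card Z with hsdef
  set i := Z.index with hidef
  by_cases hnum : Num (mx a ^ b * t2 b) p (a * b)
  · refine of_abelian hirr hU hb.symm hn' Z ?_ hnum
    rw [show (centralizer (Z : Set (Ind A U))).index = 1 from Subgroup.index_eq_one.2
      (centralizer_eq_top_iff_subset.2 hZcen), mul_one]
    exact hmx
  have hs0 : 0 < s := Nat.card_pos
  have hi0 : 0 < i := Nat.pos_of_ne_zero Subgroup.index_ne_zero_of_finite
  have hkK : Nat.card (ConjClasses (Ind A U)) ≤ b * k := classes_ind_le U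
  obtain ⟨hoK, hRK1⟩ := orbits_mul_ge (A := Ind A U) (V := U)
  have hmul := orbits_ge hirr hU
  rw [← hb, ← hRdef] at hmul
  set RK := Nat.card (MulAction.orbitRel.Quotient (Ind A U) U)
  rw [ha, ← Z.card_mul_index, ← hsdef, ← hidef] at hoK
  have hcb : s * (3 * i - 2) ≤ i * (b * k) :=
    (central_bound Z hZcen).trans (Nat.mul_le_mul_left _ hkK)
  have ha2 : 2 ≤ a := by rcases ha234 with rfl | rfl | rfl <;> norm_num
  have hpa : p ^ 2 ≤ p ^ a := Nat.pow_le_pow_right hp.pos ha2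
  have h121 : 121 ≤ p ^ 2 := le_trans (by norm_num) (Nat.pow_le_pow_left hp11 2)
  have hRK2 : 2 ≤ RK := by
    by_contra h
    rw [show RK - 1 = 0 by omega, zero_mul] at hoK
    omega
  by_cases hab1 : a = 2 ∧ b = 1
  · obtain ⟨rfl, hb1'⟩ := hab1
    rw [hb1', Nat.multichoose_one_right] at hmul
    rw [hb1', one_mul] at hcb hkK
    suffices 49 * p ≤ 60 * (k + (RK - 1)) by omega
    rcases hcases rfl with h16 | ⟨h24, h4s⟩
    · apply amgm
      have h1 : (s * (3 * i - 2)) * (p ^ 2 - 1) ≤ (i * k) * ((RK - 1) * (s * i)) := Nat.mul_le_mul hcb hoK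
      have h2 : (3 * i - 2) * (p ^ 2 - 1) ≤ i * i * (k * (RK - 1)) := by
        refine Nat.le_of_mul_le_mul_left ?_ hs0
        exact (le_of_eq (by ring)).trans (h1.trans (le_of_eq (by ring)))
      have hjb : j ≤ 4 := by omega
      rw [hj, show (p ^ 2 : ℕ) = p * p from pow_two p] at h2
      rw [show (p ^ 2 : ℕ) = p * p from pow_two p] at h121
      interval_cases j <;> norm_num at h2 ⊢ <;> omega
    · rw [h24] at hoK
      exact special_two hp11 hs hspr (h4s.trans hkK) hoK
  have hc1 : (s * (3 * i - 2) + i * b - 1) / (i * b) ≤ k := by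
    have hd : 0 < i * b := Nat.mul_pos hi0 hb1
    refine Nat.le_of_lt_succ ((Nat.div_lt_iff_lt_mul hd).2 ?_)
    rw [Nat.succ_eq_add_one, add_mul, one_mul]
    have : s * (3 * i - 2) ≤ k * (i * b) := hcb.trans (le_of_eq (by ring))
    omega
  have hc2 : low ((p ^ a - 1 + i * s - 1) / (i * s)) b ≤ R := by
    have hd : 0 < i * s := Nat.mul_pos hi0 hs0
    have hr1 : 1 ≤ (p ^ a - 1 + i * s - 1) / (i * s) := (Nat.one_le_div_iff hd).2 (by omega)
    have hr2 : (p ^ a - 1 + i * s - 1) / (i * s) ≤ RK - 1 := by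
      refine Nat.le_of_lt_succ ((Nat.div_lt_iff_lt_mul hd).2 ?_)
      rw [Nat.succ_eq_add_one, add_mul, one_mul]
      have : p ^ a - 1 ≤ (RK - 1) * (i * s) := hoK.trans (le_of_eq (by ring))
      omega
    exact (low_le hr1 hb1).trans ((multichoose_mono_left (by omega) b).trans hmul)
  have hsp : s < p := lt_of_le_of_lt (Nat.le_of_dvd (by omega) hs) (by omega)
  have hnb : ¬ (a = 2 ∧ 23 ≤ p ∧ 2 ≤ b ∨ a = 3 ∧ (19 ≤ p ∧ 2 ≤ b ∨ 37 ≤ p ∧ b = 1) ∨
      a = 4 ∧ (11 ≤ p ∧ 2 ≤ b ∨ 17 ≤ p ∧ b = 1)) := by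
    intro h
    apply hnum
    apply num_special
    rcases h with ⟨rfl, h⟩ | ⟨rfl, h⟩ | ⟨rfl, h⟩
    · exact Or.inl ⟨rfl, rfl, h⟩
    · exact Or.inr (Or.inl ⟨rfl, rfl, h⟩)
    · exact Or.inr (Or.inr ⟨rfl, rfl, h⟩)
  by_cases hb16 : 16 ≤ b
  · have h1 : b + 1 ≤ R := by
      have := (multichoose_mono_left hRK2 b).trans hmul
      rwa [Nat.multichoose_two] at this
    have hne : p ≠ 20 ∧ p ≠ 21 ∧ p ≠ 22 := by refine ⟨?_, ?_, ?_⟩ <;> rintro rfl <;> norm_num at hp
    rcases ha234 with rfl | rfl | rfl <;> omega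
  have hjobs : (a, p, b) ∈ jobs := mem_jobs hp hp11 (by rcases ha234 with rfl | rfl | rfl <;> omega)
  rcases of_jobs hjobs with h | h
  · exact absurd h hnum
  · exact (h s i hsp hs hspr ⟨j, hj1, hj⟩ hmx).trans (Nat.mul_le_mul_left _ (Nat.add_le_add hc1 hc2))

end Cfsg.Lib.SolvLinear
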