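import Cfsg.Agent.SolvLinear.Blocks
import Cfsg.Agent.SolvLinear.Field

/-!
The order of a completely reducible solvable group is at most one eighth of the cube of the order of the
module, with sharper values for modules of order `2`, `4`, `8`, `16`.
-/

set_option autoImplicit false
set_option linter.style.haveILetI false
set_option linter.unusedSectionVars false

namespace Cfsg.Lib.SolvLinear

open Cfsg.Lib.OddBase
open scoped Pointwise

universe u

/-- The bound. -/
def Bnd (N a : ℕ) : Prop :=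
  8 * a ≤ N ^ 3 ∧ (N = 2 → a ≤ 1) ∧ (N = 4 → a ≤ 6) ∧ (N = 8 → a ≤ 21) ∧ (N = 16 → a ≤ 72)

theorem bnd_mul {u w a b : ℕ} (hu : 2 ≤ u) (hw : 2 ≤ w) (ha : Bnd u a) (hb : Bnd w b) : Bnd (u * w) (a * b) := by
  obtain ⟨a0, a2, a4, a8, a16⟩ := ha
  obtain ⟨b0, b2, b4, b8, b16⟩ := hb
  refine ⟨?_, fun h => ?_, fun h => ?_, fun h => ?_, fun h => ?_⟩
  · have := Nat.mul_le_mul a0 b0
    rw [← mul_pow] at this
    calc 8 * (a * b) ≤ (8 * a) * (8 * b) := by nlinarith [Nat.zero_le (a * b)]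
      _ ≤ _ := this
  · have := Nat.mul_le_mul hu hw; omega
  · have hu4 : u ≤ 2 := by have := Nat.mul_le_mul_left u hw; omega
    have e : u = 2 ∧ w = 2 := by interval_cases u; omega
    have := Nat.mul_le_mul (a2 e.1) (b2 e.2); omega
  · have hu4 : u ≤ 4 := by have := Nat.mul_le_mul_left u hw; omega
    have e : (u = 2 ∧ w = 4) ∨ (u = 4 ∧ w = 2) := by interval_cases u <;> omega
    rcases e with ⟨e1, e2⟩ | ⟨e1, e2⟩
    · have := Nat.mul_le_mul (a2 e1) (b4 e2); omega
    · have := Nat.mul_le_mul (a4 e1) (b2 e2); omega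
  · have hu8 : u ≤ 8 := by have := Nat.mul_le_mul_left u hw; omega
    have e : (u = 2 ∧ w = 8) ∨ (u = 4 ∧ w = 4) ∨ (u = 8 ∧ w = 2) := by interval_cases u <;> omega
    rcases e with ⟨e1, e2⟩ | ⟨e1, e2⟩ | ⟨e1, e2⟩
    · have := Nat.mul_le_mul (a2 e1) (b8 e2); omega
    · have := Nat.mul_le_mul (a4 e1) (b4 e2); omega
    · have := Nat.mul_le_mul (a8 e1) (b2 e2); omega

/-- Blocks. -/
theorem bnd_blocks {u b k τ : ℕ} (hu : 2 ≤ u) (hb : 2 ≤ b) (hk : Bnd u k) (hτ : τ ^ 3 ≤ 24 ^ (b - 1))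
    (hτ' : τ ≤ b.factorial) : Bnd (u ^ b) (τ * k ^ b) := by
  obtain ⟨a0, a2, a4, a8, a16⟩ := hk
  have hτ8 : τ ≤ 8 ^ (b - 1) := by
    apply (Nat.pow_le_pow_iff_left (show (3 : ℕ) ≠ 0 by norm_num)).1
    refine hτ.trans ?_
    rw [← pow_mul, mul_comm, pow_mul]
    exact Nat.pow_le_pow_left (by norm_num) _
  obtain ⟨c, rfl⟩ := Nat.exists_eq_add_of_le hb
  have hsmall : ∀ n : ℕ, u ^ (2 + c) = 2 ^ n → n ≤ 4 → 2 ^ n ≤ 16 := fun n _ h => by
    calc 2 ^ n ≤ 2 ^ 4 := Nat.pow_le_pow_right (by norm_num) h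
      _ = 16 := by norm_num
  have hbound : ∀ N, u ^ (2 + c) = N → N ≤ 16 → u ≤ 4 ∧ c ≤ 2 := by
    intro N h hN
    constructor
    · by_contra hu4
      have h1 : 5 ^ 2 ≤ u ^ (2 + c) := (Nat.pow_le_pow_left (by omega) 2).trans
        (Nat.pow_le_pow_right (by omega) (by omega))
      omega
    · by_contra hc
      have h1 : 2 ^ 5 ≤ u ^ (2 + c) := (Nat.pow_le_pow_right (by norm_num) (by omega)).trans
        (Nat.pow_le_pow_left hu _)
      omega
  have hsm : ∀ N, u ^ (2 + c) = N → N ≤ 16 →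
      (u = 2 → τ * k ^ (2 + c) ≤ (2 + c).factorial) ∧ (u = 4 → τ * k ^ (2 + c) ≤ τ * 6 ^ (2 + c)) := by
    intro N _ _
    constructor
    · intro h
      have := Nat.mul_le_mul hτ' (Nat.pow_le_pow_left (a2 h) (2 + c))
      simpa using this
    · exact fun h => Nat.mul_le_mul_left _ (Nat.pow_le_pow_left (a4 h) _)
  refine ⟨?_, ?_, ?_, ?_, ?_⟩
  · calc 8 * (τ * k ^ (2 + c)) ≤ 8 * (8 ^ (2 + c - 1) * k ^ (2 + c)) :=
          Nat.mul_le_mul_left _ (Nat.mul_le_mul_right _ hτ8)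
      _ = (8 * k) ^ (2 + c) := by
          rw [show 2 + c - 1 = 1 + c by omega, mul_pow, ← mul_assoc, ← pow_succ', show 1 + c + 1 = 2 + c by omega]
      _ ≤ (u ^ 3) ^ (2 + c) := Nat.pow_le_pow_left a0 _
      _ = (u ^ (2 + c)) ^ 3 := by rw [← pow_mul, ← pow_mul, mul_comm]
  all_goals
    intro h
    obtain ⟨hu4, hc2⟩ := hbound _ h (by norm_num)
    obtain ⟨s2, s4⟩ := hsm _ h (by norm_num)
    interval_cases u <;> interval_cases c <;> norm_num at h <;>
      norm_num [Nat.factorial] at hτ' s2 s4 ⊢ <;> nlinarith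

theorem sq_lt_three_pow : ∀ r : ℕ, 1 ≤ r → r * r < 3 ^ r
  | 0, h => absurd h (by norm_num)
  | 1, _ => by norm_num
  | 2, _ => by norm_num
  | r + 3, _ => by
    have ih := sq_lt_three_pow (r + 2) (by omega)
    calc (r + 3) * (r + 3) ≤ 3 * ((r + 2) * (r + 2)) := by nlinarith
      _ < 3 * 3 ^ (r + 2) := by omega
      _ = 3 ^ (r + 3) := by rw [← pow_succ']

theorem two_m_le {p m : ℕ} (hp : 2 ≤ p) (hm : m ≠ 0) : 2 * m ≤ p ^ m := by
  obtain ⟨k, rfl⟩ := Nat.exists_eq_succ_of_ne_zero hm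
  calc 2 * (k + 1) ≤ 2 * 2 ^ k := by
        have := k.lt_two_pow_self; omega
    _ = 2 ^ (k + 1) := by rw [← pow_succ']
    _ ≤ p ^ (k + 1) := Nat.pow_le_pow_left hp _

/-- The primitive case, no socle. -/
theorem bnd_semilinear {p m d z δ : ℕ} (hp : 2 ≤ p) (hm : m ≠ 0) (hd : d ≠ 0) (hz : z ≤ p ^ m - 1)
    (hδ : δ ≤ m) : Bnd (p ^ (m * d)) (δ * z) := by
  have hle := Nat.mul_le_mul hδ hz
  have hQ : 2 ≤ p ^ m := hp.trans (Nat.le_self_pow hm p)
  refine ⟨?_, ?_, ?_, ?_, ?_⟩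
  · have h1 := two_m_le hp hm
    obtain ⟨Q, hQ'⟩ : ∃ Q, p ^ m = Q + 1 := ⟨p ^ m - 1, by omega⟩
    rw [hQ', Nat.add_sub_cancel] at hle
    calc 8 * (δ * z) ≤ 8 * (m * Q) := Nat.mul_le_mul_left _ hle
      _ ≤ 4 * ((Q + 1) * Q) := by nlinarith
      _ ≤ (Q + 1) ^ 3 := by
          obtain ⟨R, rfl⟩ : ∃ R, Q = R + 1 := ⟨Q - 1, by omega⟩
          nlinarith [Nat.zero_le (R * R * (R + 2))]
      _ ≤ (p ^ (m * d)) ^ 3 := Nat.pow_le_pow_left (by
          rw [← hQ']; exact Nat.pow_le_pow_right (by omega) (Nat.le_mul_of_pos_right _ (by omega))) 3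
  all_goals
    intro h
    have hmd : p ^ m ≤ p ^ (m * d) := Nat.pow_le_pow_right (by omega) (Nat.le_mul_of_pos_right _ (by omega))
    have h2m : 2 ^ m ≤ p ^ m := Nat.pow_le_pow_left hp _
    have hm4 : m ≤ 4 := by
      by_contra hc
      have : 2 ^ 5 ≤ 2 ^ m := Nat.pow_le_pow_right (by norm_num) (by omega)
      omega
    interval_cases m <;> norm_num at h2m <;> omega

theorem eighth_le (r : ℕ) (h3 : 4 ≤ r) : r ^ 8 * 9 ≤ 2 * 3 ^ (3 * r) := by
  induction r, h3 using Nat.le_induction with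
  | base => norm_num
  | succ r hr ih =>
    have h1 : 3 * (r + 1) ≤ 4 * r := by omega
    have h2 := Nat.pow_le_pow_left h1 8
    rw [mul_pow, mul_pow] at h2
    calc (r + 1) ^ 8 * 9 ≤ (r ^ 8 * 10) * 9 := by
          norm_num at h2 ⊢; omega
      _ ≤ (r ^ 8 * 9) * 27 := by nlinarith [Nat.zero_le (r ^ 8)]
      _ ≤ (2 * 3 ^ (3 * r)) * 27 := Nat.mul_le_mul_right _ ih
      _ = 2 * 3 ^ (3 * (r + 1)) := by rw [mul_add, pow_add]; norm_num; ring

/-- The arithmetic of the socle. -/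
theorem socle_arith {Q r Y m : ℕ} (hQ : 3 ≤ Q) (hr : 2 ≤ r) (hm : 2 * m ≤ Q) (hY : 8 * Y ≤ (r * r) ^ 3)
    (hY2 : r = 2 → Y ≤ 6) : 8 * (m * ((Q - 1) * (r * r * Y))) ≤ (Q ^ r) ^ 3 := by
  obtain ⟨Q', rfl⟩ : ∃ Q', Q = Q' + 1 := ⟨Q - 1, by omega⟩
  rw [Nat.add_sub_cancel]
  by_cases hr3 : r = 3
  · subst hr3
    have hY' : Y ≤ 91 := by omega
    calc 8 * (m * (Q' * (3 * 3 * Y))) ≤ 8 * (m * (Q' * (3 * 3 * 91))) := by gcongr
      _ ≤ 3276 * ((Q' + 1) * Q') := by nlinarith
      _ ≤ ((Q' + 1) ^ 3) ^ 3 := by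
          rcases Nat.lt_or_ge Q' 3 with h | h
          · interval_cases Q'
            all_goals first | omega | norm_num
          · have h4 : 4 ^ 7 ≤ (Q' + 1) ^ 7 := Nat.pow_le_pow_left (by omega) 7
            calc 3276 * ((Q' + 1) * Q') ≤ (Q' + 1) ^ 7 * ((Q' + 1) * (Q' + 1)) :=
                  Nat.mul_le_mul (by norm_num at h4 ⊢; omega) (by nlinarith)
              _ = _ := by ring
  rcases Nat.lt_or_ge r 3 with h3 | h3
  · have h2 : r = 2 := by omega
    subst h2
    have := hY2 rfl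
    calc 8 * (m * (Q' * (2 * 2 * Y))) ≤ 8 * (m * (Q' * (2 * 2 * 6))) := by gcongr
      _ ≤ 96 * ((Q' + 1) * Q') := by nlinarith
      _ ≤ ((Q' + 1) ^ 2) ^ 3 := by
          rcases Nat.lt_or_ge Q' 3 with h | h
          · interval_cases Q'
            all_goals first | omega | norm_num
          · have h4 : 4 ^ 4 ≤ (Q' + 1) ^ 4 := Nat.pow_le_pow_left (by omega) 4
            calc 96 * ((Q' + 1) * Q') ≤ (Q' + 1) ^ 4 * ((Q' + 1) * (Q' + 1)) :=
                  Nat.mul_le_mul (by norm_num at h4 ⊢; omega) (by nlinarith)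
              _ = _ := by ring
  · have hr8 : r ^ 8 * 9 ≤ 2 * 3 ^ (3 * r) := eighth_le r (by omega)
    have hYr : 8 * (r * r * Y) ≤ r ^ 8 := by
      calc 8 * (r * r * Y) = r * r * (8 * Y) := by ring
        _ ≤ r * r * (r * r) ^ 3 := Nat.mul_le_mul_left _ hY
        _ = r ^ 8 := by ring
    have hpow : 3 ^ (3 * r - 2) * ((Q' + 1) * (Q' + 1)) ≤ ((Q' + 1) ^ r) ^ 3 := by
      calc 3 ^ (3 * r - 2) * ((Q' + 1) * (Q' + 1)) ≤ (Q' + 1) ^ (3 * r - 2) * ((Q' + 1) * (Q' + 1)) :=
            Nat.mul_le_mul_right _ (Nat.pow_le_pow_left hQ _)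
        _ = ((Q' + 1) ^ r) ^ 3 := by
            rw [← pow_two, ← pow_add, ← pow_mul]; congr 1; omega
    have h9 : 3 ^ (3 * r) = 3 ^ (3 * r - 2) * 9 := by
      rw [show (9 : ℕ) = 3 ^ 2 by norm_num, ← pow_add]; congr 1; omega
    calc 8 * (m * (Q' * (r * r * Y))) = m * Q' * (8 * (r * r * Y)) := by ring
      _ ≤ m * Q' * r ^ 8 := Nat.mul_le_mul_left _ hYr
      _ ≤ _ := by
          refine le_trans ?_ hpow
          rw [h9] at hr8
          calc m * Q' * r ^ 8 ≤ m * Q' * (2 * 3 ^ (3 * r - 2)) := Nat.mul_le_mul_left _ (by omega)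
            _ = 3 ^ (3 * r - 2) * (2 * m * Q') := by ring
            _ ≤ _ := Nat.mul_le_mul_left _ (Nat.mul_le_mul hm (Nat.le_succ Q'))

variable {A V : Type u} [Group A] [Finite A] [AddCommGroup V] [Finite V] [DistribMulAction A V]

/-- The image of the action on an invariant subgroup. -/
theorem exists_restrict (hcr : CR A V) [Group.IsSolvable A] (T : AddSubgroup V)
    (hT : ∀ a : A, ∀ v ∈ T, a • v ∈ T) :
    ∃ (X : Type u) (_ : Group X) (_ : Finite X) (_ : Group.IsSolvable X) (_ : DistribMulAction X T)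
      (f : A →* X), FaithfulSMul X T ∧ CR X T ∧ ∀ (a : A) (t : T), ((f a • t : T) : V) = a • (t : V) := by
  letI : DistribMulAction A T :=
    { smul := fun a x => ⟨a • (x : V), hT a x x.2⟩
      one_smul := fun x => Subtype.ext (one_smul A (x : V))
      mul_smul := fun a b x => Subtype.ext (mul_smul a b (x : V))
      smul_zero := fun a => Subtype.ext (smul_zero a)
      smul_add := fun a x y => Subtype.ext (smul_add a (x : V) y) }
  let π : A →* (AddMonoid.End T)ˣ := (DistribMulAction.toAddMonoidEnd A T).toHomUnits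
  letI : DistribMulAction π.range T :=
    { smul := fun k x => ((k : (AddMonoid.End T)ˣ) : AddMonoid.End T) x
      one_smul := fun _ => rfl
      mul_smul := fun _ _ _ => rfl
      smul_zero := fun k => map_zero ((k : (AddMonoid.End T)ˣ) : AddMonoid.End T)
      smul_add := fun k => map_add ((k : (AddMonoid.End T)ˣ) : AddMonoid.End T) }
  refine ⟨π.range, inferInstance, Finite.of_surjective _ π.rangeRestrict_surjective,
    Group.isSolvable_of_surjective π.rangeRestrict_surjective, inferInstance, π.rangeRestrict,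
    ⟨fun {_ _} h => Subtype.ext (Units.ext (AddMonoidHom.ext h))⟩, ?_, fun a t => rfl⟩
  intro S hS
  obtain ⟨R, hR, hSR, hSRs⟩ := hcr (S.map T.subtype) (by
    rintro a _ ⟨x, hx, rfl⟩
    exact ⟨_, hS (π.rangeRestrict a) x hx, rfl⟩)
  refine ⟨R.comap T.subtype, ?_, ?_, ?_⟩
  · rintro ⟨_, a, rfl⟩ x hx
    exact hR a x hx
  · rw [eq_bot_iff]
    rintro x ⟨hxS, hxR⟩
    have h2 : (x : V) ∈ S.map T.subtype ⊓ R :=
      AddSubgroup.mem_inf.2 ⟨⟨x, hxS, rfl⟩, hxR⟩
    rw [hSR] at h2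
    exact AddSubgroup.mem_bot.2 (Subtype.ext (AddSubgroup.mem_bot.1 h2))
  · rw [eq_top_iff]
    intro x _
    obtain ⟨_, ⟨s, hs, rfl⟩, r, hr, hsr⟩ := AddSubgroup.mem_sup.1
      (show (x : V) ∈ S.map T.subtype ⊔ R from hSRs ▸ AddSubgroup.mem_top _)
    have hrT : r ∈ T := by
      have : r = (x : V) - s := by rw [← hsr]; exact (add_sub_cancel_left (s : V) r).symm
      rw [this]
      exact sub_mem x.2 s.2
    exact AddSubgroup.mem_sup.2 ⟨s, hs, ⟨r, hrT⟩, hr, Subtype.ext hsr⟩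

/-- The bound for every module. -/
theorem card_solvable_cr_le : ∀ (n : ℕ) (A V : Type u) [Group A] [Finite A] [Group.IsSolvable A]
    [AddCommGroup V] [Finite V] [Nontrivial V] [DistribMulAction A V] [FaithfulSMul A V],
    Nat.card V = n → CR A V → Bnd n (Nat.card A) := by
  intro n
  induction n using Nat.strong_induction_on with
  | _ n ih =>
  intro A V _ _ _ _ _ _ _ _ hn hcr
  classical
  have hlt : ∀ T : AddSubgroup V, T ≠ ⊤ → Nat.card T < Nat.card V := fun T hT =>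
    lt_of_le_of_ne (Nat.card_le_card_of_injective _ Subtype.val_injective)
      fun he => hT (AddSubgroup.eq_top_of_card_eq T he)
  by_cases hirr : Irr A V
  swap
  · simp only [Irr, not_forall, not_or] at hirr
    obtain ⟨U, hU, hU0, hU1⟩ := hirr
    obtain ⟨W, hW, hUW, hsup⟩ := hcr U hU
    have hW0 : W ≠ ⊥ := fun h => hU1 (by rw [h, sup_bot_eq] at hsup; exact hsup)
    have hW1 : W ≠ ⊤ := fun h => hU0 (by rw [h, inf_top_eq] at hUW; exact hUW)
    obtain ⟨X, _, _, _, _, f, hfX, hcX, hf⟩ := exists_restrict hcr U hU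
    obtain ⟨X', _, _, _, _, f', hfX', hcX', hf'⟩ := exists_restrict hcr W hW
    haveI := hfX
    haveI := hfX'
    haveI : Nontrivial U := (AddSubgroup.nontrivial_iff_ne_bot U).2 hU0
    haveI : Nontrivial W := (AddSubgroup.nontrivial_iff_ne_bot W).2 hW0
    have b1 := ih _ (hn ▸ hlt U hU1) X U rfl hcX
    have b2 := ih _ (hn ▸ hlt W hW1) X' W rfl hcX'
    have hadd : ∀ v : V, ∃ (x : U) (y : W), (x : V) + y = v := by
      intro v
      obtain ⟨x, hx, y, hy, h⟩ := AddSubgroup.mem_sup.1 (show v ∈ U ⊔ W from hsup ▸ AddSubgroup.mem_top v)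
      exact ⟨⟨x, hx⟩, ⟨y, hy⟩, h⟩
    have hcard : Nat.card U * Nat.card W = n := by
      rw [← hn, ← Nat.card_prod]
      refine Nat.card_eq_of_bijective (fun p => (p.1 : V) + p.2) ⟨?_, fun v => ?_⟩
      · rintro ⟨x, y⟩ ⟨x', y'⟩ h
        simp only at h
        have h1 : (x : V) - x' = (y' : V) - y := by
          rw [sub_eq_sub_iff_add_eq_add, h, add_comm]
        have h2 : (x : V) - x' ∈ U ⊓ W :=
          AddSubgroup.mem_inf.2 ⟨sub_mem x.2 x'.2, h1 ▸ sub_mem y'.2 y.2⟩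
        rw [hUW, AddSubgroup.mem_bot] at h2
        rw [h2, eq_comm, sub_eq_zero] at h1
        exact Prod.ext (Subtype.ext (sub_eq_zero.1 h2)) (Subtype.ext h1.symm)
      · obtain ⟨x, y, h⟩ := hadd v
        exact ⟨(x, y), h⟩
    have hA : Nat.card A ≤ Nat.card X * Nat.card X' := by
      rw [← Nat.card_prod]
      refine Nat.card_le_card_of_injective (fun a => (f a, f' a)) fun a b h => eq_of_smul_eq_smul fun v : V => ?_
      obtain ⟨x, y, rfl⟩ := hadd v
      rw [smul_add, smul_add, ← hf, ← hf, ← hf', ← hf', (Prod.mk.inj h).1, (Prod.mk.inj h).2]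
    have := bnd_mul (Finite.one_lt_card (α := U)) (Finite.one_lt_card (α := W)) b1 b2
    rw [hcard] at this
    obtain ⟨c0, c2, c4, c8, c16⟩ := this
    exact ⟨(Nat.mul_le_mul_left 8 hA).trans c0, fun h => hA.trans (c2 h), fun h => hA.trans (c4 h),
      fun h => hA.trans (c8 h), fun h => hA.trans (c16 h)⟩
  by_cases hsys : ∃ U : AddSubgroup V, Sys A U ∧ U ≠ ⊤
  · obtain ⟨U, hU, hUtop⟩ := hsys
    haveI := ind_nontrivial hU
    have hb : 2 ≤ (stab A U).index := by
      by_contra hc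
      have h1 : (stab A U).index = 1 := by
        have : (stab A U).index ≠ 0 := Subgroup.index_ne_zero_of_finite
        omega
      have h2 := hU.2
      rw [h1, pow_one] at h2
      exact absurd h2 (hlt U hUtop).ne
    have bK := ih _ (hn ▸ hlt U hUtop) (Ind A U) U rfl (cr_of_irr (ind_irr hirr hU))
    have hcore := index_lift_core_le U (⊥ : Subgroup (Ind A U))
    have htriv : (lift U (⊥ : Subgroup (Ind A U))).normalCore = ⊥ := by
      refine (Subgroup.eq_bot_iff_forall _).2 fun g hg => eq_of_smul_eq_smul fun v : V => ?_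
      haveI := Fintype.ofFinite (A ⧸ stab A U)
      obtain ⟨fv, rfl⟩ := (sumMap_bijective hirr hU).2 v
      rw [one_smul]
      change g • (∑ q : A ⧸ stab A U, (q.out : A) • (fv q : V)) = _
      rw [Finset.smul_sum]
      refine Finset.sum_congr rfl fun q _ => ?_
      obtain ⟨g', hg', hge⟩ : (q.out : A)⁻¹ * g * (q.out : A)⁻¹⁻¹ ∈ lift U ⊥ := hg _
      rw [inv_inv] at hge
      have hk : (compHom A U).rangeRestrict g' = 1 := hg'
      have h3 := ind_smul U g' (fv q)
      rw [hk, one_smul] at h3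
      have hge' : (g' : A) = (q.out : A)⁻¹ * g * q.out := hge
      rw [hge'] at h3
      rw [← mul_smul]
      calc (g * q.out) • (fv q : V) = (q.out : A) • (((q.out : A)⁻¹ * g * q.out) • (fv q : V)) := by
            rw [← mul_smul]; congr 1; group
        _ = _ := by rw [← h3]
    rw [htriv, Subgroup.index_bot, Subgroup.index_bot] at hcore
    have hb' := bnd_blocks (Finite.one_lt_card (α := U)) hb bK (dixon _ A _ rfl) (index_core_le_factorial _)
    rw [hU.2, hn] at hb'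
    obtain ⟨c0, c2, c4, c8, c16⟩ := hb'
    exact ⟨(Nat.mul_le_mul_left 8 hcore).trans c0, fun h => hcore.trans (c2 h), fun h => hcore.trans (c4 h),
      fun h => hcore.trans (c8 h), fun h => hcore.trans (c16 h)⟩
  push Not at hsys
  obtain ⟨Z, hZn, hZc, hmax⟩ := exists_maxAbelian A
  haveI := hZn
  haveI := hZc
  have hidem : ∀ e ∈ alg A V Z, e * e = e → e = 0 ∨ e = 1 := by
    intro e he hee
    by_contra hc
    push Not at hc
    obtain ⟨U, hU, hUtop, -⟩ := sys_of_idem hirr Z e he hee hc.1 hc.2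
    exact hUtop (hsys U hU)
  obtain ⟨p, m, d, K, _, ι, hp, hm, hd, hV, hι, hzdvd, hδ, hrd, -⟩ := field_data hirr hmax hidem
  set C := Subgroup.centralizer (Z : Set A)
  have hQ2 : 2 ≤ p ^ m := hp.two_le.trans (Nat.le_self_pow hm p)
  have hz : Nat.card Z ≤ p ^ m - 1 := Nat.le_of_dvd (by omega) hzdvd
  have hA : Nat.card A = C.index * Nat.card C := by rw [mul_comm, C.card_mul_index]
  rw [← hn, hV]
  by_cases hne : C ≤ Z
  · have hCle : Nat.card C ≤ Nat.card Z := Nat.card_le_card_of_injective _ (Subgroup.inclusion_injective hne)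
    have hb := bnd_semilinear (p := p) (d := d) hp.two_le hm hd (hCle.trans hz) hδ
    rwa [← hA] at hb
  · set L := socle Z C
    obtain ⟨r, hr⟩ := socle_index_square hι hmax hne
    have hZL : Z < L := exists_socle hne
    have hr2 : 2 ≤ r := by
      rcases r with _ | _ | r
      · exact absurd (show Z.relIndex L = 0 by rw [hr]) Subgroup.FiniteIndex.index_ne_zero
      · exact absurd (Subgroup.relIndex_eq_one.1 (show Z.relIndex L = 1 by rw [hr])) (not_le_of_gt hZL)
      · omega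
    have hrd' : r ≤ d := by
      have := hrd hne; rw [hr] at this; exact Nat.mul_self_le_mul_self_iff.1 this
    obtain ⟨s, hs, hsr⟩ := Nat.exists_prime_and_dvd (show r ≠ 1 by omega)
    have hsQ : s ∣ p ^ m - 1 :=
      (prime_dvd_card hι hmax hne s hs (hr ▸ hsr.mul_right r)).trans hzdvd
    have hQ3 : 3 ≤ p ^ m := by
      have := Nat.le_of_dvd (by omega) hsQ
      have := hs.two_le
      omega
    obtain ⟨W, X, _, _, _, _, _, _, hfW, hcW, hWc, hYX, -⟩ := socle_module hι hmax hne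
    haveI := hfW
    rw [hr] at hWc
    haveI : Nontrivial W := Finite.one_lt_card_iff_nontrivial.1 (by rw [hWc]; nlinarith)
    have hWlt : r * r < n := by
      rw [← hn, hV, pow_mul]
      calc r * r < 3 ^ r := sq_lt_three_pow r (by omega)
        _ ≤ (p ^ m) ^ d := (Nat.pow_le_pow_left hQ3 r).trans (Nat.pow_le_pow_right (by omega) hrd')
    have bX := ih _ hWlt X W hWc hcW
    set Y := L.relIndex C
    have hY : 8 * Y ≤ (r * r) ^ 3 := (Nat.mul_le_mul_left 8 hYX).trans bX.1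
    have hY2 : r = 2 → Y ≤ 6 := fun h => hYX.trans (bX.2.2.1 (by rw [h]))
    have hCcard : Nat.card C = Nat.card Z * (r * r * Y) := by
      rw [← hr, Subgroup.relIndex_mul_relIndex Z L C hZL.le (socle_le Z C), ← Subgroup.relIndex_bot_left,
        ← Subgroup.relIndex_bot_left, Subgroup.relIndex_mul_relIndex _ _ _ bot_le (hZL.le.trans (socle_le Z C))]
    have hbig : 8 * Nat.card A ≤ ((p ^ m) ^ r) ^ 3 := by
      rw [hA, hCcard]
      refine le_trans ?_ (socle_arith hQ3 hr2 (two_m_le hp.two_le hm) hY hY2)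
      gcongr
    have hfin : 8 * Nat.card A ≤ (p ^ (m * d)) ^ 3 := hbig.trans (Nat.pow_le_pow_left (by
      rw [pow_mul]; exact Nat.pow_le_pow_right (by omega) hrd') 3)
    have hno : ∀ j : ℕ, p ^ (m * d) = 2 ^ j → j ≤ 4 → False := by
      intro j hj hj4
      have hp2 : p = 2 := by
        have hdv : p ∣ 2 ^ j := hj ▸ dvd_pow_self p (Nat.mul_ne_zero hm hd)
        exact (Nat.prime_dvd_prime_iff_eq hp Nat.prime_two).1 (hp.dvd_of_dvd_pow hdv)
      subst hp2
      have he := Nat.pow_right_injective le_rfl hj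
      have hs3 : 3 ≤ s := by
        rcases hs.eq_two_or_odd with h | h
        · subst h
          have h2 : 2 ∣ 2 ^ m := dvd_pow_self 2 hm
          omega
        · have := hs.two_le; omega
      have hd3 : 3 ≤ d := by
        have := Nat.le_of_dvd (by omega) hsr; omega
      have hm2 : 2 ≤ m := by
        by_contra hc
        have : m = 1 := by omega
        subst this; norm_num at hQ3
      nlinarith
    exact ⟨hfin, fun h => (hno 1 (by rw [h]; norm_num) (by norm_num)).elim,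
      fun h => (hno 2 (by rw [h]; norm_num) (by norm_num)).elim,
      fun h => (hno 3 (by rw [h]; norm_num) (by norm_num)).elim,
      fun h => (hno 4 (by rw [h]; norm_num) le_rfl).elim⟩

end Cfsg.Lib.SolvLinear
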