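import Cfsg.Agent.SolvLinear.Order

/-!
The component group: index bound or one of three exceptional shapes.
-/

set_option autoImplicit false
set_option linter.style.haveILetI false
set_option linter.unusedSectionVars false

namespace Cfsg.Lib.SolvLinear

open Cfsg.Lib.OddBase Subgroup

universe u

/-- The bound for the generic component of dimension `a`. -/
def psi (a : ℕ) : ℕ :=
  if a = 1 then 1 else if a = 2 then 4 else if a = 3 then 24 else if a = 4 then 216 else 5 * 11 ^ (a - 2)

/-- The bound for the exceptional component. -/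
def mx (a : ℕ) : ℕ := if a = 2 then 24 else if a = 3 then 216 else 1152

/-- The prime of the exceptional component. -/
def pr (a : ℕ) : ℕ := if a = 3 then 3 else 2

theorem eighth_eleven (n : ℕ) (h : 7 ≤ n) : n ^ 8 ≤ 40 * 11 ^ (n - 2) := by
  induction n, h using Nat.le_induction with
  | base => norm_num
  | succ n hn ih =>
    have h1 : 7 * (n + 1) ≤ 8 * n := by omega
    have h2 := Nat.pow_le_pow_left h1 8
    rw [mul_pow, mul_pow] at h2
    calc (n + 1) ^ 8 ≤ n ^ 8 * 11 := by norm_num at h2 ⊢; omega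
      _ ≤ 40 * 11 ^ (n - 2) * 11 := Nat.mul_le_mul_right _ ih
      _ = 40 * 11 ^ (n + 1 - 2) := by rw [mul_assoc, ← pow_succ]; congr 2; omega

theorem sq_eleven (c : ℕ) : ∀ a0 : ℕ, c * a0 ^ 2 ≤ 5 * 11 ^ (a0 - 2) → 2 ≤ a0 →
    ∀ a, a0 ≤ a → c * a ^ 2 ≤ 5 * 11 ^ (a - 2) := by
  intro a0 h h2 a ha
  induction a, ha using Nat.le_induction with
  | base => exact h
  | succ a ha ih =>
    have h1 : (a + 1) ^ 2 ≤ 11 * a ^ 2 := by nlinarith
    calc c * (a + 1) ^ 2 ≤ c * (11 * a ^ 2) := Nat.mul_le_mul_left _ h1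
      _ = c * a ^ 2 * 11 := by ring
      _ ≤ 5 * 11 ^ (a - 2) * 11 := Nat.mul_le_mul_right _ ih
      _ = 5 * 11 ^ (a + 1 - 2) := by rw [mul_assoc, ← pow_succ]; congr 2; omega

theorem sq_le_psi (a : ℕ) (ha : a ≠ 0) : a ^ 2 ≤ psi a ∨ a = 3 := by
  unfold psi
  split_ifs with h1 h2 h3 h4
  · subst h1; norm_num
  · subst h2; norm_num
  · exact Or.inr h3
  · subst h4; norm_num
  · left
    have := sq_eleven 1 5 (by norm_num) (by norm_num) a (by omega)
    simpa using this

variable {A V : Type u} [Group A] [Finite A] [AddCommGroup V] [Finite V] [DistribMulAction A V]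

/-- The induced group on a socle quotient of order `36`. -/
theorem card_le_six [Group.IsSolvable A] [FaithfulSMul A V] (hcr : CR A V) (hc : Nat.card V = 36) :
    Nat.card A ≤ 546 := by
  classical
  let T : ℕ → AddSubgroup V := fun q => (nsmulAddMonoidHom q : V →+ V).ker
  have hT : ∀ q, ∀ a : A, ∀ v ∈ T q, a • v ∈ T q := by
    intro q a v hv
    change q • (a • v) = 0
    have h2 := map_nsmul (DistribSMul.toAddMonoidHom V a) q v
    rw [show q • v = 0 from hv, map_zero] at h2
    exact h2.symm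
  have h36 : ∀ v : V, 36 • v = 0 := fun v => hc ▸ card_nsmul_eq_zero'
  obtain ⟨X, _, _, _, _, f, hfX, hcX, hf⟩ := exists_restrict hcr (T 4) (hT 4)
  obtain ⟨X', _, _, _, _, f', hfX', hcX', hf'⟩ := exists_restrict hcr (T 9) (hT 9)
  haveI := hfX
  haveI := hfX'
  have hadd : ∀ v : V, ∃ (x : T 4) (y : T 9), (x : V) + y = v := by
    intro v
    refine ⟨⟨9 • v, ?_⟩, ⟨28 • v, ?_⟩, ?_⟩
    · change 4 • (9 • v) = 0
      rw [← mul_nsmul]; exact h36 v
    · change 9 • (28 • v) = 0
      rw [← mul_nsmul, show 28 * 9 = 36 * 7 by norm_num, mul_nsmul, h36, nsmul_zero]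
    · change 9 • v + 28 • v = v
      rw [← add_nsmul, show 9 + 28 = 36 + 1 by norm_num, add_nsmul, h36, zero_add, one_nsmul]
  have hdis : ∀ v : V, 4 • v = 0 → 9 • v = 0 → v = 0 := by
    intro v h4 h9
    have : v = 9 • v - 2 • (4 • v) := by
      rw [← mul_nsmul, show 4 * 2 = 8 by norm_num, eq_sub_iff_add_eq,
        show 9 = 1 + 8 by norm_num, add_nsmul, one_nsmul]
    rw [this, h4, h9, nsmul_zero, sub_zero]
  have hcard : Nat.card (T 4) * Nat.card (T 9) = 36 := by
    rw [← Nat.card_prod, ← hc]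
    refine Nat.card_eq_of_bijective (fun p => (p.1 : V) + p.2) ⟨?_, fun v => ?_⟩
    · rintro ⟨x, y⟩ ⟨x', y'⟩ h
      simp only at h
      have h1 : (x : V) - x' = (y' : V) - y := by rw [sub_eq_sub_iff_add_eq_add, h, add_comm]
      have h0 := hdis ((x : V) - x') (by rw [nsmul_sub, show (4 : ℕ) • (x : V) = 0 from x.2,
        show (4 : ℕ) • (x' : V) = 0 from x'.2, sub_zero]) (by
        rw [h1, nsmul_sub, show (9 : ℕ) • (y : V) = 0 from y.2, show (9 : ℕ) • (y' : V) = 0 from y'.2, sub_zero])
      rw [h0, eq_comm, sub_eq_zero] at h1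
      exact Prod.ext (Subtype.ext (sub_eq_zero.1 h0)) (Subtype.ext h1.symm)
    · obtain ⟨x, y, h⟩ := hadd v
      exact ⟨(x, y), h⟩
  have hdvd : ∀ q : ℕ, ∀ l : ℕ, l.Prime → l ∣ Nat.card (T q) → l ∣ q := by
    intro q l hl hld
    haveI := Fact.mk hl
    obtain ⟨x, hx⟩ := exists_prime_addOrderOf_dvd_card' l hld
    rw [← hx]
    exact addOrderOf_dvd_of_nsmul_eq_zero (Subtype.ext x.2)
  have h4c : Nat.card (T 4) = 4 ∧ Nat.card (T 9) = 9 := by
    have hco : Nat.Coprime (Nat.card (T 4)) 9 := by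
      rw [Nat.coprime_comm, show (9 : ℕ) = 3 ^ 2 by norm_num, Nat.coprime_pow_left_iff (by norm_num),
        Nat.Prime.coprime_iff_not_dvd Nat.prime_three]
      intro h
      have := hdvd 4 3 Nat.prime_three h
      norm_num at this
    have hco' : Nat.Coprime (Nat.card (T 9)) 4 := by
      rw [Nat.coprime_comm, show (4 : ℕ) = 2 ^ 2 by norm_num, Nat.coprime_pow_left_iff (by norm_num),
        Nat.Prime.coprime_iff_not_dvd Nat.prime_two]
      intro h
      have := hdvd 9 2 Nat.prime_two h
      norm_num at this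
    have h1 : Nat.card (T 4) ∣ 4 := hco.dvd_of_dvd_mul_right (by rw [show 4 * 9 = 36 by norm_num]; exact ⟨_, hcard.symm⟩)
    have h2 : Nat.card (T 9) ∣ 9 := hco'.dvd_of_dvd_mul_right (by rw [show 9 * 4 = 36 by norm_num, ← hcard]; exact Dvd.intro_left _ rfl)
    have h1' := Nat.le_of_dvd (by norm_num) h1
    have h2' := Nat.le_of_dvd (by norm_num) h2
    constructor <;> nlinarith
  haveI : Nontrivial (T 4) := Finite.one_lt_card_iff_nontrivial.1 (by rw [h4c.1]; norm_num)
  haveI : Nontrivial (T 9) := Finite.one_lt_card_iff_nontrivial.1 (by rw [h4c.2]; norm_num)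
  have b1 := (card_solvable_cr_le _ X (T 4) rfl hcX).2.2.1 h4c.1
  have b2 := (card_solvable_cr_le _ X' (T 9) rfl hcX').1
  rw [h4c.2] at b2
  have hA : Nat.card A ≤ Nat.card X * Nat.card X' := by
    rw [← Nat.card_prod]
    refine Nat.card_le_card_of_injective (fun a => (f a, f' a)) fun a b h => eq_of_smul_eq_smul fun v : V => ?_
    obtain ⟨x, y, rfl⟩ := hadd v
    rw [smul_add, smul_add, ← hf, ← hf, ← hf', ← hf', (Prod.mk.inj h).1, (Prod.mk.inj h).2]
  have : Nat.card X' ≤ 91 := by omega
  exact hA.trans (Nat.mul_le_mul b1 this)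

/-- The exceptional shape. -/
def Special (A : Type u) [Group A] (p a : ℕ) : Prop :=
  (a = 2 ∨ a = 3 ∨ a = 4) ∧ ∃ Z : Subgroup A, Z.Normal ∧ IsMulCommutative Z ∧ Z ≤ Subgroup.center A ∧
    Nat.card Z ∣ p - 1 ∧ pr a ∣ Nat.card Z ∧
    (∃ j, 1 ≤ j ∧ Z.index = a * a * j) ∧ Z.index ≤ mx a ∧
    (a = 2 → Z.index ≤ 16 ∨ Z.index = 24 ∧ 4 * Nat.card Z ≤ Nat.card (ConjClasses A))

/-- The generic shape. -/
def Generic (A : Type u) [Group A] (a : ℕ) : Prop :=
  ∃ Z : Subgroup A, Z.Normal ∧ IsMulCommutative Z ∧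
    Z.index * (Subgroup.centralizer (Z : Set A)).index ≤ psi a

/-- Sixfold socle quotient inside the largest case: at least four classes per element of `Z`. -/
theorem four_classes [Group.IsSolvable A] {Z : Subgroup A} [Z.Normal] [IsMulCommutative Z]
    {K : Type u} [Field K] {ι : Z →* Kˣ} (hι : Function.Injective ι) (hmax : MaxAbelian Z)
    (hC : Subgroup.centralizer (Z : Set A) = ⊤)
    (hne : ¬ Subgroup.centralizer (Z : Set A) ≤ Z)
    (hL : Z.relIndex (socle Z (Subgroup.centralizer (Z : Set A))) = 4)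
    (hY : (socle Z (Subgroup.centralizer (Z : Set A))).relIndex (Subgroup.centralizer (Z : Set A)) = 6) :
    4 * Nat.card Z ≤ Nat.card (ConjClasses A) := by
  classical
  skip
  set C := centralizer (Z : Set A) with hCdef
  set L := socle Z C with hLdef
  set Wb := socBar Z C with hWb
  set s := Nat.card Z with hs
  haveI := Fintype.ofFinite A
  have hZL : Z < L := exists_socle hne
  have hW4 : Nat.card Wb = 4 := card_socBar.trans hL
  have hsq : ∀ w : Wb, w * w = 1 := by
    intro w
    by_contra hw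
    have hcyc : IsCyclic Wb := by
      refine isCyclic_of_orderOf_eq_card w ?_
      have h1 : orderOf w ∣ 4 := hW4 ▸ orderOf_dvd_natCard w
      have h2 : ¬ orderOf w ∣ 2 := fun h => hw (by rw [← pow_two]; exact orderOf_dvd_iff_pow_eq_one.1 h)
      have h3 := Nat.le_of_dvd (by norm_num) h1
      rw [hW4]
      interval_cases horderOf : orderOf w <;>
        first | rfl | (norm_num at h1; done) | (norm_num at h2; done)
    haveI := hcyc
    have h3 : Nat.card (C.map (socHom Z)) ≤ Nat.card (MulAut Wb) :=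
      Nat.card_le_card_of_injective _ Subtype.val_injective
    rw [← relIndex_socle_eq hι hmax hne, hY, IsCyclic.card_mulAut, hW4] at h3
    exact absurd h3 (by decide)
  have hkerL : (socHom Z).ker = L := by
    rw [hLdef, hCdef, ← socHom_ker hι hmax hne]
    exact (inf_eq_left.2 (le_of_le_of_eq le_top (hC.symm.trans hCdef))).symm
  have hcent : ∀ g z : A, z ∈ Z → z * g = g * z := fun g z hz =>
    mem_centralizer_iff.1 (show g ∈ C by rw [hC]; trivial) z hz
  have hidxL : L.index = 6 := by rw [← hY, hC, relIndex_top_right]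
  have hidxZ : Z.index = 24 := by rw [← relIndex_mul_index hZL.le, hL, hidxL]
  have hN : Nat.card A = s * 24 := by rw [← hidxZ, hs, Z.card_mul_index]
  have hLcard : Nat.card L = s * 4 := by
    have := L.card_mul_index
    rw [hidxL, hN] at this
    omega
  -- a moved vector, chosen from the image
  have hex : ∀ ρ : MulAut Wb, ρ ≠ 1 → ∃ w : Wb, ρ w ≠ w := fun ρ hρ => by
    by_contra h
    push Not at h
    exact hρ (MulEquiv.ext h)
  let lift' : Wb → A := fun w => Classical.choose (show ∃ l, l ∈ L ∧ (l : A ⧸ Z) = w from w.2)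
  have hlift : ∀ w : Wb, lift' w ∈ L ∧ (lift' w : A ⧸ Z) = w := fun w =>
    Classical.choose_spec (show ∃ l, l ∈ L ∧ (l : A ⧸ Z) = w from w.2)
  let v : MulAut Wb → Wb := fun ρ => if h : ρ ≠ 1 then Classical.choose (hex ρ h) else 1
  let σ : A → A := fun g => g * lift' (v (socHom Z g))
  have hρσ : ∀ g, socHom Z (σ g) = socHom Z g := fun g => by
    rw [map_mul, (MonoidHom.mem_ker.1 (hkerL.ge (hlift _).1)), mul_one]
  have hσinj : Function.Injective σ := by
    intro g h e
    have : socHom Z g = socHom Z h := by rw [← hρσ g, e, hρσ]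
    have e' : g * lift' (v (socHom Z g)) = h * lift' (v (socHom Z h)) := e
    rw [this] at e'
    exact mul_right_cancel e'
  let o : A → ℕ := fun g => orderOf (g : A ⧸ Z)
  have hcge : ∀ g, s * o g ≤ Nat.card (centralizer ({g} : Set A)) := by
    intro g
    have hle : Z ⊔ zpowers g ≤ centralizer ({g} : Set A) := sup_le
      (fun z hz => mem_centralizer_singleton_iff.2 (hcent g z hz))
      (zpowers_le.2 (mem_centralizer_singleton_iff.2 rfl))
    refine le_trans (le_of_eq ?_) (Nat.card_le_card_of_injective _ (inclusion_injective hle))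
    have h1 : o g = Z.relIndex (Z ⊔ zpowers g) := by
      have e := relIndex_map_map (QuotientGroup.mk' Z) Z (Z ⊔ zpowers g)
      rw [QuotientGroup.ker_mk', sup_idem, sup_eq_left.2 (le_sup_left : Z ≤ Z ⊔ zpowers g)] at e
      rw [← e, Subgroup.map_sup, (map_eq_bot_iff Z).2 (by rw [QuotientGroup.ker_mk']), bot_sup_eq,
        MonoidHom.map_zpowers, relIndex_bot_left, Nat.card_zpowers]
      rfl
    rw [h1, hs, ← relIndex_bot_left, ← relIndex_bot_left, relIndex_mul_relIndex _ _ _ bot_le le_sup_left]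
  have hpair : ∀ g, g ∉ L → 6 ≤ o g + o (σ g) := by
    intro g hg
    have hρ : socHom Z g ≠ 1 := fun h => hg (hkerL.le h)
    have hv := Classical.choose_spec (hex _ hρ)
    have hv' : v (socHom Z g) = Classical.choose (hex _ hρ) := dif_pos hρ
    have hσg : ((σ g : A) : A ⧸ Z) = (g : A ⧸ Z) * (v (socHom Z g) : A ⧸ Z) := by
      rw [QuotientGroup.mk_mul, (hlift _).2]
    have hne1 : ∀ x, socHom Z x = socHom Z g → o x ≠ 1 := by
      intro x hx h1
      have hxZ : x ∈ Z := (QuotientGroup.eq_one_iff x).1 (orderOf_eq_one_iff.1 h1)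
      exact hρ (hx ▸ MonoidHom.mem_ker.1 (hkerL.ge (hZL.le hxZ)))
    have hpos : ∀ x, 0 < o x := fun x => orderOf_pos _
    have h23 : ∀ x, socHom Z x = socHom Z g → socHom Z g ^ o x = 1 := fun x hx => by
      rw [← hx, ← map_pow, ← MonoidHom.mem_ker, hkerL]
      exact hZL.le ((QuotientGroup.eq_one_iff _).1 (by rw [QuotientGroup.mk_pow]; exact pow_orderOf_eq_one _))
    by_contra hlt
    push Not at hlt
    have a1 := hne1 g rfl
    have a2 := hne1 (σ g) (hρσ g)
    have p1 := hpos g
    have p2 := hpos (σ g)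
    have key : ∀ x y, socHom Z x = socHom Z g → socHom Z y = socHom Z g → o x = 2 → o y = 3 → False := by
      intro x y hx hy h2 h3
      have e2 := h23 x hx
      have e3 := h23 y hy
      rw [h2] at e2
      rw [h3, pow_succ, e2, one_mul] at e3
      exact hρ e3
    have hno22 : ¬ (o g = 2 ∧ o (σ g) = 2) := by
      rintro ⟨hg2, hs2⟩
      apply hv
      rw [← hv']
      apply Subtype.ext
      rw [socHom_apply]
      have e1 : (g : A ⧸ Z) * g = 1 := by
        rw [← pow_two, ← hg2]; exact pow_orderOf_eq_one _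
      have e2 : ((σ g : A) : A ⧸ Z) * (σ g : A) = 1 := by
        rw [← pow_two, ← hs2]; exact pow_orderOf_eq_one _
      rw [hσg] at e2
      have e3 : (v (socHom Z g) : A ⧸ Z) * v (socHom Z g) = 1 := congrArg Subtype.val (hsq _)
      have ginv : (g : A ⧸ Z)⁻¹ = g := inv_eq_of_mul_eq_one_right e1
      rw [ginv]
      calc (g : A ⧸ Z) * v (socHom Z g) * g
          = (g : A ⧸ Z) * v (socHom Z g) * g * (v (socHom Z g) * v (socHom Z g)) := by rw [e3, mul_one]
        _ = ((g : A ⧸ Z) * v (socHom Z g) * (g * v (socHom Z g))) * v (socHom Z g) := by group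
        _ = v (socHom Z g) := by rw [e2, one_mul]
    have b1 : o g = 2 ∨ o g = 3 := by omega
    have b2 : o (σ g) = 2 ∨ o (σ g) = 3 := by omega
    rcases b1 with b1 | b1 <;> rcases b2 with b2 | b2
    · exact hno22 ⟨b1, b2⟩
    · exact key _ _ rfl (hρσ g) b1 b2
    · exact key _ _ (hρσ g) rfl b2 b1
    · omega
  have hmid : ∀ g ∈ L, g ∉ Z → 4 * s ≤ Nat.card (centralizer ({g} : Set A)) := by
    intro g hgL hgZ
    set w : A ⧸ Z := (g : A ⧸ Z)
    set P := (centralizer ({w} : Set (A ⧸ Z))).comap (QuotientGroup.mk' Z) with hP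
    have hPidx : P.index ≤ 3 := by
      rw [hP, index_comap_of_surjective _ (QuotientGroup.mk'_surjective Z)]
      have h1 : (centralizer ({w} : Set (A ⧸ Z))).index = Nat.card (MulAction.orbit (ConjAct (A ⧸ Z)) w) := by
        rw [Nat.card_coe_set_eq, ← MulAction.index_stabilizer, ConjAct.stabilizer_eq_centralizer]
        rfl
      rw [h1]
      have h3 : Nat.card {x : Wb // x ≠ 1} = 3 := by
        have : Nat.card Wb = Nat.card {x : Wb // x ≠ 1} + 1 := by
          rw [← Nat.card_congr (Equiv.optionSubtypeNe (1 : Wb)), Finite.card_option]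
        omega
      rw [← h3]
      have hw1 : w ≠ 1 := fun h => hgZ ((QuotientGroup.eq_one_iff g).1 h)
      refine Nat.card_le_card_of_injective (fun x => (⟨⟨x.1, ?_⟩, ?_⟩ : {x : Wb // x ≠ 1}))
        fun x y h => Subtype.ext (congrArg (fun z => (z.1 : A ⧸ Z)) h)
      · obtain ⟨c, hc⟩ := x.2
        rw [← hc]
        exact (socBarNormal (Z := Z)).conj_mem _ (mem_map_of_mem _ hgL) _
      · intro h
        obtain ⟨c, hc⟩ := x.2
        have h' : (x.1 : A ⧸ Z) = 1 := congrArg Subtype.val h
        rw [← hc] at h'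
        exact hw1 (by simpa [ConjAct.smul_def] using h')
    have hPc : 8 * s ≤ Nat.card P := by
      have := P.card_mul_index
      have hpos : 0 < Nat.card P := Nat.card_pos
      rw [hN] at this
      nlinarith
    have hg2 : g * g ∈ Z := by
      rw [← QuotientGroup.eq_one_iff, QuotientGroup.mk_mul]
      exact congrArg Subtype.val (hsq ⟨w, mem_map_of_mem _ hgL⟩)
    let c : P →* Kˣ :=
      { toFun := fun h => ι ⟨(h : A) * g * (h : A)⁻¹ * g⁻¹, by
          rw [← QuotientGroup.eq_one_iff]
          simp only [QuotientGroup.mk_mul, QuotientGroup.mk_inv]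
          have h1 : w * (h : A) = ((h : A) : A ⧸ Z) * w := mem_centralizer_singleton_iff.1 h.2 |>.symm
          rw [← h1, mul_inv_cancel_right, mul_inv_cancel]⟩
        map_one' := by
          rw [← map_one ι]
          congr 1
          exact Subtype.ext (by simp)
        map_mul' := fun a b => by
          rw [← map_mul]
          congr 1
          apply Subtype.ext
          have hb : (b : A) * g * (b : A)⁻¹ * g⁻¹ ∈ Z := by
            rw [← QuotientGroup.eq_one_iff]
            simp only [QuotientGroup.mk_mul, QuotientGroup.mk_inv]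
            have h1 : w * (b : A) = ((b : A) : A ⧸ Z) * w := mem_centralizer_singleton_iff.1 b.2 |>.symm
            rw [← h1, mul_inv_cancel_right, mul_inv_cancel]
          simp only [Subgroup.coe_mul, mul_inv_rev]
          calc (a : A) * b * g * ((b : A)⁻¹ * (a : A)⁻¹) * g⁻¹
              = a * ((b : A) * g * (b : A)⁻¹ * g⁻¹ * g) * (a : A)⁻¹ * g⁻¹ := by group
            _ = ((a : A) * ((b : A) * g * (b : A)⁻¹ * g⁻¹)) * (g * (a : A)⁻¹ * g⁻¹) := by group
            _ = (((b : A) * g * (b : A)⁻¹ * g⁻¹) * a) * (g * (a : A)⁻¹ * g⁻¹) := by rw [hcent (a : A) _ hb]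
            _ = ((b : A) * g * (b : A)⁻¹ * g⁻¹) * ((a : A) * g * (a : A)⁻¹ * g⁻¹) := by group
            _ = _ := (hcent _ _ hb) }
    have hcsq : ∀ h : P, ((c h : Kˣ) : K) = 1 ∨ ((c h : Kˣ) : K) = -1 := by
      intro h
      have hd : (h : A) * g * (h : A)⁻¹ * g⁻¹ ∈ Z := by
        rw [← QuotientGroup.eq_one_iff]
        simp only [QuotientGroup.mk_mul, QuotientGroup.mk_inv]
        have h1 : w * (h : A) = ((h : A) : A ⧸ Z) * w := mem_centralizer_singleton_iff.1 h.2 |>.symm
        rw [← h1, mul_inv_cancel_right, mul_inv_cancel]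
      set d : Z := ⟨_, hd⟩
      have hdd : d * d = 1 := by
        apply Subtype.ext
        change ((h : A) * g * (h : A)⁻¹ * g⁻¹) * ((h : A) * g * (h : A)⁻¹ * g⁻¹) = 1
        calc ((h : A) * g * (h : A)⁻¹ * g⁻¹) * ((h : A) * g * (h : A)⁻¹ * g⁻¹)
            = (h : A) * g * (h : A)⁻¹ * (g⁻¹ * ((h : A) * g * (h : A)⁻¹ * g⁻¹)) := by group
          _ = (h : A) * g * (h : A)⁻¹ * (((h : A) * g * (h : A)⁻¹ * g⁻¹) * g⁻¹) := by rw [hcent g⁻¹ _ hd]
          _ = ((h : A) * (g * g) * (h : A)⁻¹) * (g * g)⁻¹ := by group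
          _ = 1 := by rw [← hcent (h : A) _ hg2, mul_inv_cancel_right, mul_inv_cancel]
      have h2 : (c h : Kˣ) * c h = 1 := by
        change ι d * ι d = 1
        rw [← map_mul, hdd, map_one]
      exact mul_self_eq_one_iff.1 (by rw [← Units.val_mul, h2, Units.val_one])
    have hrange : Nat.card c.range ≤ 2 := by
      have : (Set.range (fun x : c.range => ((x.1 : Kˣ) : K))) ⊆ {1, -1} := by
        rintro _ ⟨⟨_, h, rfl⟩, rfl⟩
        rcases hcsq h with e | e <;> simp [e]
      rw [← Nat.card_range_of_injective (f := fun x : c.range => ((x.1 : Kˣ) : K))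
        (fun x y e => Subtype.ext (Units.ext e))]
      refine (Nat.card_mono (Set.toFinite _) this).trans ?_
      rw [Nat.card_coe_set_eq]
      exact (Set.ncard_insert_le _ _).trans (by rw [Set.ncard_singleton])
    have hker : Nat.card P ≤ 2 * Nat.card c.ker := by
      rw [← c.ker.card_mul_index, index_ker, mul_comm]
      exact Nat.mul_le_mul_right _ hrange
    have hle : Nat.card c.ker ≤ Nat.card (centralizer ({g} : Set A)) := by
      refine Nat.card_le_card_of_injective (fun h => ⟨(h.1 : A), ?_⟩) fun x y e => by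
        have h := congrArg Subtype.val e
        exact Subtype.ext (Subtype.ext h)
      have h1 : ι _ = 1 := MonoidHom.mem_ker.1 h.2
      rw [map_eq_one_iff ι hι] at h1
      have h2 : (h.1 : A) * g * (h.1 : A)⁻¹ * g⁻¹ = 1 := congrArg Subtype.val h1
      rw [mul_inv_eq_one, mul_inv_eq_iff_eq_mul] at h2
      exact mem_centralizer_singleton_iff.2 h2
    omega
  -- the sum
  have hsum := sum_centralizer A
  set f : A → ℕ := fun g => Nat.card (centralizer ({g} : Set A)) with hfdef
  have hZc : (Finset.univ.filter fun g : A => g ∈ Z).card = s := by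
    rw [hs, Nat.card_eq_fintype_card, Fintype.card_subtype]
  have hLc : (Finset.univ.filter fun g : A => g ∈ L).card = s * 4 := by
    rw [← hLcard, Nat.card_eq_fintype_card, Fintype.card_subtype]
  set O := Finset.univ.filter fun g : A => g ∉ L
  set Mi := Finset.univ.filter fun g : A => g ∈ L ∧ g ∉ Z
  have hOc : O.card = s * 20 := by
    have := Finset.card_filter_add_card_filter_not (s := (Finset.univ : Finset A)) (fun g => g ∈ L)
    rw [hLc, Finset.card_univ, ← Nat.card_eq_fintype_card, hN] at this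
    have h' : s * 4 + O.card = s * 24 := this
    omega
  have hMc : Mi.card = s * 3 := by
    have h1 := Finset.card_filter_add_card_filter_not
      (s := Finset.univ.filter fun g : A => g ∈ L) (fun g => g ∈ Z)
    rw [Finset.filter_filter, Finset.filter_filter, hLc] at h1
    have h2 : (Finset.univ.filter fun g : A => g ∈ L ∧ g ∈ Z) = Finset.univ.filter fun g : A => g ∈ Z := by
      ext g; simpa using fun h : g ∈ Z => hZL.le h
    rw [h2, hZc] at h1
    change Mi.card = _
    have h3 : s + Mi.card = s * 4 := h1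
    omega
  have hOmap : ∑ g ∈ O, o (σ g) = ∑ g ∈ O, o g := by
    refine Finset.sum_bij (fun g _ => σ g) (fun g hg => ?_) (fun a _ b _ h => hσinj h) (fun g hg => ?_)
      (fun g _ => rfl)
    · simp only [O, Finset.mem_filter, Finset.mem_univ, true_and] at hg ⊢
      intro h
      apply hg
      rw [← hkerL, MonoidHom.mem_ker, ← hρσ]
      exact MonoidHom.mem_ker.1 (hkerL.ge h)
    · obtain ⟨x, hx⟩ := (Finite.injective_iff_surjective.1 hσinj) g
      refine ⟨x, ?_, hx⟩
      simp only [O, Finset.mem_filter, Finset.mem_univ, true_and] at hg ⊢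
      intro h
      apply hg
      rw [← hx, ← hkerL, MonoidHom.mem_ker, hρσ]
      exact MonoidHom.mem_ker.1 (hkerL.ge h)
  have hO : 60 * s ≤ ∑ g ∈ O, o g := by
    have h1 : O.card • 6 ≤ ∑ g ∈ O, (o g + o (σ g)) :=
      Finset.card_nsmul_le_sum _ _ _ fun g hg => hpair g (Finset.mem_filter.1 hg).2
    rw [Finset.sum_add_distrib, hOmap, hOc, smul_eq_mul] at h1
    omega
  have hO' : 60 * (s * s) ≤ ∑ g ∈ O, f g := by
    calc 60 * (s * s) = s * (60 * s) := by ring
      _ ≤ s * ∑ g ∈ O, o g := Nat.mul_le_mul_left _ hO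
      _ = ∑ g ∈ O, s * o g := Finset.mul_sum _ _ _
      _ ≤ _ := Finset.sum_le_sum fun g _ => hcge g
  have hM' : 12 * (s * s) ≤ ∑ g ∈ Mi, f g := by
    have h1 : Mi.card • (4 * s) ≤ ∑ g ∈ Mi, f g :=
      Finset.card_nsmul_le_sum _ _ _ fun g hg => hmid g (Finset.mem_filter.1 hg).2.1 (Finset.mem_filter.1 hg).2.2
    rw [hMc, smul_eq_mul] at h1
    calc 12 * (s * s) = s * 3 * (4 * s) := by ring
      _ ≤ _ := h1
  have hZ' : ∑ g ∈ Finset.univ.filter (fun g : A => g ∈ Z), f g = s * (s * 24) := by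
    rw [Finset.sum_congr rfl (g := fun _ => s * 24) fun g hg => ?_, Finset.sum_const, hZc, smul_eq_mul]
    rw [← hN, hfdef]
    simp only
    rw [show centralizer ({g} : Set A) = ⊤ from top_unique fun x _ =>
      mem_centralizer_singleton_iff.2 (hcent x g (Finset.mem_filter.1 hg).2).symm, card_top]
  have hsplit : ∑ g, f g = ∑ g ∈ Finset.univ.filter (fun g : A => g ∈ Z), f g +
      ∑ g ∈ Mi, f g + ∑ g ∈ O, f g := by
    rw [← Finset.sum_filter_add_sum_filter_not Finset.univ (fun g : A => g ∈ L),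
      ← Finset.sum_filter_add_sum_filter_not (Finset.univ.filter fun g : A => g ∈ L) (fun g : A => g ∈ Z),
      Finset.filter_filter, Finset.filter_filter]
    congr 2
    refine Finset.sum_congr ?_ fun _ _ => rfl
    ext g; simpa using fun h : g ∈ Z => hZL.le h
  have htot : 96 * (s * s) ≤ Nat.card (ConjClasses A) * Nat.card A := by
    rw [← hsum]
    change _ ≤ ∑ g, f g
    rw [hsplit, hZ']
    linarith [show s * (s * 24) = 24 * (s * s) by ring]
  rw [hN] at htot
  have hs0 : 0 < s := Nat.card_pos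
  refine Nat.le_of_mul_le_mul_left ?_ (show 0 < 24 * s by omega)
  calc 24 * s * (4 * s) = 96 * (s * s) := by ring
    _ ≤ _ := htot
    _ = 24 * s * Nat.card (ConjClasses A) := by ring

/-- The component of a minimal system: generic or exceptional. -/
theorem component [Group.IsSolvable A] [Nontrivial V] [FaithfulSMul A V] (hirr : Irr A V)
    (hidem : ∀ (Z : Subgroup A) [Z.Normal] [IsMulCommutative Z],
      ∀ e ∈ alg A V Z, e * e = e → e = 0 ∨ e = 1)
    {p a : ℕ} (hp : p.Prime) (hcard : Nat.card V = p ^ a) : Generic A a ∨ Special A p a := by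
  classical
  obtain ⟨Z, hZn, hZc, hmax⟩ := exists_maxAbelian A
  haveI := hZn
  haveI := hZc
  obtain ⟨q, m, d, K, _, ι, hq, hm, hd, hV, hι, hzdvd, hδ, hrd, -⟩ := field_data hirr hmax (hidem Z)
  have hpq : q = p := by
    have hdv : q ∣ p ^ a := by rw [← hcard, hV]; exact dvd_pow_self q (Nat.mul_ne_zero hm hd)
    exact (Nat.prime_dvd_prime_iff_eq hq hp).1 (hq.dvd_of_dvd_pow hdv)
  subst hpq
  have hmd : m * d = a := Nat.pow_right_injective hp.two_le (hV.symm.trans hcard)
  have ha0 : a ≠ 0 := hmd ▸ Nat.mul_ne_zero hm hd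
  set C := Subgroup.centralizer (Z : Set A) with hCdef
  have hma : m ≤ a := hmd ▸ Nat.le_mul_of_pos_right m (Nat.pos_of_ne_zero hd)
  by_cases hne : C ≤ Z
  · left
    refine ⟨Z, hZn, hZc, ?_⟩
    have hCZ : C = Z := le_antisymm hne (le_centralizer_self Z)
    have hI : Z.index * C.index ≤ m ^ 2 := by
      rw [pow_two, ← hCZ]; exact Nat.mul_le_mul hδ hδ
    refine hI.trans ?_
    rcases sq_le_psi a ha0 with h | h
    · exact (Nat.pow_le_pow_left hma 2).trans h
    · subst h
      refine (Nat.pow_le_pow_left hma 2).trans ?_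
      norm_num [psi]
  set L := socle Z C with hLdef
  obtain ⟨r, hr⟩ := socle_index_square hι hmax hne
  have hZL : Z < L := exists_socle hne
  have hr2 : 2 ≤ r := by
    rcases r with _ | _ | r
    · exact absurd (show Z.relIndex L = 0 by rw [hr]) Subgroup.FiniteIndex.index_ne_zero
    · exact absurd (Subgroup.relIndex_eq_one.1 (show Z.relIndex L = 1 by rw [hr])) (not_le_of_gt hZL)
    · omega
  have hrd' : r ≤ d := by
    have := hrd hne; rw [hr] at this; exact Nat.mul_self_le_mul_self_iff.1 this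
  have hmr : m * r ≤ a := hmd ▸ Nat.mul_le_mul_left m hrd'
  obtain ⟨W, X, _, _, _, _, _, _, hfW, hcW, hWc, hYX, -⟩ := socle_module hι hmax hne
  haveI := hfW
  rw [hr] at hWc
  haveI : Nontrivial W := Finite.one_lt_card_iff_nontrivial.1 (by rw [hWc]; nlinarith)
  have bX := card_solvable_cr_le _ X W rfl hcW
  rw [hWc] at bX
  set Y := L.relIndex C with hYdef
  have hY1 : 1 ≤ Y := Nat.one_le_iff_ne_zero.2 Subgroup.FiniteIndex.index_ne_zero
  have hidxZ : Z.index = r * r * Y * C.index := by
    rw [← hr, hYdef, Subgroup.relIndex_mul_relIndex Z L C hZL.le (socle_le Z C),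
      Subgroup.relIndex_mul_index (hZL.le.trans (socle_le Z C))]
  have hI : Z.index * C.index ≤ m * m * (r * r * Y) := by
    rw [hidxZ]
    calc r * r * Y * C.index * C.index ≤ r * r * Y * m * m := by gcongr
      _ = _ := by ring
  -- the bounds for the group on the socle
  have hYle : (r = 2 → Y ≤ 6) ∧ (r = 3 → Y ≤ 24) ∧ (r = 4 → Y ≤ 72) ∧ (r = 5 → Y ≤ 120) ∧
      (r = 6 → Y ≤ 546) ∧ 8 * Y ≤ (r * r) ^ 3 := by
    refine ⟨fun h => hYX.trans (bX.2.2.1 (by rw [h])), fun h => ?_, fun h => hYX.trans (bX.2.2.2.2 (by rw [h])),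
      fun h => ?_, fun h => hYX.trans (card_le_six hcW (hWc.trans (by rw [h]))),
      (Nat.mul_le_mul_left 8 hYX).trans bX.1⟩
    · subst h; exact relIndex_socle_le_prime hι hmax hne Nat.prime_three hr
    · subst h; exact relIndex_socle_le_prime hι hmax hne (by norm_num) hr
  obtain ⟨hY2, hY3, hY4, hY5, hY6, hY8⟩ := hYle
  by_cases hspec : (a = 2 ∨ a = 3 ∨ a = 4) ∧ r = a
  · right
    obtain ⟨ha, hra⟩ := hspec
    subst hra
    have hm1 : m = 1 := by
      by_contra hm1
      have : 2 * r ≤ m * r := Nat.mul_le_mul_right r (by omega)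
      omega
    subst hm1
    have hCtop : C = ⊤ := by
      rw [← Subgroup.index_eq_one]
      have : C.index ≠ 0 := Subgroup.index_ne_zero_of_finite
      omega
    rw [pow_one] at hzdvd
    refine ⟨ha, Z, hZn, hZc, fun z hz => Subgroup.mem_center_iff.2 fun g =>
      (Subgroup.mem_centralizer_iff.1 (show g ∈ C by rw [hCtop]; trivial) z hz).symm, hzdvd, ?_,
      ⟨Y, hY1, ?_⟩, ?_, ?_⟩
    · have hps : (pr r).Prime ∧ pr r ∣ r := by
        rcases ha with rfl | rfl | rfl <;> norm_num [pr]
      exact prime_dvd_card hι hmax hne _ hps.1 (hr ▸ hps.2.mul_right r)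
    · rw [hidxZ, hCtop, Subgroup.index_top, mul_one]
    · rw [hidxZ, hCtop, Subgroup.index_top, mul_one]
      rcases ha with rfl | rfl | rfl
      · have := hY2 rfl; norm_num [mx]; omega
      · have := hY3 rfl; norm_num [mx]; omega
      · have := hY4 rfl; norm_num [mx]; omega
    · intro h2
      subst h2
      have hY6' := hY2 rfl
      have hdiv := relIndex_socle_dvd hι hmax hne
      rw [hr, ← hYdef] at hdiv
      rw [hidxZ, hCtop, Subgroup.index_top, mul_one]
      have hY5' : Y ≠ 5 := by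
        intro h
        rw [h] at hdiv
        norm_num [Nat.factorial] at hdiv
      by_cases h6 : Y = 6
      · exact Or.inr ⟨by omega, four_classes hι hmax hCtop hne hr h6⟩
      · left; omega
  · left
    refine ⟨Z, hZn, hZc, hI.trans ?_⟩
    have hr2' : m * m * (r * r) ≤ a ^ 2 := by
      calc m * m * (r * r) = (m * r) * (m * r) := by ring
        _ ≤ a * a := Nat.mul_le_mul hmr hmr
        _ = a ^ 2 := (pow_two a).symm
    have hm2 : 1 ≤ m := by omega
    have hra : r ≤ a := le_trans (Nat.le_mul_of_pos_left r (by omega)) hmr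
    unfold psi
    split_ifs with h1 h2 h3 h4
    · omega
    · exact absurd ⟨Or.inl h2, (show r = a by omega)⟩ hspec
    · have hr' : r = 2 := by
        have : r ≠ 3 := fun h => hspec ⟨Or.inr (Or.inl h3), by omega⟩
        omega
      subst hr'
      have : m = 1 := by omega
      subst this
      have := hY2 rfl
      omega
    · have hr' : r = 2 ∨ r = 3 := by
        have : r ≠ 4 := fun h => hspec ⟨Or.inr (Or.inr h4), by omega⟩
        omega
      rcases hr' with rfl | rfl
      · have : m ≤ 2 := by omega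
        have := hY2 rfl
        interval_cases m <;> omega
      · have : m = 1 := by omega
        subst this
        have := hY3 rfl
        omega
    · have ha5 : 5 ≤ a := by omega
      have hsq : ∀ c a0 : ℕ, m * m * (r * r) * Y ≤ c * a ^ 2 → c * a0 ^ 2 ≤ 5 * 11 ^ (a0 - 2) → 2 ≤ a0 →
          a0 ≤ a → m * m * (r * r * Y) ≤ 5 * 11 ^ (a - 2) := fun c a0 h hb h2 ha =>
        (le_of_eq (by ring)).trans (h.trans (sq_eleven c a0 hb h2 a ha))
      have hmul : ∀ c, Y ≤ c → m * m * (r * r) * Y ≤ c * a ^ 2 := fun c hc => by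
        rw [mul_comm c]; exact Nat.mul_le_mul hr2' hc
      rcases Nat.lt_or_ge r 7 with hr7 | hr7
      · interval_cases r
        · exact hsq 6 5 (hmul 6 (hY2 rfl)) (by norm_num) (by norm_num) ha5
        · exact hsq 24 5 (hmul 24 (hY3 rfl)) (by norm_num) (by norm_num) ha5
        · exact hsq 72 5 (hmul 72 (hY4 rfl)) (by norm_num) (by norm_num) ha5
        · exact hsq 120 5 (hmul 120 (hY5 rfl)) (by norm_num) (by norm_num) ha5
        · exact hsq 546 6 (hmul 546 (hY6 rfl)) (by norm_num) (by norm_num) hra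
      · have h8 : m ^ 2 * r ^ 8 ≤ a ^ 8 := by
          calc m ^ 2 * r ^ 8 ≤ m ^ 8 * r ^ 8 := Nat.mul_le_mul_right _ (Nat.pow_le_pow_right (by omega) (by norm_num))
            _ = (m * r) ^ 8 := (mul_pow m r 8).symm
            _ ≤ a ^ 8 := Nat.pow_le_pow_left hmr 8
        refine Nat.le_of_mul_le_mul_left ?_ (show 0 < 8 by norm_num)
        calc 8 * (m * m * (r * r * Y)) = m * m * (r * r) * (8 * Y) := by ring
          _ ≤ m * m * (r * r) * (r * r) ^ 3 := Nat.mul_le_mul_left _ hY8
          _ = m ^ 2 * r ^ 8 := by ring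
          _ ≤ a ^ 8 := h8
          _ ≤ 40 * 11 ^ (a - 2) := eighth_eleven a (by omega)
          _ = _ := by ring

end Cfsg.Lib.SolvLinear
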