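import Cfsg.Agent.SolvLinear.SubClasses

/-!
Class numbers of subgroups of solvable completely reducible groups on a module of square order.
-/

set_option autoImplicit false
set_option linter.style.haveILetI false
set_option linter.unusedSectionVars false

namespace Cfsg.Lib.SolvLinear

open Cfsg.Lib.OddBase Subgroup
open scoped Pointwise

universe u

/-- The table for small modules. -/
def tab (N : ℕ) : ℕ :=
  if N = 2 then 1 else if N = 3 then 2 else if N = 4 then 3 else if N = 8 then 21 else if N = 9 then 9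
  else if N = 16 then 27 else if N = 27 then 2460 else if N = 32 then 200 else if N = 64 then 2187 else 6561

/-- The moduli of the table. -/
def smallList : List ℕ := [2, 3, 4, 8, 9, 16, 27, 32, 64, 81]

theorem sb_card_autos {A V : Type u} [Group A] [Finite A] [AddCommGroup V] [Finite V] [DistribMulAction A V]
    [FaithfulSMul A V] {p : ℕ} (hp : p.Prime) (hcard : Nat.card V = p) : SB A (p - 1) := by
  classical
  refine sb_card ?_
  haveI : Nontrivial V := Finite.one_lt_card_iff_nontrivial.1 (hcard ▸ hp.one_lt)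
  obtain ⟨v, hv⟩ := exists_ne (0 : V)
  have htop : AddSubgroup.zmultiples v = ⊤ := by
    refine AddSubgroup.eq_top_of_card_eq _ ?_
    rw [Nat.card_zmultiples, hcard]
    refine ((Nat.dvd_prime hp).1 (hcard ▸ addOrderOf_dvd_natCard v)).resolve_left fun h => hv ?_
    exact AddMonoid.addOrderOf_eq_one_iff.1 h
  refine (Nat.card_le_card_of_injective (fun g : A => (⟨g • v, fun h => hv ((smul_eq_zero_iff_eq g).1 h)⟩ :
    {x : V // x ≠ 0})) fun g h e => ?_).trans ?_
  · refine eq_of_smul_eq_smul fun w : V => ?_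
    obtain ⟨i, rfl⟩ := (show w ∈ AddSubgroup.zmultiples v from htop ▸ AddSubgroup.mem_top w)
    have e1 : ∀ a : A, a • (i • v) = i • (a • v) := fun a =>
      map_zsmul (DistribSMul.toAddMonoidHom V a) i v
    rw [e1, e1, show g • v = h • v from congrArg Subtype.val e]
  · have h : Nat.card V = Nat.card {x : V // x ≠ 0} + 1 := by
      rw [← Nat.card_congr (Equiv.optionSubtypeNe (0 : V)), Finite.card_option]
    omega

theorem tab_mul : ∀ N ∈ [16, 32, 64, 81], ∀ u ∈ smallList, ∀ w ∈ smallList, u * w = N →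
    tab w * tab u ≤ tab N := by decide

theorem tab_blocks : ∀ N ∈ [16, 32, 64, 81], ∀ u ∈ smallList, ∀ b ∈ [2, 3, 4, 5, 6], u ^ b = N →
    tab u ^ b * 2 ^ (b - 1) ≤ tab N := by decide

theorem mem_smallList {N u : ℕ} (hN : N ∈ [16, 32, 64, 81]) (hu : u ∣ N) (h2 : 2 ≤ u) (hlt : u < N) :
    u ∈ smallList := by
  simp only [List.mem_cons, List.not_mem_nil, or_false] at hN
  rcases hN with rfl | rfl | rfl | rfl <;> interval_cases u <;> first | decide | norm_num at hu

/-- The semilinear group on sixteen vectors. -/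
theorem sb_sixteen {A : Type u} [Group A] [Finite A] (Z : Subgroup A) [Z.Normal] [IsMulCommutative Z]
    {K : Type u} [Field K] (ι : Z →* Kˣ) (hι : Function.Injective ι) (hz : Nat.card Z ≤ 15)
    (hi : Z.index ≤ 4) (hCZ : centralizer (Z : Set A) ≤ Z)
    (hstab : ∀ z : Z, ∃ m0 δ : ℕ, 4 = m0 * δ ∧ orderOf z ∣ 2 ^ m0 - 1 ∧
      (centralizer (Z : Set A)).relIndex (centralizer {(z : A)}) ≤ δ) : SB A 27 := by
  classical
  refine sb_mono (sb_centralizer (fun g => g ∈ Z) (z := 15) (M := 12) (one_mem Z) (by norm_num) hz ?_)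
    (by norm_num)
  intro g hg
  set Cg := centralizer ({g} : Set A)
  have h3 : Nat.card (Cg ⊓ Z : Subgroup A) ≤ 3 := by
    have hfix : ∀ z : Z, (z : A) ∈ Cg → z ^ 3 = 1 := by
      intro z hz'
      obtain ⟨m0, δ, h4, hord, hrel⟩ := hstab z
      have hgz : g ∈ centralizer {(z : A)} :=
        mem_centralizer_singleton_iff.2 (mem_centralizer_singleton_iff.1 hz').symm
      have hδ : 2 ≤ δ := by
        by_contra hc
        have h1 : (centralizer (Z : Set A)).relIndex (centralizer {(z : A)}) = 1 := by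
          have := Subgroup.FiniteIndex.index_ne_zero (H := (centralizer (Z : Set A)).subgroupOf
            (centralizer {(z : A)}))
          rw [Subgroup.relIndex] at hrel ⊢
          omega
        exact hg (hCZ (Subgroup.relIndex_eq_one.1 h1 hgz))
      have hm : m0 = 1 ∨ m0 = 2 := by
        have h1 : m0 * 2 ≤ 4 := h4 ▸ Nat.mul_le_mul_left m0 hδ
        have h0 : m0 ≠ 0 := by rintro rfl; simp at h4
        omega
      refine orderOf_dvd_iff_pow_eq_one.1 (hord.trans ?_)
      rcases hm with rfl | rfl <;> norm_num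
    let e : (Cg ⊓ Z : Subgroup A) → rootsOfUnity 3 K := fun x => ⟨ι ⟨x.1, x.2.2⟩, by
      rw [mem_rootsOfUnity, ← map_pow, hfix ⟨x.1, x.2.2⟩ x.2.1, map_one]⟩
    exact (Nat.card_le_card_of_injective e fun x y h =>
      Subtype.ext (congrArg (fun z : Z => (z : A)) (show (⟨x.1, x.2.2⟩ : Z) = ⟨y.1, y.2.2⟩ from
        hι (congrArg Subtype.val h)))).trans
      (card_rootsOfUnity K 3)
  have h4 : (Cg ⊓ Z).relIndex Cg ≤ 4 := by
    rw [inf_comm, Subgroup.inf_relIndex_right]
    exact (Nat.le_of_dvd (Nat.pos_of_ne_zero Subgroup.index_ne_zero_of_finite)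
      (Subgroup.relIndex_dvd_index_of_normal Z Cg)).trans hi
  calc Nat.card Cg = Nat.card (Cg ⊓ Z : Subgroup A) * (Cg ⊓ Z).relIndex Cg := by
        rw [← Subgroup.relIndex_bot_left, ← Subgroup.relIndex_bot_left,
          Subgroup.relIndex_mul_relIndex _ _ _ bot_le inf_le_left]
    _ ≤ 3 * 4 := Nat.mul_le_mul h3 h4

/-- The table. -/
theorem sb_table : ∀ (N : ℕ) (A V : Type u) [Group A] [Finite A] [Group.IsSolvable A] [AddCommGroup V]
    [Finite V] [DistribMulAction A V] [FaithfulSMul A V],
    N ∈ smallList → Nat.card V = N → CR A V → SB A (tab N) := by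
  intro N
  induction N using Nat.strong_induction_on with
  | _ N ih =>
  intro A V _ _ _ _ _ _ _ hN hn hcr
  classical
  by_cases hbig : N ∉ [16, 32, 64, 81]
  · have hcase : N = 2 ∨ N = 3 ∨ N = 4 ∨ N = 8 ∨ N = 9 ∨ N = 27 := by
      simp only [smallList, List.mem_cons, List.not_mem_nil, or_false] at hN hbig
      omega
    rcases hcase with rfl | rfl | rfl | rfl | rfl | rfl
    · exact sb_card_autos Nat.prime_two hn
    · exact sb_card_autos Nat.prime_three hn
    · exact sb_two (q := 2) Nat.prime_two (exp_of_cr (e := 2) hcr Nat.prime_two hn) hn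
    · haveI : Nontrivial V := Finite.one_lt_card_iff_nontrivial.1 (hn ▸ by norm_num)
      exact sb_card ((card_solvable_cr_le _ A V hn hcr).2.2.2.1 rfl)
    · exact sb_two (q := 3) Nat.prime_three (exp_of_cr (e := 2) hcr Nat.prime_three hn) hn
    · haveI : Nontrivial V := Finite.one_lt_card_iff_nontrivial.1 (hn ▸ by norm_num)
      refine sb_card (le_trans ?_ (le_of_eq (show (2460 : ℕ) = tab 27 from rfl)))
      have := (card_solvable_cr_le _ A V hn hcr).1
      norm_num at this
      omega
  rw [not_not] at hbig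
  haveI : Nontrivial V := Finite.one_lt_card_iff_nontrivial.1 (by
    rw [hn]
    simp only [List.mem_cons, List.not_mem_nil, or_false] at hbig
    omega)
  by_cases hirr : Irr A V
  swap
  · simp only [Irr, not_forall, not_or] at hirr
    obtain ⟨U, hU, hU0, hU1⟩ := hirr
    obtain ⟨T, T', X, X', _, _, _, _, _, _, _, _, f, hf, hfX, hfX', hcX, hcX', hmul, hT, hT'⟩ :=
      sb_reducible hcr U hU hU0 hU1
    haveI := hfX
    haveI := hfX'
    rw [hn] at hmul
    have h1 : Nat.card T < N := by
      rw [← hmul]; exact lt_mul_right (by omega) (by omega)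
    have h2 : Nat.card T' < N := by
      rw [← hmul, mul_comm]; exact lt_mul_right (by omega) (by omega)
    have m1 := mem_smallList hbig ⟨_, hmul.symm⟩ hT h1
    have m2 := mem_smallList hbig ⟨_, (mul_comm _ _).trans hmul |>.symm⟩ hT' h2
    exact sb_mono (sb_of_injective f hf (sb_prod (ih _ h1 X T m1 rfl hcX) (ih _ h2 X' T' m2 rfl hcX')))
      (tab_mul N hbig _ m1 _ m2 hmul)
  rcases sys_or_idem (A := A) hirr with ⟨U, hU, hlt, -, hb⟩ | hidem
  · haveI := ind_nontrivial hU
    have hcardU := hU.2
    rw [hn] at hcardU hlt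
    have hb6 : (stab A U).index ≤ 6 := by
      by_contra hc
      have h1 : 2 ^ 7 ≤ Nat.card U ^ (stab A U).index :=
        (Nat.pow_le_pow_right (by norm_num) (by omega)).trans (Nat.pow_le_pow_left Finite.one_lt_card _)
      simp only [List.mem_cons, List.not_mem_nil, or_false] at hbig
      omega
    have m1 := mem_smallList hbig (hcardU ▸ dvd_pow_self _ (by omega)) Finite.one_lt_card hlt
    have hI := ih _ hlt (Ind A U) U m1 rfl (cr_of_irr (ind_irr hirr hU))
    have hK : (⊥ : Subgroup A) = (lift U (MonoidHom.id (Ind A U)).ker).normalCore := by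
      rw [MonoidHom.ker_id, lift_bot_core hirr hU]
    have h := sb_blocks (MonoidHom.id _) hI ⊥ hK
    refine sb_mono (sb_of_injective (QuotientGroup.mk' (⊥ : Subgroup A)) ?_ h)
      (tab_blocks N hbig _ m1 _ ?_ hcardU)
    · exact (MonoidHom.ker_eq_bot_iff _).1 (QuotientGroup.ker_mk' ⊥)
    · simp only [List.mem_cons, List.not_mem_nil, or_false]; omega
  obtain ⟨Z, hZn, hZc, hmax⟩ := exists_maxAbelian A
  haveI := hZn
  haveI := hZc
  obtain ⟨p, m, d, K, _, ι, hp, hm, hd, hV, hι, hzdvd, hδ, hrd, hstab⟩ := field_data hirr hmax (hidem Z)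
  rw [hn] at hV
  set C := centralizer (Z : Set A)
  have hQ2 : 2 ≤ p ^ m := hp.two_le.trans (Nat.le_self_pow hm p)
  have hz : Nat.card Z ≤ p ^ m - 1 := Nat.le_of_dvd (by omega) hzdvd
  have hmd : (N = 16 ∧ p = 2 ∧ m * d = 4) ∨ (N = 32 ∧ p = 2 ∧ m * d = 5) ∨ (N = 64 ∧ p = 2 ∧ m * d = 6) ∨
      (N = 81 ∧ p = 3 ∧ m * d = 4) := by
    have key : ∀ q j : ℕ, q.Prime → j ≠ 0 → p ^ (m * d) = q ^ j → p = q ∧ m * d = j := by
      intro q j hq hj h
      have hdv : p ∣ q ^ j := h ▸ dvd_pow_self p (Nat.mul_ne_zero hm hd)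
      have := (Nat.prime_dvd_prime_iff_eq hp hq).1 (hp.dvd_of_dvd_pow hdv)
      subst this
      exact ⟨rfl, Nat.pow_right_injective hp.two_le h⟩
    simp only [List.mem_cons, List.not_mem_nil, or_false] at hbig
    rcases hbig with rfl | rfl | rfl | rfl
    · exact Or.inl ⟨rfl, key 2 4 Nat.prime_two (by norm_num) (by rw [← hV]; norm_num)⟩
    · exact Or.inr (Or.inl ⟨rfl, key 2 5 Nat.prime_two (by norm_num) (by rw [← hV]; norm_num)⟩)
    · exact Or.inr (Or.inr (Or.inl ⟨rfl, key 2 6 Nat.prime_two (by norm_num) (by rw [← hV]; norm_num)⟩))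
    · exact Or.inr (Or.inr (Or.inr ⟨rfl, key 3 4 Nat.prime_three (by norm_num) (by rw [← hV]; norm_num)⟩))
  have hA : Nat.card A = C.index * (Nat.card Z * Z.relIndex C) := by
    have h1 := Subgroup.relIndex_mul_relIndex ⊥ Z C bot_le (Subgroup.le_centralizer Z)
    rw [Subgroup.relIndex_bot_left, Subgroup.relIndex_bot_left] at h1
    rw [h1, mul_comm, C.card_mul_index]
  by_cases hne : C ≤ Z
  · have hA' : Nat.card A ≤ m * (p ^ m - 1) := by
      rw [hA, Subgroup.relIndex_eq_one.2 hne, mul_one]
      exact Nat.mul_le_mul hδ hz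
    have hm' : m ∣ m * d := dvd_mul_right m d
    rcases hmd with ⟨rfl, rfl, h⟩ | ⟨rfl, rfl, h⟩ | ⟨rfl, rfl, h⟩ | ⟨rfl, rfl, h⟩
    · by_cases hm4 : m = 4
      · subst hm4
        refine sb_sixteen Z ι hι (hz.trans (by norm_num)) ?_ hne hstab
        rwa [show Z = C from le_antisymm (Subgroup.le_centralizer Z) hne]
      · rw [h] at hm'
        have := Nat.le_of_dvd (by norm_num) hm'
        refine sb_card (hA'.trans ?_)
        interval_cases m
        all_goals first | omega | (norm_num [tab]; done) | (norm_num at hm')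
    all_goals
      rw [h] at hm'
      have := Nat.le_of_dvd (by norm_num) hm'
      refine sb_card (hA'.trans ?_)
      interval_cases m
      all_goals first | omega | (norm_num [tab]; done) | (norm_num at hm')
  set L := socle Z C with hLdef
  obtain ⟨r, hr⟩ := socle_index_square hι hmax hne
  have hZL : Z < L := exists_socle hne
  have hr2 : 2 ≤ r := by
    rcases r with _ | _ | r
    · exact absurd (show Z.relIndex L = 0 by rw [hr]) Subgroup.FiniteIndex.index_ne_zero
    · exact absurd (Subgroup.relIndex_eq_one.1 (show Z.relIndex L = 1 by rw [hr])) (not_le_of_gt hZL)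
    · omega
  have hrd' : r ≤ d := by
    have := hrd hne; rw [hr] at this; exact Nat.mul_self_le_mul_self_iff.1 this
  obtain ⟨W, X, _, _, _, _, _, _, hfW, hcW, hWc, hYX, -⟩ := socle_module hι hmax hne
  haveI := hfW
  rw [hr] at hWc
  haveI : Nontrivial W := Finite.one_lt_card_iff_nontrivial.1 (by rw [hWc]; nlinarith)
  have bX := card_solvable_cr_le _ X W rfl hcW
  rw [hWc] at bX
  set Y := L.relIndex C with hYdef
  have hZC : Z.relIndex C = r * r * Y := by
    rw [← hr, hYdef, Subgroup.relIndex_mul_relIndex Z L C hZL.le (socle_le Z C)]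
  have hA' : Nat.card A ≤ m * ((p ^ m - 1) * (r * r * Y)) := by
    rw [hA, hZC]
    exact Nat.mul_le_mul hδ (Nat.mul_le_mul_right _ hz)
  have hprimes : ∀ s : ℕ, s.Prime → s ∣ r → s ∣ p ^ m - 1 := fun s hs hsr =>
    (prime_dvd_card hι hmax hne s hs (hr ▸ hsr.mul_right r)).trans hzdvd
  have hm1 : 1 ≤ m := by omega
  have hmd' : m * r ≤ m * d := Nat.mul_le_mul_left m hrd'
  have hmr : 2 * m ≤ m * r := by rw [mul_comm 2]; exact Nat.mul_le_mul_left m hr2
  rcases hmd with ⟨rfl, rfl, h⟩ | ⟨rfl, rfl, h⟩ | ⟨rfl, rfl, h⟩ | ⟨rfl, rfl, h⟩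
  · have hm2 : m ≤ 2 := by omega
    interval_cases m
    · obtain ⟨s, hs, hsr⟩ := Nat.exists_prime_and_dvd (show r ≠ 1 by omega)
      have := hprimes s hs hsr
      norm_num at this
      exact absurd this hs.ne_one
    · have : r = 2 := by omega
      subst this
      have := hprimes 2 Nat.prime_two dvd_rfl
      norm_num at this
  · have hm5 : m ∣ 5 := ⟨d, h.symm⟩
    have hm2 : m ≤ 2 := by omega
    interval_cases m
    · obtain ⟨s, hs, hsr⟩ := Nat.exists_prime_and_dvd (show r ≠ 1 by omega)
      have := hprimes s hs hsr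
      norm_num at this
      exact absurd this hs.ne_one
    · norm_num at hm5
  · have hm3 : m ≤ 3 := by omega
    interval_cases m
    · obtain ⟨s, hs, hsr⟩ := Nat.exists_prime_and_dvd (show r ≠ 1 by omega)
      have := hprimes s hs hsr
      norm_num at this
      exact absurd this hs.ne_one
    · have : r ≤ 3 := by omega
      interval_cases r
      · have := hprimes 2 Nat.prime_two dvd_rfl
        norm_num at this
      · have hY' : Y ≤ _ := relIndex_socle_le_prime hι hmax hne Nat.prime_three hr
        refine sb_card (hA'.trans ?_)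
        norm_num [tab] at hY' ⊢
        omega
    · have : r = 2 := by omega
      subst this
      have := hprimes 2 Nat.prime_two dvd_rfl
      norm_num at this
  · have hm2 : m ≤ 2 := by omega
    have hr3 : r ≠ 3 := by
      intro hr3
      have h1 := hprimes 3 Nat.prime_three (hr3 ▸ dvd_rfl)
      interval_cases m <;> norm_num at h1
    refine sb_card (hA'.trans ?_)
    have hr4 : r ≤ 4 := by
      have := Nat.le_mul_of_pos_left r (show 0 < m by omega); omega
    interval_cases r
    · have := hYX.trans (bX.2.2.1 (by norm_num))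
      interval_cases m <;> norm_num [tab] <;> omega
    · exact absurd rfl hr3
    · have := hYX.trans (bX.2.2.2.2 (by norm_num))
      have : m = 1 := by omega
      subst this
      norm_num [tab]
      omega

theorem six_pow_le (r : ℕ) (h : 14 ≤ r) : r ^ 6 ≤ 8 * 3 ^ (r - 1) := by
  induction r, h using Nat.le_induction with
  | base => norm_num
  | succ r hr ih =>
    have h1 := Nat.pow_le_pow_left (show 14 * (r + 1) ≤ 15 * r by omega) 6
    rw [mul_pow, mul_pow] at h1
    calc (r + 1) ^ 6 ≤ r ^ 6 * 3 := by norm_num at h1 ⊢; omega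
      _ ≤ 8 * 3 ^ (r - 1) * 3 := Nat.mul_le_mul_right _ ih
      _ = _ := by rw [mul_assoc, ← pow_succ]; congr 2; omega

theorem two_dim_le (q : ℕ) (h : 2 ≤ q) : q * q + q - 3 ≤ 3 ^ (q - 1) := by
  induction q, h using Nat.le_induction with
  | base => norm_num
  | succ q hq ih =>
    have h1 : 3 ^ (q + 1 - 1) = 3 * 3 ^ (q - 1) := by rw [← pow_succ']; congr 1; omega
    have h2 : (q + 1) * (q + 1) + (q + 1) + 6 ≤ 3 * (q * q + q) := by nlinarith
    omega

theorem pow_split (a c : ℕ) (ha : 2 ≤ a) (hc : 2 ≤ c) : 3 ^ (c - 1) * 3 ^ (a - 1) ≤ 3 ^ (a * c - 1) := by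
  rw [← pow_add]
  refine Nat.pow_le_pow_right (by norm_num) ?_
  have h1 : a + c ≤ a * c := by nlinarith
  omega

/-- The bound for a module of square order. -/
theorem sb_socle : ∀ (r : ℕ) (A V : Type u) [Group A] [Finite A] [Group.IsSolvable A] [AddCommGroup V]
    [Finite V] [DistribMulAction A V] [FaithfulSMul A V],
    2 ≤ r → Nat.card V = r * r → CR A V → SB A (3 ^ (r - 1)) := by
  intro r
  induction r using Nat.strong_induction_on with
  | _ r ih =>
  intro A V _ _ _ _ _ _ _ hr hn hcr
  classical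
  obtain ⟨q, hq, hqr⟩ := Nat.exists_prime_and_dvd (show r ≠ 1 by omega)
  set e := r.factorization q
  have hqe : q ^ e ∣ r := Nat.ordProj_dvd r q
  obtain ⟨s, hs⟩ := hqe
  have he : 1 ≤ e := (hq.factorization_pos_of_dvd (by omega) hqr)
  have hco : Nat.Coprime (q ^ e) s := by
    refine Nat.Coprime.pow_left _ (hq.coprime_iff_not_dvd.2 fun h => ?_)
    have hs' : s = r / q ^ e := by
      rw [hs, Nat.mul_div_cancel_left _ (pow_pos hq.pos _)]
    exact Nat.not_dvd_ordCompl hq (by omega) (hs' ▸ h)
  by_cases hs1 : s = 1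
  · subst hs1
    rw [mul_one] at hs
    have hn' : Nat.card V = q ^ (2 * e) := by rw [hn, hs]; ring
    by_cases he1 : e = 1
    · rw [he1, pow_one] at hs
      subst hs
      exact sb_mono (sb_two hq (exp_of_cr hcr hq hn') (by rw [hn, pow_two])) (two_dim_le _ hr)
    rcases Nat.lt_or_ge r 14 with hr14 | hr14
    · have hr' : r = 4 ∨ r = 8 ∨ r = 9 := by
        have hq2 : q ^ 2 ≤ r := hs ▸ Nat.pow_le_pow_right hq.pos (show 2 ≤ e by omega)
        have hq3 : q ≤ 3 := by
          by_contra hc
          have := Nat.pow_le_pow_left (show 4 ≤ q by omega) 2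
          omega
        have he3 : e ≤ 3 := by
          by_contra hc
          have : 2 ^ 4 ≤ r := hs ▸ (Nat.pow_le_pow_right (by norm_num) (show 4 ≤ e by omega)).trans
            (Nat.pow_le_pow_left hq.two_le e)
          omega
        interval_cases q <;> interval_cases e
        all_goals first | omega | (norm_num at hq) | (norm_num at hs; omega)
      rcases hr' with rfl | rfl | rfl
      · exact sb_table _ A V (by decide) hn hcr
      · exact sb_table _ A V (by decide) hn hcr
      · exact sb_table _ A V (by decide) hn hcr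
    · haveI : Nontrivial V := Finite.one_lt_card_iff_nontrivial.1 (by rw [hn]; nlinarith)
      refine sb_card ?_
      have h1 := (card_solvable_cr_le _ A V hn hcr).1
      have h2 := six_pow_le r hr14
      have h3 : (r * r) ^ 3 = r ^ 6 := by ring
      omega
  · set a := q ^ e with hadef
    have hs2 : 2 ≤ s := by
      rcases s with _ | _ | s
      · simp at hs; omega
      · exact absurd rfl hs1
      · omega
    have ha2 : 2 ≤ a := hq.two_le.trans (Nat.le_self_pow (by omega) q)
    have hlt1 : a < r := by rw [hs]; exact lt_mul_right (by omega) (by omega)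
    have hlt2 : s < r := by rw [hs, mul_comm]; exact lt_mul_right (by omega) (by omega)
    let T : ℕ → AddSubgroup V := fun n => (nsmulAddMonoidHom n : V →+ V).ker
    have hT : ∀ n, ∀ g : A, ∀ v ∈ T n, g • v ∈ T n := by
      intro n g v hv
      change n • (g • v) = 0
      have h2 := map_nsmul (DistribSMul.toAddMonoidHom V g) n v
      rw [show n • v = 0 from hv, map_zero] at h2
      exact h2.symm
    have hco2 : Nat.Coprime (a * a) (s * s) := (hco.mul_left hco).mul_right (hco.mul_left hco)
    have hn2 : Nat.card V = (a * a) * (s * s) := by rw [hn, hs]; ring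
    obtain ⟨X, _, _, hsX, _, f, hfX, hcX, hf⟩ := exists_restrict hcr (T (a * a)) (hT _)
    obtain ⟨X', _, _, hsX', _, f', hfX', hcX', hf'⟩ := exists_restrict hcr (T (s * s)) (hT _)
    haveI := hfX
    haveI := hfX'
    haveI := hsX
    haveI := hsX'
    obtain ⟨i, j, hij⟩ : ∃ i j : ℤ, i * ((a * a : ℕ) : ℤ) + j * ((s * s : ℕ) : ℤ) = 1 :=
      Int.isCoprime_iff_gcd_eq_one.2 (by rw [Int.gcd_natCast_natCast]; exact hco2)
    have hall : ∀ v : V, ((a * a) * (s * s)) • v = 0 := fun v => hn2 ▸ card_nsmul_eq_zero'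
    have hadd : ∀ v : V, ∃ (x : T (a * a)) (y : T (s * s)), (x : V) + y = v := by
      intro v
      refine ⟨⟨j • (s * s) • v, ?_⟩, ⟨i • (a * a) • v, ?_⟩, ?_⟩
      · change (a * a) • (j • (s * s) • v) = 0
        rw [smul_comm, ← mul_nsmul', hall, smul_zero]
      · change (s * s) • (i • (a * a) • v) = 0
        rw [smul_comm, ← mul_nsmul', mul_comm (s * s), hall, smul_zero]
      · change j • (s * s) • v + i • (a * a) • v = v
        rw [← natCast_zsmul v (s * s), ← natCast_zsmul v (a * a), ← mul_zsmul', ← mul_zsmul', ← add_zsmul]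
        convert one_zsmul v using 2
        linarith
    have hdis : ∀ v : V, (a * a) • v = 0 → (s * s) • v = 0 → v = 0 := by
      intro v h1 h2
      have e1 := one_zsmul v
      rw [← hij, add_zsmul, mul_zsmul, mul_zsmul, natCast_zsmul, natCast_zsmul, h1, h2, smul_zero,
        smul_zero, add_zero] at e1
      exact e1.symm
    have hcard : Nat.card (T (a * a)) * Nat.card (T (s * s)) = (a * a) * (s * s) := by
      rw [← Nat.card_prod, ← hn2]
      refine Nat.card_eq_of_bijective (fun p => (p.1 : V) + p.2) ⟨?_, fun v => ?_⟩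
      · rintro ⟨x, y⟩ ⟨x', y'⟩ h
        simp only at h
        have h1 : (x : V) - x' = (y' : V) - y := by rw [sub_eq_sub_iff_add_eq_add, h, add_comm]
        have h0 := hdis ((x : V) - x') (by rw [nsmul_sub, show (a * a) • (x : V) = 0 from x.2,
          show (a * a) • (x' : V) = 0 from x'.2, sub_zero]) (by
          rw [h1, nsmul_sub, show (s * s) • (y : V) = 0 from y.2, show (s * s) • (y' : V) = 0 from y'.2,
            sub_zero])
        rw [h0, eq_comm, sub_eq_zero] at h1
        exact Prod.ext (Subtype.ext (sub_eq_zero.1 h0)) (Subtype.ext h1.symm)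
      · obtain ⟨x, y, h⟩ := hadd v
        exact ⟨(x, y), h⟩
    have hcop : ∀ n m : ℕ, Nat.Coprime n m → Nat.Coprime (Nat.card (T n)) m := by
      intro n m hnm
      refine Nat.coprime_of_dvd fun l hl hld hlm => hl.ne_one ?_
      haveI := Fact.mk hl
      obtain ⟨x, hx⟩ := exists_prime_addOrderOf_dvd_card' l hld
      have : l ∣ n := hx ▸ addOrderOf_dvd_of_nsmul_eq_zero (Subtype.ext x.2)
      exact Nat.eq_one_of_dvd_coprimes hnm this hlm
    have hcT : Nat.card (T (a * a)) = a * a := by
      refine Nat.dvd_antisymm ((hcop _ _ hco2).dvd_of_dvd_mul_right (hcard ▸ dvd_mul_right _ _)) ?_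
      exact (hcop _ _ hco2.symm).symm.dvd_of_dvd_mul_right (hcard ▸ dvd_mul_right _ _)
    have hcT' : Nat.card (T (s * s)) = s * s := by
      rw [hcT] at hcard
      exact Nat.eq_of_mul_eq_mul_left (by nlinarith) hcard
    have hinj : Function.Injective (f.prod f') := fun x y h => eq_of_smul_eq_smul fun v : V => by
      obtain ⟨u, w, rfl⟩ := hadd v
      rw [smul_add, smul_add, ← hf, ← hf, ← hf', ← hf', show f x = f y from congrArg Prod.fst h,
        show f' x = f' y from congrArg Prod.snd h]
    exact sb_mono (sb_of_injective _ hinj (sb_prod (ih a hlt1 X _ ha2 hcT hcX) (ih s hlt2 X' _ hs2 hcT' hcX')))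
      (hs ▸ pow_split a s ha2 hs2)

end Cfsg.Lib.SolvLinear
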