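import Cfsg.Agent.SolvLinear.Prim
import Cfsg.Agent.PermClassBound.Main
import Cfsg.Agent.S4201

/-!
Bounds for the class numbers of all subgroups.
-/

set_option autoImplicit false
set_option linter.style.haveILetI false
set_option linter.unusedSectionVars false

namespace Cfsg.Lib.SolvLinear

open Cfsg.Lib.OddBase Subgroup
open scoped Pointwise

universe u v

/-- Every subgroup has at most `j` classes. -/
def SB (G : Type u) [Group G] (j : ℕ) : Prop :=
  ∀ S : Subgroup G, Nat.card (ConjClasses S) ≤ j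

theorem sb_mono {G : Type u} [Group G] {i j : ℕ} (h : SB G i) (hij : i ≤ j) : SB G j :=
  fun S => (h S).trans hij

theorem sb_card {G : Type u} [Group G] [Finite G] {j : ℕ} (h : Nat.card G ≤ j) : SB G j := fun S =>
  ((Nat.card_le_card_of_surjective ConjClasses.mk Quotient.mk_surjective).trans
    (Nat.card_le_card_of_injective _ Subtype.val_injective)).trans h

theorem sb_of_injective {G : Type u} {H : Type v} [Group G] [Group H] [Finite G] [Finite H] (f : G →* H)
    (hf : Function.Injective f) {j : ℕ} (h : SB H j) : SB G j := fun S =>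
  (card_classes_map_le (S.equivMapOfInjective f hf).symm.toMonoidHom
    (S.equivMapOfInjective f hf).symm.surjective).trans (h (S.map f))

theorem sb_of_surjective {G : Type u} {H : Type v} [Group G] [Group H] [Finite G] [Finite H] (f : G →* H)
    (hf : Function.Surjective f) {j : ℕ} (h : SB G j) : SB H j := by
  intro T
  let g : T.comap f →* T := MonoidHom.mk' (fun x => ⟨f x.1, x.2⟩) fun x y => Subtype.ext (map_mul f _ _)
  refine (card_classes_map_le g fun t => ?_).trans (h (T.comap f))
  obtain ⟨x, hx⟩ := hf t.1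
  exact ⟨⟨x, show f x ∈ T by rw [hx]; exact t.2⟩, Subtype.ext hx⟩

/-- Extensions. -/
theorem sb_ext {X : Type u} {Y : Type v} [Group X] [Group Y] [Finite X] [Finite Y] (π : X →* Y) {a b : ℕ}
    (hk : SB π.ker a) (hY : SB Y b) : SB X (a * b) := by
  intro S
  set g := π.comp S.subtype with hg
  refine (Cfsg.Agent.S4201.result g.ker).trans (Nat.mul_le_mul ?_ ?_)
  · let e : g.ker →* π.ker := MonoidHom.mk' (fun x => ⟨(x.1 : X), x.2⟩) fun x y => rfl
    have he : Function.Injective e := fun x y h =>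
      Subtype.ext (Subtype.ext (congrArg (fun z : π.ker => (z : X)) h))
    exact (card_classes_map_le (MonoidHom.ofInjective he).symm.toMonoidHom
      (MonoidHom.ofInjective he).symm.surjective).trans (hk e.range)
  · exact (card_classes_map_le (QuotientGroup.quotientKerEquivRange g).symm.toMonoidHom
      (QuotientGroup.quotientKerEquivRange g).symm.surjective).trans (hY g.range)

theorem sb_prod {G : Type u} {H : Type v} [Group G] [Group H] [Finite G] [Finite H] {a b : ℕ}
    (hG : SB G a) (hH : SB H b) : SB (G × H) (b * a) := by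
  refine sb_ext (MonoidHom.fst G H) ?_ hG
  refine sb_of_injective (MonoidHom.mk' (fun x => x.1.2) fun x y => rfl) (fun x y h => ?_) hH
  exact Subtype.ext (Prod.ext ((show x.1.1 = 1 from x.2).trans (show y.1.1 = 1 from y.2).symm) h)

theorem sb_pi_fin {G : Type u} [Group G] [Finite G] {a : ℕ} (hG : SB G a) :
    ∀ n : ℕ, SB (Fin n → G) (a ^ n) := by
  intro n
  induction n with
  | zero => exact sb_card (by simp)
  | succ n ih =>
    refine sb_of_injective (MonoidHom.mk' (fun f : Fin (n + 1) → G => (f 0, fun i : Fin n => f i.succ))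
      fun f g => rfl) (fun f g h => funext fun i => ?_) (sb_prod hG ih)
    rcases Fin.eq_zero_or_eq_succ i with rfl | ⟨j, rfl⟩
    · exact congrArg Prod.fst h
    · exact congrFun (congrArg Prod.snd h) j

theorem sb_pi {ι : Type v} [Finite ι] {G : Type u} [Group G] [Finite G] {a : ℕ} (hG : SB G a) :
    SB (ι → G) (a ^ Nat.card ι) := by
  refine sb_of_injective (MonoidHom.mk' (fun f : ι → G => f ∘ (Finite.equivFin ι).symm) fun f g => rfl)
    (fun f g h => funext fun i => ?_) (sb_pi_fin hG (Nat.card ι))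
  simpa using congrFun h (Finite.equivFin ι i)

theorem sb_perm (Ω : Type u) [Finite Ω] [Nonempty Ω] : SB (Equiv.Perm Ω) (2 ^ (Nat.card Ω - 1)) := by
  classical
  haveI := Fintype.ofFinite Ω
  intro X
  refine (Cfsg.Lib.PermClassBound.card_conjClasses_le X).trans (Nat.pow_le_pow_right (by norm_num) ?_)
  have := Cfsg.Lib.PermClassBound.orbCount_pos X
  rw [Nat.card_eq_fintype_card]
  omega

/-- Counting centralisers. -/
theorem sb_centralizer {G : Type u} [Group G] [Finite G] (P : G → Prop) {z M : ℕ} (h1 : P 1) (hM : 1 ≤ M)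
    (hz : Nat.card {g // P g} ≤ z) (hc : ∀ g, ¬ P g → Nat.card (centralizer ({g} : Set G)) ≤ M) :
    SB G (z + M - 1) := by
  classical
  intro S
  haveI := Fintype.ofFinite S
  have hsum := sum_centralizer S
  rw [← Finset.sum_filter_add_sum_filter_not Finset.univ (fun g : S => P g)] at hsum
  set n := Nat.card S
  set k := Nat.card (ConjClasses S)
  set T := Finset.univ.filter fun g : S => P g
  set T' := Finset.univ.filter fun g : S => ¬ P g
  have hT : T.card ≤ z := by
    refine le_trans ?_ hz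
    rw [show T.card = Nat.card {g : S // P g} by rw [Nat.card_eq_fintype_card, Fintype.card_subtype]]
    exact Nat.card_le_card_of_injective (fun g => (⟨g.1.1, g.2⟩ : {g // P g}))
      fun x y h => Subtype.ext (Subtype.ext (congrArg (fun w : {g // P g} => w.1) h))
  have hT1 : 1 ≤ T.card := Finset.card_pos.2 ⟨1, Finset.mem_filter.2 ⟨Finset.mem_univ _, h1⟩⟩
  have hn : T.card + T'.card = n := by
    simp only [T, T', n]
    rw [Finset.card_filter_add_card_filter_not, Finset.card_univ, Nat.card_eq_fintype_card]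
  have h2 : ∑ g ∈ T, Nat.card (centralizer ({g} : Set S)) ≤ T.card * n := by
    rw [← smul_eq_mul]
    exact Finset.sum_le_card_nsmul _ _ _ fun g _ => Nat.card_le_card_of_injective _ Subtype.val_injective
  have h3 : ∑ g ∈ T', Nat.card (centralizer ({g} : Set S)) ≤ T'.card * M := by
    rw [← smul_eq_mul]
    refine Finset.sum_le_card_nsmul _ _ _ fun g hg => le_trans ?_ (hc g (Finset.mem_filter.1 hg).2)
    exact Nat.card_le_card_of_injective (fun x => (⟨(x.1 : G), mem_centralizer_singleton_iff.2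
        (congrArg Subtype.val (mem_centralizer_singleton_iff.1 x.2))⟩ : centralizer ({(g : G)} : Set G)))
      fun x y h => Subtype.ext (Subtype.ext (congrArg (fun w : centralizer ({(g : G)} : Set G) => (w : G)) h))
  have h4 : k * n ≤ T.card * n + T'.card * M := hsum ▸ Nat.add_le_add h2 h3
  have hn0 : 0 < n := Nat.card_pos
  have h5 : k * n < (z + M) * n := by
    have h6 : T'.card * M < n * M := Nat.mul_lt_mul_of_pos_right (by omega) (by omega)
    have h7 : T.card * n ≤ z * n := Nat.mul_le_mul_right _ hT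
    rw [add_mul, mul_comm M n]
    omega
  have := Nat.lt_of_mul_lt_mul_right h5
  omega

variable {A V : Type u} [Group A] [Finite A] [AddCommGroup V] [Finite V] [DistribMulAction A V]

/-- A completely reducible module of prime power order is elementary abelian. -/
theorem exp_of_cr (hcr : CR A V) {p e : ℕ} (hp : p.Prime) (hcard : Nat.card V = p ^ e) (v : V) :
    p • v = 0 := by
  classical
  let T : AddSubgroup V := (nsmulAddMonoidHom p : V →+ V).range
  have hT : ∀ a : A, ∀ x ∈ T, a • x ∈ T := by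
    rintro a _ ⟨y, rfl⟩
    exact ⟨a • y, (map_nsmul (DistribSMul.toAddMonoidHom V a) p y).symm⟩
  obtain ⟨R, hR, hTR, hsup⟩ := hcr T hT
  have hTp : ∀ j : ℕ, ∀ x ∈ T, ∃ y : V, p ^ j • y = x := by
    intro j
    induction j with
    | zero => exact fun x _ => ⟨x, by simp⟩
    | succ j ih =>
      rintro x hx
      obtain ⟨y, rfl⟩ := hx
      obtain ⟨t, ht, r, hr, rfl⟩ := AddSubgroup.mem_sup.1 (show y ∈ T ⊔ R from hsup ▸ AddSubgroup.mem_top y)
      have hr0 : p • r = 0 := by
        have : p • r ∈ T ⊓ R := AddSubgroup.mem_inf.2 ⟨⟨r, rfl⟩, nsmul_mem hr p⟩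
        rwa [hTR, AddSubgroup.mem_bot] at this
      obtain ⟨w, hw⟩ := ih t ht
      refine ⟨w, ?_⟩
      change p ^ (j + 1) • w = p • (t + r)
      rw [nsmul_add, hr0, add_zero, ← hw, ← mul_nsmul, pow_succ]
  obtain ⟨y, hy⟩ := hTp e _ ⟨v, rfl⟩
  change p ^ e • y = p • v at hy
  rw [← hy, ← hcard]
  exact card_nsmul_eq_zero'

/-- The subgroups of `GL(2, q)`. -/
theorem sb_two [FaithfulSMul A V] {q : ℕ} (hq : q.Prime) (hexp : ∀ v : V, q • v = 0)
    (hcard : Nat.card V = q ^ 2) : SB A (q * q + q - 3) := by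
  classical
  haveI := Fact.mk hq
  have hq2 := hq.two_le
  have hline : ∀ v : V, v ≠ 0 → Nat.card (AddSubgroup.zmultiples v) = q := by
    intro v hv
    rw [Nat.card_zmultiples]
    refine (addOrderOf_eq_prime (hexp v) hv)
  have hgen : ∀ v w : V, v ≠ 0 → w ∉ AddSubgroup.zmultiples v →
      AddSubgroup.zmultiples v ⊔ AddSubgroup.zmultiples w = ⊤ := by
    intro v w hv hw
    refine AddSubgroup.eq_top_of_card_eq _ ?_
    set W := AddSubgroup.zmultiples v ⊔ AddSubgroup.zmultiples w
    have h1 : Nat.card W ∣ q ^ 2 := hcard ▸ W.card_addSubgroup_dvd_card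
    obtain ⟨i, hi, he⟩ := (Nat.dvd_prime_pow hq).1 h1
    have hne : Nat.card W ≠ q := fun h => hw (by
      have : AddSubgroup.zmultiples v = W :=
        AddSubgroup.eq_of_le_of_card_ge le_sup_left (by rw [h, hline v hv])
      rw [this]
      exact AddSubgroup.mem_sup_right (AddSubgroup.mem_zmultiples w))
    have h0 : q ≤ Nat.card W := hline v hv ▸
      Nat.card_le_card_of_injective _ (AddSubgroup.inclusion_injective le_sup_left)
    rw [hcard]
    interval_cases i
    · rw [he, pow_zero] at h0; omega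
    · exact absurd (he.trans (pow_one q)) hne
    · exact he
  haveI : Nontrivial V := Finite.one_lt_card_iff_nontrivial.1 (by rw [hcard]; nlinarith)
  obtain ⟨v₀, hv₀⟩ := exists_ne (0 : V)
  obtain ⟨w₀, hw₀⟩ : ∃ w, w ∉ AddSubgroup.zmultiples v₀ := by
    by_contra h
    push Not at h
    have h1 := hline v₀ hv₀
    rw [AddSubgroup.eq_top_iff' _ |>.2 h, AddSubgroup.card_top, hcard] at h1
    nlinarith
  -- the scalars
  let P : A → Prop := fun g => ∀ v : V, g • v ∈ AddSubgroup.zmultiples v
  have hscal : ∀ g, P g → ∃ c : ℤ, ∀ v : V, g • v = c • v := by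
    intro g hg
    obtain ⟨a, ha⟩ := hg v₀
    obtain ⟨b, hb⟩ := hg w₀
    obtain ⟨c, hc⟩ := hg (v₀ + w₀)
    simp only at ha hb hc
    simp only [smul_add] at hc
    rw [← ha, ← hb] at hc
    have h1 : (a - c) • v₀ = (c - b) • w₀ := by
      rw [sub_smul, sub_smul, sub_eq_sub_iff_add_eq_add, add_comm (c • w₀) (c • v₀), hc, add_comm]
    have hdis : (a - c) • v₀ = 0 := by
      by_contra h
      have hmem : (a - c) • v₀ ∈ AddSubgroup.zmultiples v₀ ⊓ AddSubgroup.zmultiples w₀ :=
        AddSubgroup.mem_inf.2 ⟨⟨a - c, rfl⟩, ⟨c - b, h1.symm⟩⟩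
      have hw0 : w₀ ≠ 0 := fun h0 => hw₀ (h0 ▸ zero_mem _)
      have heq : AddSubgroup.zmultiples v₀ ⊓ AddSubgroup.zmultiples w₀ = AddSubgroup.zmultiples w₀ := by
        refine AddSubgroup.eq_of_le_of_card_ge inf_le_right ?_
        rw [hline w₀ hw0]
        set I := AddSubgroup.zmultiples v₀ ⊓ AddSubgroup.zmultiples w₀
        have h2 : Nat.card I ∣ q := hline w₀ hw0 ▸ AddSubgroup.card_dvd_of_le inf_le_right
        rcases (Nat.dvd_prime hq).1 h2 with h3 | h3
        · exact absurd (AddSubgroup.mem_bot.1 (AddSubgroup.card_eq_one.1 h3 ▸ hmem)) h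
        · rw [h3]
      exact hw₀ ((inf_eq_right.1 heq) (AddSubgroup.mem_zmultiples w₀))
    have hac : a • v₀ = c • v₀ := by rwa [sub_smul, sub_eq_zero] at hdis
    have hbc : b • w₀ = c • w₀ := by
      rw [h1, sub_smul, sub_eq_zero] at hdis
      exact hdis.symm
    refine ⟨c, fun v => ?_⟩
    obtain ⟨_, ⟨i, rfl⟩, _, ⟨j, rfl⟩, rfl⟩ := AddSubgroup.mem_sup.1
      (show v ∈ AddSubgroup.zmultiples v₀ ⊔ AddSubgroup.zmultiples w₀ from
        (hgen v₀ w₀ hv₀ hw₀) ▸ AddSubgroup.mem_top v)
    simp only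
    have e1 : g • (i • v₀) = i • (g • v₀) := map_zsmul (DistribSMul.toAddMonoidHom V g) i v₀
    have e2 : g • (j • w₀) = j • (g • w₀) := map_zsmul (DistribSMul.toAddMonoidHom V g) j w₀
    rw [smul_add, e1, e2, ← ha, ← hb, hac, hbc, zsmul_add, smul_comm c i, smul_comm c j]
  refine sb_mono (sb_centralizer P (z := q - 1) (M := q * q - 1) ?_ ?_ ?_ ?_)
    (show q - 1 + (q * q - 1) - 1 ≤ q * q + q - 3 by have := Nat.mul_le_mul hq2 hq2; omega)
  · intro v; rw [one_smul]; exact AddSubgroup.mem_zmultiples v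
  · nlinarith [Nat.mul_le_mul hq2 hq2, Nat.sub_add_cancel (show 1 ≤ q * q by nlinarith)]
  · refine (Nat.card_le_card_of_injective (fun g => (⟨⟨g.1 • v₀, g.2 v₀⟩, ?_⟩ :
      {x : AddSubgroup.zmultiples v₀ // x ≠ 0})) ?_).trans ?_
    · exact fun h => hv₀ ((smul_eq_zero_iff_eq _).1 (congrArg Subtype.val h))
    · intro g h hgh
      have e : g.1 • v₀ = h.1 • v₀ := congrArg (fun x => ((x.1 : AddSubgroup.zmultiples v₀) : V)) hgh
      refine Subtype.ext (eq_of_smul_eq_smul fun v : V => ?_)
      obtain ⟨c, hc⟩ := hscal _ g.2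
      obtain ⟨d, hd⟩ := hscal _ h.2
      rw [hc v₀, hd v₀, ← sub_eq_zero, ← sub_smul, ← addOrderOf_dvd_iff_zsmul_eq_zero,
        addOrderOf_eq_prime (hexp v₀) hv₀] at e
      rw [hc, hd, ← sub_eq_zero, ← sub_smul]
      obtain ⟨t, ht⟩ := e
      rw [ht, mul_zsmul, natCast_zsmul, hexp]
      
    · have h := hline v₀ hv₀
      rw [← Nat.card_congr (Equiv.optionSubtypeNe (0 : AddSubgroup.zmultiples v₀)), Finite.card_option] at h
      omega
  · intro g hg
    simp only [P, not_forall] at hg
    obtain ⟨v, hv⟩ := hg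
    have hv0 : v ≠ 0 := fun h => hv (by subst h; rw [smul_zero]; exact zero_mem _)
    refine (Nat.card_le_card_of_injective (fun h : centralizer ({g} : Set A) => (⟨(h : A) • v, fun e => hv0 ((smul_eq_zero_iff_eq _).1 e)⟩ :
      {x : V // x ≠ 0})) ?_).trans ?_
    · intro x y hxy
      have e : (x : A) • v = (y : A) • v := congrArg Subtype.val hxy
      have e' : (x : A) • (g • v) = (y : A) • (g • v) := by
        rw [← mul_smul, ← mul_smul, mem_centralizer_singleton_iff.1 x.2, mem_centralizer_singleton_iff.1 y.2,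
          mul_smul, mul_smul, e]
      refine Subtype.ext (eq_of_smul_eq_smul fun w : V => ?_)
      obtain ⟨_, ⟨i, rfl⟩, _, ⟨j, rfl⟩, rfl⟩ := AddSubgroup.mem_sup.1
        (show w ∈ AddSubgroup.zmultiples v ⊔ AddSubgroup.zmultiples (g • v) from
          (hgen v _ hv0 hv) ▸ AddSubgroup.mem_top w)
      simp only
      have e1 : ∀ (a : A) (n : ℤ) (u : V), a • (n • u) = n • (a • u) := fun a n u =>
        map_zsmul (DistribSMul.toAddMonoidHom V a) n u
      rw [smul_add, smul_add, e1, e1, e1, e1, e, e']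
    · have h : Nat.card V = Nat.card {x : V // x ≠ 0} + 1 := by
        rw [← Nat.card_congr (Equiv.optionSubtypeNe (0 : V)), Finite.card_option]
      rw [hcard, pow_two] at h
      omega

/-- A decomposition of the group along a complemented invariant subgroup. -/
theorem sb_reducible [Group.IsSolvable A] [FaithfulSMul A V] (hcr : CR A V) (U : AddSubgroup V)
    (hU : ∀ a : A, ∀ v ∈ U, a • v ∈ U) (hU0 : U ≠ ⊥) (hU1 : U ≠ ⊤) :
    ∃ (T T' : AddSubgroup V) (X X' : Type u) (_ : Group X) (_ : Group X') (_ : Finite X) (_ : Finite X')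
      (_ : Group.IsSolvable X) (_ : Group.IsSolvable X') (_ : DistribMulAction X T) (_ : DistribMulAction X' T')
      (f : A →* X × X'), Function.Injective f ∧ FaithfulSMul X T ∧ FaithfulSMul X' T' ∧ CR X T ∧ CR X' T' ∧
      Nat.card T * Nat.card T' = Nat.card V ∧ 2 ≤ Nat.card T ∧ 2 ≤ Nat.card T' := by
  classical
  obtain ⟨W, hW, hUW, hsup⟩ := hcr U hU
  have hW0 : W ≠ ⊥ := fun h => hU1 (by rw [h, sup_bot_eq] at hsup; exact hsup)
  obtain ⟨X, _, _, hsX, _, f, hfX, hcX, hf⟩ := exists_restrict hcr U hU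
  obtain ⟨X', _, _, hsX', _, f', hfX', hcX', hf'⟩ := exists_restrict hcr W hW
  haveI : Nontrivial U := (AddSubgroup.nontrivial_iff_ne_bot U).2 hU0
  haveI : Nontrivial W := (AddSubgroup.nontrivial_iff_ne_bot W).2 hW0
  have hadd : ∀ v : V, ∃ (x : U) (y : W), (x : V) + y = v := by
    intro v
    obtain ⟨x, hx, y, hy, h⟩ := AddSubgroup.mem_sup.1 (show v ∈ U ⊔ W from hsup ▸ AddSubgroup.mem_top v)
    exact ⟨⟨x, hx⟩, ⟨y, hy⟩, h⟩
  refine ⟨U, W, X, X', inferInstance, inferInstance, inferInstance, inferInstance, hsX, hsX', inferInstance,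
    inferInstance, f.prod f', fun a b h => ?_, hfX, hfX', hcX, hcX', ?_, Finite.one_lt_card,
    Finite.one_lt_card⟩
  · refine eq_of_smul_eq_smul fun v : V => ?_
    obtain ⟨x, y, rfl⟩ := hadd v
    have h1 : f a = f b := congrArg Prod.fst h
    have h2 : f' a = f' b := congrArg Prod.snd h
    rw [smul_add, smul_add, ← hf, ← hf, ← hf', ← hf', h1, h2]
  · rw [← Nat.card_prod]
    refine Nat.card_eq_of_bijective (fun p => (p.1 : V) + p.2) ⟨?_, fun v => ?_⟩
    · rintro ⟨x, y⟩ ⟨x', y'⟩ h
      simp only at h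
      have h1 : (x : V) - x' = (y' : V) - y := by
        rw [sub_eq_sub_iff_add_eq_add, h, add_comm]
      have h2 : (x : V) - x' ∈ U ⊓ W :=
        AddSubgroup.mem_inf.2 ⟨sub_mem x.2 x'.2, h1 ▸ sub_mem y'.2 y.2⟩
      rw [hUW, AddSubgroup.mem_bot] at h2
      rw [h2, eq_comm, sub_eq_zero] at h1
      exact Prod.ext (Subtype.ext (sub_eq_zero.1 h2)) (Subtype.ext h1.symm)
    · obtain ⟨x, y, h⟩ := hadd v
      exact ⟨(x, y), h⟩

/-- The quotient by the core of a kernel in an imprimitive group. -/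
theorem sb_blocks {U : AddSubgroup V} {Q : Type u} [Group Q] [Finite Q] (f : Ind A U →* Q) {a : ℕ}
    (hQ : SB Q a) (K : Subgroup A) [K.Normal] (hK : K = (lift U f.ker).normalCore) :
    SB (A ⧸ K) (a ^ (stab A U).index * 2 ^ ((stab A U).index - 1)) := by
  classical
  set H := stab A U
  set P := MulAction.toPermHom A (A ⧸ H)
  have hPk : P.ker = H.normalCore := (Subgroup.normalCore_eq_ker H).symm
  have hmem : ∀ g ∈ P.ker, ∀ q : A ⧸ H, (q.out : A)⁻¹ * g * q.out ∈ H := by
    intro g hg q
    rw [hPk] at hg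
    have h := Subgroup.normalCore_le H ((inferInstance : H.normalCore.Normal).conj_mem g hg (q.out : A)⁻¹)
    rwa [inv_inv] at h
  let ψ : P.ker →* (A ⧸ H → Q) := MonoidHom.mk'
    (fun g q => f ((compHom A U).rangeRestrict ⟨_, hmem g g.2 q⟩)) (fun g h => funext fun q => by
      rw [Pi.mul_apply, ← map_mul f, ← map_mul]
      congr 2
      apply Subtype.ext
      simp only [Subgroup.coe_mul]
      group)
  have hKle : K ≤ P.ker := by
    rw [hPk, hK]
    exact Subgroup.normalCore_mono (Subgroup.map_subtype_le _)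
  have hψk : ψ.ker = K.subgroupOf P.ker := by
    ext g
    rw [MonoidHom.mem_ker, Subgroup.mem_subgroupOf, hK]
    constructor
    · intro h c
      obtain ⟨h0, hh⟩ := QuotientGroup.mk_out_eq_mul H c⁻¹
      have h1 : f ((compHom A U).rangeRestrict ⟨_, hmem g g.2 ((c⁻¹ : A) : A ⧸ H)⟩) = 1 := congrFun h _
      set x : H := ⟨_, hmem g g.2 ((c⁻¹ : A) : A ⧸ H)⟩ with hx
      refine ⟨h0 * x * h0⁻¹, ?_, ?_⟩
      · rw [SetLike.mem_coe, Subgroup.mem_comap, MonoidHom.mem_ker, map_mul, map_mul, map_mul, map_mul, h1,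
          mul_one, ← map_mul f, ← map_mul, mul_inv_cancel, map_one, map_one]
      · simp only [hx, Subgroup.coe_subtype, Subgroup.coe_mul, Subgroup.coe_inv, hh]
        group
    · intro h
      funext q
      obtain ⟨x, hx, hxe⟩ : (q.out : A)⁻¹ * g * (q.out : A)⁻¹⁻¹ ∈ lift U f.ker := h _
      rw [inv_inv] at hxe
      rw [Pi.one_apply]
      change f ((compHom A U).rangeRestrict ⟨_, hmem g g.2 q⟩) = 1
      rw [show (⟨_, hmem g g.2 q⟩ : H) = x from Subtype.ext hxe.symm]
      exact hx
  set π := QuotientGroup.lift K P hKle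
  have hkerπ : SB π.ker (a ^ H.index) := by
    set g := (QuotientGroup.mk' K).comp P.ker.subtype with hg
    have hgk : g.ker = ψ.ker := by
      rw [hψk]; ext x
      rw [MonoidHom.mem_ker, Subgroup.mem_subgroupOf, ← QuotientGroup.eq_one_iff]
      rfl
    have hgr : π.ker = g.range := by
      rw [hg, MonoidHom.range_comp, Subgroup.range_subtype]
      exact QuotientGroup.ker_lift K P hKle
    let e : π.ker ≃* ψ.range :=
      (MulEquiv.subgroupCongr hgr).trans (((QuotientGroup.quotientKerEquivRange g).symm.trans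
        (QuotientGroup.quotientMulEquivOfEq hgk)).trans (QuotientGroup.quotientKerEquivRange ψ))
    refine sb_of_injective (ψ.range.subtype.comp e.toMonoidHom) (Subtype.val_injective.comp e.injective) ?_
    have := sb_pi (ι := A ⧸ H) hQ
    rwa [← Subgroup.index_eq_card] at this
  have hperm := sb_perm (A ⧸ H)
  rw [← Subgroup.index_eq_card] at hperm
  exact sb_ext π hkerπ hperm

/-- The trivial kernel in an imprimitive group. -/
theorem lift_bot_core [FaithfulSMul A V] (hirr : Irr A V) {U : AddSubgroup V} (hU : Sys A U) :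
    (lift U (⊥ : Subgroup (Ind A U))).normalCore = ⊥ := by
  refine (Subgroup.eq_bot_iff_forall _).2 fun g hg => eq_of_smul_eq_smul fun v : V => ?_
  haveI := Fintype.ofFinite (A ⧸ stab A U)
  obtain ⟨fv, rfl⟩ := (sumMap_bijective hirr hU).2 v
  rw [one_smul]
  change g • (∑ q : A ⧸ stab A U, (q.out : A) • (fv q : V)) = _
  rw [Finset.smul_sum]
  refine Finset.sum_congr rfl fun q _ => ?_
  obtain ⟨g', hg', hge⟩ : (q.out : A)⁻¹ * g * (q.out : A)⁻¹⁻¹ ∈ lift U ⊥ := hg _
  rw [inv_inv] at hge
  have hk : (compHom A U).rangeRestrict g' = 1 := hg'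
  have h3 := ind_smul U g' (fv q)
  rw [hk, one_smul] at h3
  have hge' : (g' : A) = (q.out : A)⁻¹ * g * q.out := hge
  rw [hge'] at h3
  rw [← mul_smul]
  calc (g * q.out) • (fv q : V) = (q.out : A) • (((q.out : A)⁻¹ * g * q.out) • (fv q : V)) := by
        rw [← mul_smul]; congr 1; group
    _ = _ := by rw [← h3]

/-- An irreducible group is imprimitive or has no idempotents in abelian normal subalgebras. -/
theorem sys_or_idem [Nontrivial V] (hirr : Irr A V) :
    (∃ U : AddSubgroup V, Sys A U ∧ Nat.card U < Nat.card V ∧ Subgroup.center A ≤ stab A U ∧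
      2 ≤ (stab A U).index) ∨
      ∀ (Z : Subgroup A) [Z.Normal] [IsMulCommutative Z], ∀ e ∈ alg A V Z, e * e = e → e = 0 ∨ e = 1 := by
  classical
  refine or_iff_not_imp_left.2 fun h Z _ _ e he hee => ?_
  by_contra hc
  push Not at hc
  obtain ⟨U, hU, hUtop, hcen⟩ := sys_of_idem hirr Z e he hee hc.1 hc.2
  have hlt : Nat.card U < Nat.card V := lt_of_le_of_ne (Nat.card_le_card_of_injective _ Subtype.val_injective)
    fun he => hUtop (AddSubgroup.eq_top_of_card_eq U he)
  refine h ⟨U, hU, hlt, hcen, ?_⟩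
  by_contra hb
  have h0 : (stab A U).index ≠ 0 := Subgroup.index_ne_zero_of_finite
  have h2 := hU.2
  rw [show (stab A U).index = 1 by omega, pow_one] at h2
  omega

end Cfsg.Lib.SolvLinear
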